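import Mathlib.FieldTheory.Finite.GaloisField
import Mathlib.RingTheory.Norm.Transitivity
import Mathlib.LinearAlgebra.Determinant
import Mathlib.LinearAlgebra.Matrix.ToLin

/-!
Overgroups of a semilinear group in a linear group over a subfield: the elementary elements and their action.
Throughout, the space is `Fin (m + 2) → K` and the big group consists of the invertible `F`-linear maps.
-/

set_option autoImplicit false
set_option linter.unusedSectionVars false

namespace CfsgLib.FieldMax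

open Module

variable {F : Type*} [Field F] [Finite F] {K : Type*} [Field K] [Algebra F K] [Finite K] {m : ℕ}

local notation "V" => (Fin (m + 2) → K)
local notation "GV" => ((Fin (m + 2) → K) ≃ₗ[F] (Fin (m + 2) → K))

/-- The map sends every scalar multiplication to a scalar multiplication. -/
def SemiLin (g : GV) : Prop := ∀ k : K, ∃ k' : K, ∀ x : V, g (k • x) = k' • g x

/-- The map commutes with the scalars. -/
def KLin (g : GV) : Prop := ∀ (k : K) (x : V), g (k • x) = k • g x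

theorem KLin.semiLin {g : GV} (h : KLin g) : SemiLin g := fun k => ⟨k, h k⟩

theorem KLin.mul {g h : GV} (hg : KLin g) (hh : KLin h) : KLin (g * h) := fun k x => by
  show g (h (k • x)) = k • g (h x)
  rw [hh, hg]

theorem KLin.inv {g : GV} (hg : KLin g) : KLin g⁻¹ := fun k x => by
  show g.symm (k • x) = k • g.symm x
  rw [LinearEquiv.symm_apply_eq, hg, LinearEquiv.apply_symm_apply]

theorem KLin.one : KLin (1 : GV) := fun _ _ => rfl

theorem SemiLin.mul {g h : GV} (hg : SemiLin g) (hh : SemiLin h) : SemiLin (g * h) := fun k => by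
  obtain ⟨k₁, h₁⟩ := hh k
  obtain ⟨k₂, h₂⟩ := hg k₁
  exact ⟨k₂, fun x => by show g (h (k • x)) = k₂ • g (h x); rw [h₁, h₂]⟩

/-- The first basis vector. -/
def v0 : V := Pi.single 0 1

theorem v0_ne_zero : (v0 : V) ≠ 0 := fun h => by simpa [v0] using congrFun h 0

theorem SemiLin.exists_hom {g : GV} (hg : SemiLin g) :
    ∃ σ : K →ₐ[F] K, ∀ (k : K) (x : V), g (k • x) = σ k • g x := by
  choose σ hσ using hg
  have hv : g v0 ≠ 0 := fun h => v0_ne_zero (g.injective (h.trans (map_zero g).symm))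
  have hinj : ∀ a b : K, a • g v0 = b • g v0 → a = b := fun a b h => smul_left_injective K hv h
  refine ⟨
    { toFun := σ
      map_one' := hinj _ _ (by rw [← hσ, one_smul, one_smul])
      map_mul' := fun a b => hinj _ _ (by rw [← hσ, mul_smul, hσ, hσ, mul_smul])
      map_zero' := hinj _ _ (by rw [← hσ, zero_smul, zero_smul, map_zero])
      map_add' := fun a b => hinj _ _ (by rw [← hσ, add_smul, map_add, hσ, hσ, add_smul])
      commutes' := fun a => hinj _ _ (by rw [← hσ, algebraMap_smul, map_smul, algebraMap_smul]) }, hσ⟩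

theorem SemiLin.inv {g : GV} (hg : SemiLin g) : SemiLin g⁻¹ := fun k => by
  obtain ⟨σ, hσ⟩ := hg.exists_hom
  obtain ⟨k', hk'⟩ := (Finite.injective_iff_surjective.1 σ.toRingHom.injective) k
  refine ⟨k', fun x => ?_⟩
  show g.symm (k • x) = k' • g.symm x
  rw [LinearEquiv.symm_apply_eq, hσ, LinearEquiv.apply_symm_apply]
  exact congrArg (· • x) hk'.symm

/-- One plus a square-zero map. -/
def oneAdd (A : Module.End F V) (hA : ∀ x, A (A x) = 0) : GV :=
  LinearEquiv.ofLinear (1 + A) (1 - A)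
    (LinearMap.ext fun x => by simp [hA])
    (LinearMap.ext fun x => by simp [hA])

@[simp] theorem oneAdd_apply (A : Module.End F V) (hA : ∀ x, A (A x) = 0) (x : V) :
    oneAdd A hA x = x + A x := rfl

theorem det_oneAdd (A : Module.End F V) (hA : ∀ x, A (A x) = 0) : LinearEquiv.det (oneAdd A hA) = 1 := by
  obtain ⟨p, hp⟩ := CharP.exists F
  have hpp : p.Prime := CharP.char_is_prime F p
  have : Fact p.Prime := ⟨hpp⟩
  have hpow : ∀ (j : ℕ) (x : V), (oneAdd A hA ^ j) x = x + (j : F) • A x := by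
    intro j
    induction j with
    | zero => intro x; simp
    | succ j ih =>
      intro x
      rw [pow_succ', LinearEquiv.mul_apply, ih, oneAdd_apply, map_add, map_smul, hA, smul_zero, add_zero,
        Nat.cast_succ, add_smul, one_smul, add_assoc]
  have h1 : oneAdd A hA ^ p = 1 := LinearEquiv.ext fun x => by simp [hpow]
  have h2 := congrArg (fun u : Fˣ => (u : F)) (congrArg LinearEquiv.det h1)
  simp only [map_pow, map_one, Units.val_pow_eq_pow_val, Units.val_one] at h2
  have h3 : ((LinearEquiv.det (oneAdd A hA) : Fˣ) : F) - 1 = 0 :=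
    pow_eq_zero_iff hpp.ne_zero |>.1 (by rw [sub_pow_char, h2, one_pow, sub_self])
  exact Units.ext (sub_eq_zero.1 h3)

/-- A subgroup of the determinant one group properly containing the semilinear elements. -/
structure Over (H : Subgroup GV) : Prop where
  semi : ∀ g : GV, SemiLin g → LinearEquiv.det g = 1 → g ∈ H
  det : ∀ g ∈ H, LinearEquiv.det g = 1
  ne : ∃ g ∈ H, ¬ SemiLin g

variable {H : Subgroup ((Fin (m + 2) → K) ≃ₗ[F] (Fin (m + 2) → K))}

theorem Over.oneAdd_mem (hH : Over H) (A : Module.End F V) (hA : ∀ x, A (A x) = 0)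
    (hK : ∀ (k : K) x, A (k • x) = k • A x) : oneAdd A hA ∈ H ∧ KLin (oneAdd A hA) := by
  have h : KLin (oneAdd A hA) := fun k x => by simp [hK]
  exact ⟨hH.semi _ h.semiLin (det_oneAdd A hA), h⟩

/-- The endomorphisms attached to the position `(a, b)` in `H`. -/
def root (H : Subgroup GV) (a b : Fin (m + 2)) : Set (K →ₗ[F] K) :=
  {g | ∃ h ∈ H, ∀ x : V, h x = x + Pi.single a (g (x b))}

/-- The endomorphism of the space at position `(a, b)`. -/
def el (a b : Fin (m + 2)) (g : K →ₗ[F] K) : Module.End F V :=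
  (LinearMap.single F (fun _ => K) a).comp (g.comp (LinearMap.proj b))

theorem el_apply (a b : Fin (m + 2)) (g : K →ₗ[F] K) (x : V) : el a b g x = Pi.single a (g (x b)) := rfl

theorem el_sq {a b : Fin (m + 2)} (hab : a ≠ b) (g : K →ₗ[F] K) (x : V) : el a b g (el a b g x) = 0 := by
  simp [el_apply, Ne.symm hab]

theorem mem_root_iff {a b : Fin (m + 2)} (hab : a ≠ b) (g : K →ₗ[F] K) :
    g ∈ root H a b ↔ oneAdd (el a b g) (el_sq hab g) ∈ H := by
  constructor
  · rintro ⟨h, hh, hg⟩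
    rwa [show oneAdd (el a b g) (el_sq hab g) = h from LinearEquiv.ext fun x => by simp [hg, el_apply]]
  · exact fun h => ⟨_, h, fun x => rfl⟩

theorem root_zero (a b : Fin (m + 2)) : (0 : K →ₗ[F] K) ∈ root H a b :=
  ⟨1, one_mem H, fun x => by simp⟩

theorem root_add {a b : Fin (m + 2)} (hab : a ≠ b) {f g : K →ₗ[F] K} (hf : f ∈ root H a b)
    (hg : g ∈ root H a b) : f + g ∈ root H a b := by
  obtain ⟨h₁, hh₁, e₁⟩ := hf
  obtain ⟨h₂, hh₂, e₂⟩ := hg
  refine ⟨h₁ * h₂, mul_mem hh₁ hh₂, fun x => ?_⟩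
  rw [LinearEquiv.mul_apply, e₂, e₁, Pi.add_apply, Pi.single_eq_of_ne hab.symm, add_zero, LinearMap.add_apply,
    Pi.single_add]
  abel

theorem root_neg {a b : Fin (m + 2)} (hab : a ≠ b) {f : K →ₗ[F] K} (hf : f ∈ root H a b) :
    -f ∈ root H a b := by
  obtain ⟨h₁, hh₁, e₁⟩ := hf
  refine ⟨h₁⁻¹, inv_mem hh₁, fun x => ?_⟩
  show h₁.symm x = _
  rw [LinearEquiv.symm_apply_eq, e₁, Pi.add_apply, Pi.single_eq_of_ne hab.symm, add_zero, LinearMap.neg_apply,
    Pi.single_neg]
  abel

theorem Over.root_mulLeft (hH : Over H) {a b : Fin (m + 2)} (hab : a ≠ b) (k : K) :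
    LinearMap.mulLeft F k ∈ root H a b :=
  (mem_root_iff hab _).2 (hH.oneAdd_mem _ _ fun c x => by
    funext i
    by_cases hi : i = a
    · subst hi; simp [el_apply]; ring
    · simp [el_apply, hi]).1

/-- Commutators of two roots. -/
theorem root_comp {a b c : Fin (m + 2)} (hab : a ≠ b) (hbc : b ≠ c) (hac : a ≠ c) {f g : K →ₗ[F] K}
    (hf : f ∈ root H a b) (hg : g ∈ root H b c) : f.comp g ∈ root H a c := by
  obtain ⟨h₁, hh₁, e₁⟩ := hf
  obtain ⟨h₂, hh₂, e₂⟩ := hg
  refine ⟨h₁ * h₂ * h₁⁻¹ * h₂⁻¹, mul_mem (mul_mem (mul_mem hh₁ hh₂) (inv_mem hh₁)) (inv_mem hh₂), fun x => ?_⟩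
  have i₁ : ∀ y, h₁⁻¹ y = y - Pi.single a (f (y b)) := fun y => by
    show h₁.symm y = _
    rw [LinearEquiv.symm_apply_eq, e₁]
    simp [hab.symm]
  have i₂ : ∀ y, h₂⁻¹ y = y - Pi.single b (g (y c)) := fun y => by
    show h₂.symm y = _
    rw [LinearEquiv.symm_apply_eq, e₂]
    simp [hbc.symm]
  simp only [LinearEquiv.mul_apply, e₁, e₂, i₁, i₂, LinearMap.comp_apply]
  funext i
  by_cases ha : i = a
  · subst ha; simp [hab, hab.symm, hbc, hbc.symm, hac, hac.symm, map_sub]; ring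
  · by_cases hb : i = b
    · subst hb; simp [hab, hab.symm, hbc, hbc.symm, hac, hac.symm, map_sub]
    · simp [ha, hb, hab, hab.symm, hbc, hbc.symm, hac, hac.symm, map_sub]

/-- The diagonal map. -/
def diag (d : Fin (m + 2) → Kˣ) : GV :=
  (LinearEquiv.piCongrRight fun i => LinearEquiv.smulOfUnit (d i) : V ≃ₗ[K] V).restrictScalars F

@[simp] theorem diag_apply (d : Fin (m + 2) → Kˣ) (x : V) (i : Fin (m + 2)) :
    diag (F := F) d x i = (d i : K) * x i := rfl

theorem diag_kLin (d : Fin (m + 2) → Kˣ) : KLin (diag (F := F) d) := fun k x => by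
  funext i; simp; ring

theorem det_diag (d : Fin (m + 2) → Kˣ) :
    ((LinearEquiv.det (diag (F := F) d) : Fˣ) : F) = ∏ i, Algebra.norm F (d i : K) := by
  rw [LinearEquiv.coe_det, ← map_prod]
  let f : V →ₗ[K] V := (LinearEquiv.piCongrRight fun i => LinearEquiv.smulOfUnit (d i) : V ≃ₗ[K] V)
  show (f.restrictScalars F).det = _
  rw [LinearMap.det_restrictScalars, ← LinearMap.det_toMatrix']
  congr 1
  have : LinearMap.toMatrix' f = Matrix.diagonal fun i => (d i : K) := by
    ext i j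
    rw [LinearMap.toMatrix'_apply, Matrix.diagonal_apply]
    show ((d i : Kˣ) : K) * (Pi.single j 1 : V) i = _
    rcases eq_or_ne i j with rfl | h
    · simp
    · simp [h]
  rw [this, Matrix.det_diagonal]

theorem Over.diag_mem (hH : Over H) {d : Fin (m + 2) → Kˣ} (hd : ∏ i, Algebra.norm F (d i : K) = 1) :
    diag d ∈ H :=
  hH.semi _ (diag_kLin d).semiLin (Units.ext (by rw [det_diag, hd, Units.val_one]))

/-- The units with the value `k` at `a`, `l` at `b`, and one elsewhere. -/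
def two (a b : Fin (m + 2)) (k l : Kˣ) : Fin (m + 2) → Kˣ := fun i => if i = a then k else if i = b then l else 1

theorem Over.diag_two_mem (hH : Over H) {a b : Fin (m + 2)} (hab : a ≠ b) {k l : Kˣ}
    (h : Algebra.norm F (k : K) * Algebra.norm F (l : K) = 1) : diag (two a b k l) ∈ H := by
  refine hH.diag_mem ?_
  rw [Fintype.prod_eq_mul a b hab]
  · simpa [two, hab, hab.symm] using h
  · intro i hi; simp [two, hi.1, hi.2]

theorem Over.diag_inv_mem (hH : Over H) {a b : Fin (m + 2)} (hab : a ≠ b) (k : Kˣ) :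
    diag (two a b k k⁻¹) ∈ H :=
  hH.diag_two_mem hab (by rw [← map_mul, Units.mul_inv, map_one])

/-- A vector with a non-zero coordinate outside `s` is moved to a basis vector fixing the vectors supported in `s`. -/
theorem Over.to_single (hH : Over H) (s : Finset (Fin (m + 2))) {a b : Fin (m + 2)} (ha : a ∉ s) (hb : b ∉ s)
    (hab : a ≠ b) (x : V) (hx : ∃ i ∉ s, x i ≠ 0) :
    ∃ g ∈ H, KLin g ∧ g x = Pi.single a 1 ∧ ∀ y : V, (∀ i ∉ s, y i = 0) → g y = y := by
  classical
  have stepA : ∀ (c d : Fin (m + 2)), c ≠ d → d ∉ s → ∀ t : K, ∃ g ∈ H, KLin g ∧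
      (∀ y : V, g y = y + Pi.single c (t * y d)) ∧ ∀ y : V, (∀ i ∉ s, y i = 0) → g y = y := by
    intro c d hcd hd t
    have hk : ∀ (k : K) (y : V), el c d (LinearMap.mulLeft F t) (k • y) = k • el c d (LinearMap.mulLeft F t) y :=
      fun k y => by funext i; by_cases hi : i = c <;> [(subst hi; simp [el_apply]; ring); simp [el_apply, hi]]
    obtain ⟨h1, h2⟩ := hH.oneAdd_mem _ (el_sq hcd (LinearMap.mulLeft F t)) hk
    exact ⟨_, h1, h2, fun y => rfl, fun y hy => by simp [el_apply, hy d hd]⟩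
  have step2 : ∀ y : V, y a = 1 → ∃ g ∈ H, KLin g ∧ g y = Pi.single a 1 ∧
      ∀ z : V, (∀ i ∉ s, z i = 0) → g z = z := by
    intro y hy
    let A : Module.End F V := ((LinearMap.proj a : V →ₗ[K] K).smulRight (Pi.single a 1 - y)).restrictScalars F
    have hA : ∀ z, A (A z) = 0 := fun z => by simp [A, hy]
    obtain ⟨h1, h2⟩ := hH.oneAdd_mem A hA fun k z => by simp [A, mul_smul]
    refine ⟨_, h1, h2, by simp [A, hy], fun z hz => by simp [A, hz a ha]⟩
  have step1 : ∀ (y : V) i, i ∉ s → i ≠ a → y i ≠ 0 → ∃ g ∈ H, KLin g ∧ g y = Pi.single a 1 ∧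
      ∀ z : V, (∀ i ∉ s, z i = 0) → g z = z := by
    intro y i hi hia hyi
    obtain ⟨g, hg, hgk, hge, hgs⟩ := stepA a i (Ne.symm hia) hi ((1 - y a) / y i)
    obtain ⟨g', hg', hgk', hge', hgs'⟩ := step2 (g y) (by rw [hge]; simp [hyi])
    exact ⟨g' * g, mul_mem hg' hg, hgk'.mul hgk, by rw [LinearEquiv.mul_apply, hge'],
      fun z hz => by rw [LinearEquiv.mul_apply, hgs z hz, hgs' z hz]⟩
  obtain ⟨i, hi, hxi⟩ := hx
  by_cases h : ∃ j, j ∉ s ∧ j ≠ a ∧ x j ≠ 0
  · obtain ⟨j, hj, hja, hxj⟩ := h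
    exact step1 x j hj hja hxj
  · push Not at h
    have hia : i = a := by
      by_contra hne
      exact hxi (h i hi hne)
    subst hia
    obtain ⟨g, hg, hgk, hge, hgs⟩ := stepA b i hab.symm hi 1
    obtain ⟨g', hg', hgk', hge', hgs'⟩ := step1 (g x) b hb hab.symm (by rw [hge]; simpa [h b hb hab.symm] using hxi)
    exact ⟨g' * g, mul_mem hg' hg, hgk'.mul hgk, by rw [LinearEquiv.mul_apply, hge'],
      fun z hz => by rw [LinearEquiv.mul_apply, hgs z hz, hgs' z hz]⟩

theorem Over.exists_trans (hH : Over H) {x y : V} (hx : x ≠ 0) (hy : y ≠ 0) : ∃ g ∈ H, KLin g ∧ g x = y := by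
  have hne : ∀ z : V, z ≠ 0 → ∃ i ∉ (∅ : Finset (Fin (m + 2))), z i ≠ 0 := fun z hz => by
    obtain ⟨i, hi⟩ := Function.ne_iff.1 hz
    exact ⟨i, by simp, hi⟩
  obtain ⟨g, hg, hgk, hgx, -⟩ := hH.to_single ∅ (by simp) (by simp) (zero_ne_one (α := Fin (m + 2))) x (hne x hx)
  obtain ⟨g', hg', hgk', hgy, -⟩ := hH.to_single ∅ (by simp) (by simp) (zero_ne_one (α := Fin (m + 2))) y (hne y hy)
  refine ⟨g'⁻¹ * g, mul_mem (inv_mem hg') hg, hgk'.inv.mul hgk, ?_⟩
  rw [LinearEquiv.mul_apply, hgx, ← hgy]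
  exact g'.symm_apply_apply y

/-- The line of the first basis vector over `K`. -/
def lineS : Submodule F V := LinearMap.range (LinearMap.single F (fun _ => K) (0 : Fin (m + 2)))

theorem mem_lineS {x : V} : x ∈ (lineS : Submodule F V) ↔ ∀ i ≠ 0, x i = 0 := by
  constructor
  · rintro ⟨k, rfl⟩ i hi; simp [hi]
  · intro h
    refine ⟨x 0, funext fun i => ?_⟩
    by_cases hi : i = 0
    · subst hi; simp
    · simp [hi, h i hi]

theorem smul_v0_eq (k : K) : k • (v0 : V) = Pi.single 0 k := by simp [v0, ← Pi.single_smul]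

theorem v0_mem : (v0 : V) ∈ (lineS : Submodule F V) := ⟨1, rfl⟩

theorem eq_smul_v0 {x : V} (hx : x ∈ (lineS : Submodule F V)) : x = x 0 • v0 := by
  rw [smul_v0_eq]
  obtain ⟨k, rfl⟩ := hx
  simp

theorem smul_v0_mem (k : K) : k • (v0 : V) ∈ (lineS : Submodule F V) := ⟨k, (smul_v0_eq k).symm⟩

theorem finrank_lineS : finrank F (lineS : Submodule F V) = finrank F K :=
  LinearMap.finrank_range_of_inj (Pi.single_injective (M := fun _ : Fin (m + 2) => K) 0)

theorem Over.exists_trans_fix (hH : Over H) (hm : 0 < m) {x y : V} (hx : x ∉ (lineS : Submodule F V))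
    (hy : y ∉ (lineS : Submodule F V)) : ∃ g ∈ H, KLin g ∧ g x = y ∧ g v0 = v0 := by
  have hne : ∀ z : V, z ∉ (lineS : Submodule F V) → ∃ i ∉ ({0} : Finset (Fin (m + 2))), z i ≠ 0 := fun z hz => by
    rw [mem_lineS] at hz
    push Not at hz
    obtain ⟨i, hi, hzi⟩ := hz
    exact ⟨i, by simpa using hi, hzi⟩
  have h1 : (1 : Fin (m + 2)) ∉ ({0} : Finset (Fin (m + 2))) := by simp
  have h2 : (⟨2, by omega⟩ : Fin (m + 2)) ∉ ({0} : Finset (Fin (m + 2))) := by simp [Fin.ext_iff]
  have h12 : (1 : Fin (m + 2)) ≠ ⟨2, by omega⟩ := by simp [Fin.ext_iff]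
  obtain ⟨g, hg, hgk, hgx, hgf⟩ := hH.to_single _ h1 h2 h12 x (hne x hx)
  obtain ⟨g', hg', hgk', hgy, hgf'⟩ := hH.to_single _ h1 h2 h12 y (hne y hy)
  have hv : ∀ i ∉ ({0} : Finset (Fin (m + 2))), (v0 : V) i = 0 := fun i hi => by
    simp at hi; simp [v0, hi]
  refine ⟨g'⁻¹ * g, mul_mem (inv_mem hg') hg, hgk'.inv.mul hgk, ?_, ?_⟩
  · rw [LinearEquiv.mul_apply, hgx, ← hgy]
    exact g'.symm_apply_apply y
  · rw [LinearEquiv.mul_apply, hgf _ hv]
    show g'.symm v0 = v0
    rw [LinearEquiv.symm_apply_eq, hgf' _ hv]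

/-- A map taking lines into lines is semilinear. -/
theorem semiLin_of_lines {g : GV} (h : ∀ (x : V) (k : K), ∃ k' : K, g (k • x) = k' • g x) : SemiLin g := by
  choose L hL using h
  have hg0 : ∀ x : V, x ≠ 0 → g x ≠ 0 := fun x hx h => hx (g.injective (h.trans (map_zero g).symm))
  -- lines map onto lines, so independent pairs stay independent
  have hind : ∀ x y : V, x ≠ 0 → (∀ c : K, y ≠ c • x) → ∀ a b : K, a • g x + b • g y = 0 → a = 0 ∧ b = 0 := by
    intro x y hx hy a b hab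
    have hb : b = 0 := by
      by_contra hb
      have hsurj : Function.Surjective (L x) := Finite.injective_iff_surjective.1 fun k k' e =>
        smul_left_injective K hx (g.injective (by show g (k • x) = g (k' • x); rw [hL, hL, e]))
      obtain ⟨k, hk⟩ := hsurj (-(a / b))
      apply hy k
      apply g.injective
      rw [hL, hk]
      have h1 : g y = b⁻¹ • (b • g y) := by rw [inv_smul_smul₀ hb]
      rw [h1, eq_neg_of_add_eq_zero_right hab, smul_neg, smul_smul, neg_smul, inv_mul_eq_div]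
    subst hb
    rw [zero_smul, add_zero, smul_eq_zero] at hab
    exact ⟨hab.resolve_right (hg0 x hx), rfl⟩
  have hsame : ∀ x y : V, x ≠ 0 → (∀ c : K, y ≠ c • x) → ∀ k, L x k = L y k := by
    intro x y hx hy k
    have h1 : L (x + y) k • (g x + g y) = L x k • g x + L y k • g y := by
      rw [← hL, ← hL, ← map_add, ← map_add, ← smul_add, hL]
    have h2 := hind x y hx hy (L (x + y) k - L x k) (L (x + y) k - L y k) (by
      rw [sub_smul, sub_smul]
      linear_combination (norm := module) h1)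
    rw [← sub_eq_zero.1 h2.1, sub_eq_zero.1 h2.2]
  intro k
  refine ⟨L v0 k, fun x => ?_⟩
  by_cases hx : x = 0
  · subst hx; simp
  rw [hL]
  congr 1
  by_cases hxv : ∀ c : K, x ≠ c • (v0 : V)
  · exact (hsame v0 x v0_ne_zero hxv k).symm
  · push Not at hxv
    obtain ⟨c, rfl⟩ := hxv
    set z : V := Pi.single 1 1
    have hzne : z ≠ 0 := fun e => by simpa [z] using congrFun e 1
    have hz1 : ∀ d : K, z ≠ d • (v0 : V) := fun d e => by simpa [z, v0] using congrFun e 1
    have hz2 : ∀ d : K, z ≠ d • (c • (v0 : V)) := fun d e => by rw [smul_smul] at e; exact hz1 _ e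
    rw [hsame v0 z v0_ne_zero hz1, hsame (c • v0) z hx hz2]

/-- Some element fixing the first basis vector moves its line. -/
theorem Over.exists_move (hH : Over H) :
    ∃ h ∈ H, h v0 = v0 ∧ ∃ w ∈ (lineS : Submodule F V), h w ∉ (lineS : Submodule F V) := by
  obtain ⟨g, hg, hgn⟩ := hH.ne
  obtain ⟨x, k, hxk⟩ : ∃ (x : V) (k : K), ∀ k' : K, g (k • x) ≠ k' • g x := by
    by_contra hno
    push Not at hno
    exact hgn (semiLin_of_lines hno)
  have hx : x ≠ 0 := fun e => hxk 0 (by subst e; simp)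
  obtain ⟨n₁, hn₁, hk₁, e₁⟩ := hH.exists_trans (v0_ne_zero (m := m)) hx
  obtain ⟨n₂, hn₂, hk₂, e₂⟩ := hH.exists_trans (fun e => hx (g.injective (e.trans (map_zero g).symm)))
    (v0_ne_zero (m := m))
  refine ⟨n₂ * g * n₁, mul_mem (mul_mem hn₂ hg) hn₁, ?_, k • v0, smul_v0_mem k, fun hmem => ?_⟩
  · simp [e₁, e₂]
  · have h1 := eq_smul_v0 hmem
    set c := (n₂ * g * n₁) (k • v0) 0
    rw [LinearEquiv.mul_apply, LinearEquiv.mul_apply, hk₁, e₁] at h1
    apply hxk c
    apply n₂.injective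
    rw [h1, hk₂, e₂]

theorem map_eq_of_le {W W' : Submodule F V} {g : GV} (h : W.map (g : V →ₗ[F] V) ≤ W')
    (hd : finrank F W' ≤ finrank F W) : W.map (g : V →ₗ[F] V) = W' := by
  refine Submodule.eq_of_le_of_finrank_le h ?_
  rwa [LinearEquiv.finrank_map_eq]

theorem mem_map_iff {W : Submodule F V} {g : GV} {x : V} :
    x ∈ W.map (g : V →ₗ[F] V) ↔ ∃ y ∈ W, g y = x := Submodule.mem_map

theorem KLin.map_lineS {n : GV} (hn : KLin n) (h : n v0 ∈ (lineS : Submodule F V)) :
    (lineS : Submodule F V).map (n : V →ₗ[F] V) = lineS := by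
  refine map_eq_of_le ?_ le_rfl
  rintro _ ⟨y, hy, rfl⟩
  show n y ∈ _
  rw [eq_smul_v0 hy, hn, eq_smul_v0 h, smul_smul]
  exact smul_v0_mem _

end CfsgLib.FieldMax
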