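import Cfsg.Agent.Aschbacher.FieldMax.Main
import Cfsg.Agent.Elusive.FieldTower

/-!
The matrix form: subgroups above the normaliser of a field of prime degree.
-/

set_option autoImplicit false
set_option linter.unusedSectionVars false

namespace CfsgLib.FieldMax

open Module Cfsg.Geo
open scoped Matrix

variable {F : Type*} [Field F] [Fintype F] {n r : ℕ}

/-- The normaliser of a field of prime degree below the dimension: it is proper in the determinant one group, nothing
lies strictly between, and it has every determinant. -/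
theorem normalizer_data (hr : r.Prime) (hrn : r ∣ n) (hlt : r < n)
    (K : Subalgebra F (Matrix (Fin n) (Fin n) F)) (hK : IsFieldSubalgebra r K) :
    (∃ g ∈ specialLinear (Fin n) F, g ∉ subalgebraNormalizer K) ∧
    (∀ M : Subgroup (GL (Fin n) F), subalgebraNormalizer K ⊓ specialLinear (Fin n) F ≤ M →
      M ≤ specialLinear (Fin n) F → (∃ g ∈ M, g ∉ subalgebraNormalizer K) → specialLinear (Fin n) F ≤ M) ∧
    ∀ g : GL (Fin n) F, ∃ x ∈ subalgebraNormalizer K,
      Matrix.GeneralLinearGroup.det x = Matrix.GeneralLinearGroup.det g := by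
  classical
  have hrank : finrank F K = r := hK.finrank_eq
  have : Nontrivial (Matrix (Fin n) (Fin n) F) := by
    have : Nonempty (Fin n) := ⟨⟨0, by omega⟩⟩
    infer_instance
  letI : CommRing K :=
    { (inferInstance : Ring K) with
      mul_comm := fun x y => Subtype.ext (hK.comm x x.2 y y.2) }
  have hf : IsField K :=
    { exists_pair_ne := ⟨0, 1, fun h => zero_ne_one (congrArg Subtype.val h)⟩
      mul_comm := mul_comm
      mul_inv_cancel := fun {x} hx => by
        obtain ⟨y, hy, hxy⟩ := hK.inv x x.2 fun e => hx (Subtype.ext e)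
        exact ⟨⟨y, hy⟩, Subtype.ext hxy⟩ }
  letI : Field K := hf.toField
  have : Finite (Matrix (Fin n) (Fin n) F) := Finite.of_equiv (Fin n → Fin n → F) Matrix.of
  have : Finite K := Finite.of_injective _ Subtype.val_injective
  letI : Module K (Fin n → F) :=
    { smul := fun k v => (k : Matrix (Fin n) (Fin n) F) *ᵥ v
      one_smul := fun v => Matrix.one_mulVec v
      mul_smul := fun k l v => (Matrix.mulVec_mulVec v _ _).symm
      smul_zero := fun k => Matrix.mulVec_zero _
      smul_add := fun k v w => Matrix.mulVec_add _ v w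
      add_smul := fun k l v => Matrix.add_mulVec _ _ v
      zero_smul := fun v => Matrix.zero_mulVec v }
  have hsm : ∀ (k : K) (v : Fin n → F), k • v = (k : Matrix (Fin n) (Fin n) F) *ᵥ v := fun k v => rfl
  have : IsScalarTower F K (Fin n → F) := ⟨fun a k v => Matrix.smul_mulVec a _ v⟩
  have : Module.Finite K (Fin n → F) := Module.Finite.right F K _
  have hdim : finrank F K * finrank K (Fin n → F) = n := by
    rw [Module.finrank_mul_finrank, Module.finrank_fin_fun]
  obtain ⟨m, hm⟩ : ∃ m, finrank K (Fin n → F) = m + 2 := by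
    refine ⟨finrank K (Fin n → F) - 2, ?_⟩
    rw [hrank] at hdim
    rcases Nat.lt_or_ge (finrank K (Fin n → F)) 2 with h | h
    · interval_cases (finrank K (Fin n → F)) <;> omega
    · omega
  have hr' : (finrank F K).Prime := hrank.symm ▸ hr
  let ψK : (Fin n → F) ≃ₗ[K] (Fin (m + 2) → K) := (Module.finBasisOfFinrankEq K _ hm).equivFun
  let ψ : (Fin n → F) ≃ₗ[F] (Fin (m + 2) → K) := ψK.restrictScalars F
  have hψ : ∀ (k : K) (x : Fin (m + 2) → K), ψ.symm (k • x) = (k : Matrix (Fin n) (Fin n) F) *ᵥ ψ.symm x :=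
    fun k x => ψK.symm.map_smul k x
  let toEq : GL (Fin n) F → ((Fin n → F) ≃ₗ[F] (Fin n → F)) := fun g =>
    Matrix.toLin'OfInv (M := ((g⁻¹ : GL (Fin n) F) : Matrix (Fin n) (Fin n) F)) (M' := (g : Matrix (Fin n) (Fin n) F))
      (Units.inv_mul g) (Units.mul_inv g)
  let T : GL (Fin n) F →* ((Fin (m + 2) → K) ≃ₗ[F] (Fin (m + 2) → K)) :=
    MonoidHom.mk' (fun g => ψ.symm.trans ((toEq g).trans ψ)) fun g h => LinearEquiv.ext fun x => by
      show ψ (((g * h : GL (Fin n) F) : Matrix (Fin n) (Fin n) F) *ᵥ ψ.symm x) =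
        ψ ((g : Matrix (Fin n) (Fin n) F) *ᵥ ψ.symm (ψ ((h : Matrix (Fin n) (Fin n) F) *ᵥ ψ.symm x)))
      rw [LinearEquiv.symm_apply_apply, Units.val_mul, Matrix.mulVec_mulVec]
  have hT : ∀ g x, T g x = ψ ((g : Matrix (Fin n) (Fin n) F) *ᵥ ψ.symm x) := fun g x => rfl
  have hdet : ∀ g, LinearEquiv.det (T g) = Matrix.GeneralLinearGroup.det g := fun g => by
    refine Units.ext ?_
    rw [LinearEquiv.coe_det]
    have h1 : ((T g : (Fin (m + 2) → K) ≃ₗ[F] (Fin (m + 2) → K)) : (Fin (m + 2) → K) →ₗ[F] (Fin (m + 2) → K)) =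
        (ψ : (Fin n → F) →ₗ[F] (Fin (m + 2) → K)) ∘ₗ Matrix.toLin' (g : Matrix (Fin n) (Fin n) F) ∘ₗ
          (ψ.symm : (Fin (m + 2) → K) →ₗ[F] (Fin n → F)) := LinearMap.ext fun x => rfl
    rw [h1, LinearMap.det_conj, LinearMap.det_toLin', Matrix.GeneralLinearGroup.val_det_apply]
  have hsemi : ∀ g, SemiLin (T g) ↔ g ∈ subalgebraNormalizer K := by
    intro g
    constructor
    · intro h
      refine CfsgLib.Elusive.mem_normalizer_of_conj fun k hk => ?_
      obtain ⟨k', hk'⟩ := h ⟨k, hk⟩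
      suffices e : (g : Matrix (Fin n) (Fin n) F) * k = (k' : Matrix (Fin n) (Fin n) F) * (g : Matrix (Fin n) (Fin n) F) by
        rw [e, mul_assoc, Units.mul_inv, mul_one]; exact k'.2
      refine Matrix.toLin'.injective (LinearMap.ext fun v => ?_)
      have h1 := hk' (ψ v)
      rw [hT, hT, hψ, LinearEquiv.symm_apply_apply] at h1
      rw [show k' • ψ ((g : Matrix (Fin n) (Fin n) F) *ᵥ v) = ψ (k' • ((g : Matrix (Fin n) (Fin n) F) *ᵥ v)) from
        (ψK.map_smul k' _).symm] at h1
      simp only [Matrix.toLin'_apply, ← Matrix.mulVec_mulVec]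
      exact ψ.injective h1
    · intro h k
      refine ⟨⟨_, (h k).1 k.2⟩, fun x => ?_⟩
      rw [hT, hT, hψ, ← show ψ ((⟨_, (h k).1 k.2⟩ : K) • ((g : Matrix (Fin n) (Fin n) F) *ᵥ ψ.symm x)) =
        (⟨_, (h k).1 k.2⟩ : K) • ψ ((g : Matrix (Fin n) (Fin n) F) *ᵥ ψ.symm x) from ψK.map_smul _ _]
      congr 1
      rw [hsm]
      simp only [Matrix.mulVec_mulVec, mul_assoc, Units.inv_mul, mul_one]
  have hsurj : Function.Surjective T := by
    intro f
    let A : Matrix (Fin n) (Fin n) F := LinearMap.toMatrix' ((ψ.trans (f.trans ψ.symm) : _ ≃ₗ[F] _) : (Fin n → F) →ₗ[F] (Fin n → F))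
    let B : Matrix (Fin n) (Fin n) F := LinearMap.toMatrix' ((ψ.trans (f.symm.trans ψ.symm) : _ ≃ₗ[F] _) : (Fin n → F) →ₗ[F] (Fin n → F))
    refine ⟨⟨A, B, ?_, ?_⟩, LinearEquiv.ext fun x => ?_⟩
    · rw [← LinearMap.toMatrix'_comp, ← LinearMap.toMatrix'_id]
      congr 1
      exact LinearMap.ext fun x => by simp
    · rw [← LinearMap.toMatrix'_comp, ← LinearMap.toMatrix'_id]
      congr 1
      exact LinearMap.ext fun x => by simp
    · rw [hT]
      show ψ (A *ᵥ ψ.symm x) = f x
      rw [← Matrix.toLin'_apply, Matrix.toLin'_toMatrix']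
      simp
  have hinj : Function.Injective T := by
    intro g g' h
    refine Units.ext (Matrix.toLin'.injective (LinearMap.ext fun v => ψ.injective ?_))
    have h1 := DFunLike.congr_fun h (ψ v)
    rwa [hT, hT, LinearEquiv.symm_apply_apply] at h1
  have hSL : ∀ g, g ∈ specialLinear (Fin n) F ↔ LinearEquiv.det (T g) = 1 := fun g => by rw [hdet]; rfl
  refine ⟨?_, ?_, ?_⟩
  · obtain ⟨τ, hτ⟩ : ∃ τ : K →ₐ[F] K, τ ≠ AlgHom.id F K := by
      by_contra hno
      push Not at hno
      have h1 : Nat.card (K →ₐ[F] K) ≤ 1 := by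
        rw [Finite.card_le_one_iff_subsingleton]
        exact ⟨fun a b => (hno a).trans (hno b).symm⟩
      rw [card_algHom] at h1
      have := hr'.two_le
      omega
    obtain ⟨g, hg⟩ := hsurj (oneAdd (el 0 1 τ.toLinearMap) (el_sq zero_ne_one _))
    refine ⟨g, (hSL g).2 (by rw [hg]; exact det_oneAdd _ _), fun hgN => hτ (AlgHom.ext fun k => ?_)⟩
    obtain ⟨k', hk'⟩ := (hsemi g).2 hgN k
    rw [hg] at hk'
    have h0 := congrFun (hk' (Pi.single 0 1)) 0
    have h1 := congrFun (hk' (Pi.single 1 1)) 0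
    simp [el_apply] at h0 h1
    rw [AlgHom.id_apply, h1, h0]
  · intro M hNM hMS ⟨g, hgM, hgN⟩ x hx
    have hov : Over (M.map T) :=
      { semi := fun f hf hd => by
          obtain ⟨y, rfl⟩ := hsurj f
          exact Subgroup.mem_map_of_mem T (hNM ⟨(hsemi y).1 hf, (hSL y).2 hd⟩)
        det := fun f hf => by
          obtain ⟨y, hy, rfl⟩ := Subgroup.mem_map.1 hf
          exact (hSL y).1 (hMS hy)
        ne := ⟨T g, Subgroup.mem_map_of_mem T hgM, fun h => hgN ((hsemi g).1 h)⟩ }
    obtain ⟨y, hy, hxy⟩ := Subgroup.mem_map.1 (hov.mem_of_det_eq_one hr' (T x) ((hSL x).1 hx))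
    rwa [← hinj hxy]
  · intro g
    obtain ⟨k, hk⟩ := FiniteField.norm_surjective F K ((Matrix.GeneralLinearGroup.det g : Fˣ) : F)
    have hk0 : k ≠ 0 := fun e => (Matrix.GeneralLinearGroup.det g).ne_zero (by rw [← hk, e, Algebra.norm_zero])
    obtain ⟨y, hy⟩ := hsurj (diag (two 0 1 (Units.mk0 k hk0) 1))
    refine ⟨y, (hsemi y).1 (hy ▸ (diag_kLin _).semiLin), ?_⟩
    rw [← hdet y, hy]
    refine Units.ext ?_
    rw [det_diag, Fintype.prod_eq_mul (0 : Fin (m + 2)) 1 zero_ne_one]
    · simp [two, hk]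
    · intro i hi; simp [two, hi.1, hi.2]

end CfsgLib.FieldMax
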