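import Mathlib.FieldTheory.Finite.GaloisField
import Mathlib.FieldTheory.Fixed
import Mathlib.LinearAlgebra.Matrix.ToLin
import Mathlib.GroupTheory.SpecificGroups.Cyclic

/-!
The endomorphisms of a field of prime degree over a finite field as a bimodule, quadratic semilinear maps, and
the subrings containing the elements of norm one.
-/

set_option autoImplicit false
set_option linter.unusedSectionVars false

namespace CfsgLib.FieldMax

open Module

variable {F : Type*} [Field F] [Finite F] {K : Type*} [Field K] [Algebra F K] [Finite K]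

theorem card_algHom : Nat.card (K →ₐ[F] K) = finrank F K := by
  rw [← IsGalois.card_aut_eq_finrank F K]
  exact Nat.card_congr (Algebra.IsAlgebraic.algEquivEquivAlgHom F K).toEquiv.symm

/-- An automorphism different from the identity generates the prime order Galois group. -/
theorem exists_pow_eq (hr : (finrank F K).Prime) {τ : K →ₐ[F] K} (hτ : τ ≠ AlgHom.id F K) (σ : K →ₐ[F] K) :
    ∃ j : ℕ, σ = τ ^ j := by
  have : Fact (finrank F K).Prime := ⟨hr⟩
  let E := (Algebra.IsAlgebraic.algEquivEquivAlgHom F K)
  have hne : E.symm τ ≠ 1 := fun h => hτ (by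
    have h2 := congrArg E h
    rw [E.apply_symm_apply, map_one] at h2
    exact h2)
  have h1 : E.symm σ ∈ Subgroup.zpowers (E.symm τ) :=
    mem_zpowers_of_prime_card (IsGalois.card_aut_eq_finrank F K) hne
  obtain ⟨j, hj⟩ := mem_powers_iff_mem_zpowers.2 h1
  refine ⟨j, ?_⟩
  have h2 := congrArg E (show E.symm τ ^ j = E.symm σ from hj)
  rw [map_pow, E.apply_symm_apply, E.apply_symm_apply] at h2
  exact h2.symm

theorem finrank_eq_two_of_sq (hr : (finrank F K).Prime) {σ : K →ₐ[F] K} (hσ : σ ≠ AlgHom.id F K)
    (h2 : ∀ k, σ (σ k) = k) : finrank F K = 2 := by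
  have hsq : σ ^ 2 = 1 := AlgHom.ext fun k => by rw [pow_two]; exact h2 k
  have hcard : Nat.card (K →ₐ[F] K) = finrank F K := card_algHom
  have hsub : ∀ τ : K →ₐ[F] K, τ = AlgHom.id F K ∨ τ = σ := fun τ => by
    obtain ⟨j, rfl⟩ := exists_pow_eq hr hσ τ
    rcases Nat.even_or_odd' j with ⟨i, rfl | rfl⟩
    · left; rw [pow_mul, hsq, one_pow]; rfl
    · right; rw [pow_succ, pow_mul, hsq, one_pow, one_mul]
  have : Nat.card (K →ₐ[F] K) ≤ 2 := by
    classical
    have : Fintype (K →ₐ[F] K) := Fintype.ofFinite _
    rw [Nat.card_eq_fintype_card, ← Finset.card_univ]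
    refine le_trans (Finset.card_le_card (t := {AlgHom.id F K, σ}) fun τ _ => by
      rcases hsub τ with h | h <;> simp [h]) Finset.card_le_two
  have := hr.two_le
  omega

/-- A quadratic semilinear map with a non-trivial automorphism lives in characteristic two and degree two. -/
theorem quad_semilinear (hr : (finrank F K).Prime) {W : Type*} [AddCommGroup W] [Module K W] (b : W →+ W)
    (hinj : Function.Injective b) {σ : K →ₐ[F] K} (hb : ∀ (k : K) (x : W), b (k • x) = σ k • b x)
    (hq : ∀ x, b (b x) + x = b x + b x) {v : W} (hv : v ≠ 0) (hσ : σ ≠ AlgHom.id F K) :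
    (2 : K) = 0 ∧ finrank F K = 2 ∧ ∀ k, σ (σ k) = k := by
  have hbv : b v ≠ 0 := fun h => hv (hinj (h.trans (map_zero b).symm))
  have rel : ∀ k, (2 * σ (σ k) - 2 * σ k) • b v = (σ (σ k) - k) • v := fun k => by
    have h1 : σ (σ k) • b (b v) + k • v = σ k • b v + σ k • b v := by
      have h := hq (k • v)
      rw [hb, hb] at h
      exact h
    have h2 : b (b v) = b v + b v - v := eq_sub_of_add_eq (hq v)
    rw [h2] at h1
    linear_combination (norm := module) h1
  by_cases hs : ∀ k, σ (σ k) = k
  · refine ⟨?_, finrank_eq_two_of_sq hr hσ hs, hs⟩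
    obtain ⟨k, hk⟩ : ∃ k, σ k ≠ k := by
      by_contra hno
      push Not at hno
      exact hσ (AlgHom.ext hno)
    have h1 := rel k
    rw [hs, sub_self, zero_smul, smul_eq_zero, ← mul_sub, mul_eq_zero, sub_eq_zero] at h1
    exact ((h1.resolve_right hbv).resolve_right (Ne.symm hk))
  exfalso
  push Not at hs
  obtain ⟨k0, hk0⟩ := hs
  have hA : 2 * σ (σ k0) - 2 * σ k0 ≠ 0 := fun h => by
    have h1 := rel k0
    rw [h, zero_smul] at h1
    exact hk0 (sub_eq_zero.1 ((smul_eq_zero.1 h1.symm).resolve_right hv))
  set c := (σ (σ k0) - k0) / (2 * σ (σ k0) - 2 * σ k0)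
  have hbc : b v = c • v := by
    have h1 := congrArg ((2 * σ (σ k0) - 2 * σ k0)⁻¹ • ·) (rel k0)
    simp only [inv_smul_smul₀ hA, smul_smul, inv_mul_eq_div] at h1
    exact h1
  have hc : ∀ k, (2 * c - 1) * σ (σ k) - 2 * c * σ k + k = 0 := fun k => by
    have h1 := rel k
    rw [hbc, smul_smul] at h1
    linear_combination smul_left_injective K hv h1
  have h3 : ∀ k l, -(2 * c) * σ k * (σ l - σ (σ l)) + k * (l - σ (σ l)) = 0 := fun k l => by
    have h4 := hc (k * l)
    rw [map_mul, map_mul] at h4
    linear_combination h4 - σ (σ l) * hc k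
  have h5 : ∀ k, (k - σ k) * (k0 - σ (σ k0)) = 0 := fun k => by
    have h6 := h3 1 k0
    rw [map_one] at h6
    linear_combination h3 k k0 - σ k * h6
  apply hσ
  refine AlgHom.ext fun k => ?_
  have := (mul_eq_zero.1 (h5 k)).resolve_right (sub_ne_zero.2 (Ne.symm hk0))
  exact (sub_eq_zero.1 this).symm

/-- The rank of a semilinear involution in characteristic two. -/
theorem involution_rank {W : Type*} [AddCommGroup W] [Module F W] [Module K W] [IsScalarTower F K W]
    [FiniteDimensional F W] (h2 : (2 : K) = 0) (b : W →ₗ[F] W) {σ : K →ₐ[F] K}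
    (hb : ∀ (k : K) (x : W), b (k • x) = σ k • b x) (hbb : ∀ x, b (b x) = x) (hσ : σ ≠ AlgHom.id F K)
    (hss : ∀ k, σ (σ k) = k) : 2 * finrank F (LinearMap.range (b - 1)) = finrank F W := by
  have hn : ∀ x : W, x + x = 0 := fun x => by rw [← two_smul K x, h2, zero_smul]
  obtain ⟨θ, hθ⟩ : ∃ θ, σ θ ≠ θ := by
    by_contra hno
    push Not at hno
    exact hσ (AlgHom.ext hno)
  set δ := σ θ - θ with hδ
  have hδ0 : δ ≠ 0 := sub_ne_zero.2 hθ
  have hδs : σ δ = δ := by
    rw [hδ, map_sub, hss]
    linear_combination (θ - σ θ) * h2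
  have hδi : σ δ⁻¹ = δ⁻¹ := by rw [map_inv₀, hδs]
  set X := LinearMap.range (b - 1 : W →ₗ[F] W)
  have hX : ∀ x, x ∈ X ↔ b x = x := fun x => by
    constructor
    · rintro ⟨y, rfl⟩
      show b (b y - y) = b y - y
      rw [map_sub, hbb]
      linear_combination (norm := abel) -(hn (b y - y))
    · intro hx
      refine ⟨(θ * δ⁻¹) • x, ?_⟩
      show b ((θ * δ⁻¹) • x) - (θ * δ⁻¹) • x = x
      rw [hb, map_mul, hδi, hx, ← sub_smul, ← sub_mul, ← hδ, mul_inv_cancel₀ hδ0, one_smul]
  let f : X × X →ₗ[F] W := X.subtype.coprod ((θ • (LinearMap.id : W →ₗ[F] W)).comp X.subtype)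
  have hf : Function.Bijective f := by
    constructor
    · refine (injective_iff_map_eq_zero f).2 fun p hp => ?_
      obtain ⟨⟨x, hx⟩, ⟨y, hy⟩⟩ := p
      have h1 : x + θ • y = 0 := hp
      have h3 := congrArg b h1
      rw [map_add, hb, (hX x).1 hx, (hX y).1 hy, map_zero] at h3
      have h4 : δ • y = 0 := by rw [hδ, sub_smul]; linear_combination (norm := module) h3 - h1
      have hy0 : y = 0 := (smul_eq_zero.1 h4).resolve_left hδ0
      subst hy0
      rw [smul_zero, add_zero] at h1
      subst h1
      rfl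
    · intro v
      have hy : b (δ⁻¹ • (b v - v)) = δ⁻¹ • (b v - v) := by
        rw [hb, hδi, map_sub, hbb]
        congr 1
        linear_combination (norm := abel) -(hn (b v - v))
      have hx : b (v - θ • (δ⁻¹ • (b v - v))) = v - θ • (δ⁻¹ • (b v - v)) := by
        rw [map_sub, hb, hy, show σ θ = θ + δ by rw [hδ]; ring, add_smul, smul_smul δ, mul_inv_cancel₀ hδ0, one_smul]
        abel
      exact ⟨(⟨_, (hX _).2 hx⟩, ⟨_, (hX _).2 hy⟩), sub_add_cancel v _⟩
  rw [← (LinearEquiv.ofBijective f hf).finrank_eq, finrank_prod, two_mul]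

/-- The number of elements of norm one. -/
theorem card_normOne : Nat.card {k : K // Algebra.norm F k = 1} * (Nat.card F - 1) + 1 = Nat.card K := by
  classical
  have : Fintype F := Fintype.ofFinite F
  have : Fintype K := Fintype.ofFinite K
  simp only [Nat.card_eq_fintype_card, Fintype.card_subtype]
  have h1 := Finset.card_eq_sum_card_fiberwise (f := fun k : K => Algebra.norm F k)
    (s := Finset.univ.erase (0 : K)) (t := Finset.univ.erase (0 : F))
    fun k hk => Finset.mem_erase.2 ⟨Algebra.norm_ne_zero_iff.2 (Finset.mem_erase.1 hk).1, Finset.mem_univ _⟩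
  have hfib : ∀ a ∈ Finset.univ.erase (0 : F),
      ({k ∈ Finset.univ.erase (0 : K) | Algebra.norm F k = a}).card =
        ({k : K | Algebra.norm F k = 1} : Finset K).card := by
    intro a ha
    have ha0 := (Finset.mem_erase.1 ha).1
    obtain ⟨c, hc⟩ := FiniteField.norm_surjective F K a
    have hc0 : c ≠ 0 := fun h => ha0 (by rw [← hc, h, Algebra.norm_zero])
    refine Finset.card_bij' (fun k _ => k / c) (fun k _ => k * c) ?_ ?_ ?_ ?_
    · intro k hk
      simp only [Finset.mem_filter] at hk
      simp only [Finset.mem_filter, Finset.mem_univ, true_and]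
      refine mul_right_cancel₀ ha0 ?_
      rw [one_mul]
      nth_rw 1 [← hc]
      rw [← map_mul, div_mul_cancel₀ _ hc0, hk.2]
    · intro k hk
      simp only [Finset.mem_filter, Finset.mem_univ, true_and] at hk
      have hk0 : k ≠ 0 := fun h => by simp [h] at hk
      simp [hk, hc, hk0, hc0]
    · intro k _; field_simp
    · intro k _; field_simp
  rw [Finset.sum_congr rfl hfib, Finset.sum_const, Finset.card_erase_of_mem (Finset.mem_univ _),
    Finset.card_erase_of_mem (Finset.mem_univ _), Finset.card_univ, Finset.card_univ, smul_eq_mul,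
    Nat.mul_comm] at h1
  rw [← h1]
  have := Fintype.card_pos (α := K)
  omega

/-- A subring containing the elements of norm one is everything. -/
theorem subring_eq_top (hr : (finrank F K).Prime) (T : Subring K)
    (hT : ∀ k, Algebra.norm F k = 1 → k ∈ T) : T = ⊤ := by
  classical
  let T' : Subfield K :=
    { T with
      inv_mem' := fun x hx => by
        rcases eq_or_ne x 0 with rfl | hx0
        · rw [inv_zero]; exact T.zero_mem
        · have : Fintype K := Fintype.ofFinite K
          have h1 := FiniteField.pow_card_sub_one_eq_one x hx0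
          have h2 : x⁻¹ = x ^ (Fintype.card K - 2) := by
            refine inv_eq_of_mul_eq_one_right ?_
            rw [← pow_succ']
            have := Fintype.one_lt_card (α := K)
            rw [show Fintype.card K - 2 + 1 = Fintype.card K - 1 by omega]
            exact h1
          rw [h2]
          exact T.pow_mem hx _ }
  set d := finrank T' K
  have hK : Nat.card K = Nat.card T' ^ d := Module.natCard_eq_pow_finrank
  by_contra hne
  have hd : 2 ≤ d := by
    by_contra hd
    have hpos : 0 < d := Module.finrank_pos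
    have hd1 : d = 1 := by omega
    rw [hd1, pow_one] at hK
    apply hne
    refine eq_top_iff.2 fun x _ => ?_
    have : (T' : Set K) = Set.univ := (Set.eq_univ_iff_ncard _).2 (by
      rw [← Nat.card_coe_set_eq, SetLike.coe_sort_coe, ← hK])
    exact (Set.ext_iff.1 this x).2 trivial
  set N := Nat.card {k : K // Algebra.norm F k = 1}
  have hN : N + 1 ≤ Nat.card T' := by
    have h1 := Nat.card_le_card_of_injective
      (fun k : Option {k : K // Algebra.norm F k = 1} => (⟨k.elim 0 Subtype.val, by
        cases k with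
        | none => exact T.zero_mem
        | some k => exact hT k k.2⟩ : T')) (by
        intro k l h
        have h' := congrArg Subtype.val h
        simp only at h'
        cases k with
        | none => cases l with
          | none => rfl
          | some l => exfalso; have := l.2; simp only [Option.elim] at h'; rw [← h', Algebra.norm_zero] at this; exact zero_ne_one this
        | some k => cases l with
          | none => exfalso; have := k.2; simp only [Option.elim] at h'; rw [h', Algebra.norm_zero] at this; exact zero_ne_one this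
          | some l => simp only [Option.elim] at h'; rw [Subtype.ext h'])
    rwa [Finite.card_option] at h1
  have hq : 2 ≤ Nat.card F := Finite.one_lt_card
  have hQ : Nat.card F ^ 2 ≤ Nat.card K := by
    rw [Module.natCard_eq_pow_finrank (K := F) (V := K)]
    exact Nat.pow_le_pow_right (by omega) hr.two_le
  have hN' := card_normOne (F := F) (K := K)
  have hT2 : Nat.card T' * Nat.card T' ≤ Nat.card K := by
    rw [hK, ← pow_two]
    exact Nat.pow_le_pow_right Nat.card_pos hd
  obtain ⟨q, hq'⟩ : ∃ q, Nat.card F = q + 1 := ⟨Nat.card F - 1, by omega⟩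
  rw [hq', Nat.add_sub_cancel] at hN'
  rw [hq'] at hQ
  have hN1 : 1 ≤ N := by nlinarith
  have hmul : (N + 1) * (N + 1) ≤ Nat.card T' * Nat.card T' := Nat.mul_le_mul hN hN
  nlinarith

variable (F K) in
/-- The basis of the endomorphisms given by the automorphisms. -/
noncomputable def autBasis : Basis (K →ₐ[F] K) K (K →ₗ[F] K) :=
  have : Fintype (K →ₐ[F] K) := Fintype.ofFinite _
  basisOfLinearIndependentOfCardEqFinrank (linearIndependent_toLinearMap F K K) (by
    rw [← Nat.card_eq_fintype_card, card_algHom, Module.finrank_linearMap_self])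

@[simp] theorem autBasis_apply (σ : K →ₐ[F] K) : autBasis F K σ = σ.toLinearMap := by
  simp [autBasis]

theorem autBasis_repr_compMul (f : K →ₗ[F] K) (k : K) (ρ : K →ₐ[F] K) :
    (autBasis F K).repr (f.comp (LinearMap.mulLeft F k)) ρ = ρ k * (autBasis F K).repr f ρ := by
  let L₁ : (K →ₗ[F] K) →ₗ[K] K :=
    { toFun := fun g => (autBasis F K).repr (g.comp (LinearMap.mulLeft F k)) ρ
      map_add' := fun g h => by simp [LinearMap.add_comp]
      map_smul' := fun c g => by simp [LinearMap.smul_comp] }
  have h : L₁ = ρ k • ((Finsupp.lapply ρ).comp (autBasis F K).repr.toLinearMap) := by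
    refine (autBasis F K).ext fun τ => ?_
    show (autBasis F K).repr ((autBasis F K τ).comp (LinearMap.mulLeft F k)) ρ = _
    have e : (autBasis F K τ).comp (LinearMap.mulLeft F k) = τ k • autBasis F K τ := by
      refine LinearMap.ext fun y => ?_
      simp
    rw [e]
    by_cases hτ : τ = ρ
    · subst hτ; simp [-autBasis_apply]
    · simp [-autBasis_apply, hτ, Ne.symm hτ]
  exact LinearMap.congr_fun h f

/-- A subspace stable under right scalars contains the automorphisms occurring in its members. -/
theorem component_mem (R : Submodule K (K →ₗ[F] K))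
    (hR : ∀ f ∈ R, ∀ k : K, f.comp (LinearMap.mulLeft F k) ∈ R) {f : K →ₗ[F] K} (hf : f ∈ R) {σ : K →ₐ[F] K}
    (hσ : (autBasis F K).repr f σ ≠ 0) : σ.toLinearMap ∈ R := by
  induction hn : ((autBasis F K).repr f).support.card using Nat.strong_induction_on generalizing f with
  | _ n ih =>
    subst hn
    by_cases h : ∃ τ, τ ≠ σ ∧ (autBasis F K).repr f τ ≠ 0
    · obtain ⟨τ, hτσ, hτ⟩ := h
      obtain ⟨k, hk⟩ : ∃ k, τ k ≠ σ k := by
        by_contra hno
        push Not at hno
        exact hτσ (AlgHom.ext hno)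
      set f' := τ k • f - f.comp (LinearMap.mulLeft F k)
      have hc : ∀ ρ, (autBasis F K).repr f' ρ = (τ k - ρ k) * (autBasis F K).repr f ρ := fun ρ => by
        simp [f', autBasis_repr_compMul, sub_mul]
      refine ih _ ?_ (R.sub_mem (R.smul_mem _ hf) (hR f hf k)) (by rw [hc]; exact mul_ne_zero (sub_ne_zero.2 hk) hσ) rfl
      refine Finset.card_lt_card ((Finset.ssubset_iff_of_subset fun ρ hρ => ?_).2
        ⟨τ, Finsupp.mem_support_iff.2 hτ, fun h' => ?_⟩)
      · rw [Finsupp.mem_support_iff] at hρ ⊢
        exact fun h0 => hρ (by rw [hc, h0, mul_zero])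
      · exact Finsupp.mem_support_iff.1 h' (by rw [hc, sub_self, zero_mul])
    · push Not at h
      have e : (autBasis F K).repr f = Finsupp.single σ ((autBasis F K).repr f σ) := by
        refine Finsupp.ext fun ρ => ?_
        by_cases hρ : ρ = σ
        · subst hρ; simp
        · simp [Finsupp.single_apply, Ne.symm hρ, h ρ hρ]
      have e2 : f = (autBasis F K).repr f σ • σ.toLinearMap := by
        conv_lhs => rw [← (autBasis F K).linearCombination_repr f, e]
        simp
      rw [e2] at hf
      have := R.smul_mem ((autBasis F K).repr f σ)⁻¹ hf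
      rwa [inv_smul_smul₀ hσ] at this

theorem comp_autBasis_left (x : K →ₗ[F] K) (σ ρ : K →ₐ[F] K) :
    (autBasis F K).repr (x.comp σ.toLinearMap) (ρ.comp σ) = (autBasis F K).repr x ρ := by
  have hinj : Function.Injective fun τ : K →ₐ[F] K => τ.comp σ := fun a b h => AlgHom.ext fun y => by
    obtain ⟨z, rfl⟩ := (Finite.injective_iff_surjective.1 σ.toRingHom.injective) y
    exact AlgHom.congr_fun h z
  let L₁ : (K →ₗ[F] K) →ₗ[K] K :=
    { toFun := fun g => (autBasis F K).repr (g.comp σ.toLinearMap) (ρ.comp σ)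
      map_add' := fun g h => by simp [LinearMap.add_comp]
      map_smul' := fun c g => by simp [LinearMap.smul_comp] }
  have h : L₁ = (Finsupp.lapply ρ).comp (autBasis F K).repr.toLinearMap := by
    refine (autBasis F K).ext fun τ => ?_
    show (autBasis F K).repr ((autBasis F K τ).comp σ.toLinearMap) (ρ.comp σ) = _
    rw [show (autBasis F K τ).comp σ.toLinearMap = autBasis F K (τ.comp σ) by
      simp only [autBasis_apply]; rfl]
    by_cases hτ : τ = ρ
    · subst hτ; simp [-autBasis_apply]
    · simp [-autBasis_apply, Finsupp.single_apply, hτ, hinj.ne hτ]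
  exact LinearMap.congr_fun h x

theorem comp_autBasis_right (x : K →ₗ[F] K) (σ ρ : K →ₐ[F] K) :
    (autBasis F K).repr (σ.toLinearMap.comp x) (σ.comp ρ) = σ ((autBasis F K).repr x ρ) := by
  classical
  have : Fintype (K →ₐ[F] K) := Fintype.ofFinite _
  have hinj : Function.Injective fun τ : K →ₐ[F] K => σ.comp τ := fun a b h => AlgHom.ext fun y =>
    σ.toRingHom.injective (AlgHom.congr_fun h y)
  have e : σ.toLinearMap.comp x =
      ∑ τ, σ ((autBasis F K).repr x τ) • autBasis F K (σ.comp τ) := by
    refine LinearMap.ext fun y => ?_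
    conv_lhs => rw [← (autBasis F K).sum_repr x]
    simp
  rw [e, map_sum, Finsupp.finsetSum_apply, Finset.sum_eq_single ρ]
  · simp [-autBasis_apply]
  · intro τ _ hτ; simp [-autBasis_apply, Finsupp.single_apply, hinj.ne hτ]
  · simp

theorem eq_top_of_all_mem (R : Submodule K (K →ₗ[F] K)) (h : ∀ σ : K →ₐ[F] K, σ.toLinearMap ∈ R) : R = ⊤ := by
  rw [eq_top_iff, ← (autBasis F K).span_eq, Submodule.span_le]
  rintro _ ⟨σ, rfl⟩
  simpa using h σ

/-- An element outside the scalars has a non-trivial component. -/
theorem exists_component {f : K →ₗ[F] K} (hf : ∀ c : K, f ≠ LinearMap.mulLeft F c) :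
    ∃ σ : K →ₐ[F] K, σ ≠ AlgHom.id F K ∧ (autBasis F K).repr f σ ≠ 0 := by
  by_contra hno
  push Not at hno
  apply hf ((autBasis F K).repr f (AlgHom.id F K))
  have e : (autBasis F K).repr f = Finsupp.single (AlgHom.id F K) ((autBasis F K).repr f (AlgHom.id F K)) := by
    refine Finsupp.ext fun ρ => ?_
    by_cases hρ : ρ = AlgHom.id F K
    · subst hρ; simp
    · simp [Finsupp.single_apply, Ne.symm hρ, hno ρ hρ]
  conv_lhs => rw [← (autBasis F K).linearCombination_repr f, e]
  refine LinearMap.ext fun y => ?_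
  simp

variable (R : Submodule K (K →ₗ[F] K)) (hR : ∀ f ∈ R, ∀ k : K, f.comp (LinearMap.mulLeft F k) ∈ R)
  (h1 : LinearMap.id ∈ R)

include hR h1 in
/-- Closure under composition, or degree two, leaves only the whole endomorphism ring. -/
theorem eq_top_of_comp (hr : (finrank F K).Prime) {f : K →ₗ[F] K} (hf : f ∈ R)
    (hns : ∀ c : K, f ≠ LinearMap.mulLeft F c)
    (hcl : finrank F K = 2 ∨ ∀ g ∈ R, ∀ g' ∈ R, g.comp g' ∈ R) : R = ⊤ := by
  obtain ⟨τ, hτ, hτc⟩ := exists_component hns
  have hτR := component_mem R hR hf hτc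
  refine eq_top_of_all_mem R fun σ => ?_
  obtain ⟨j, rfl⟩ := exists_pow_eq hr hτ σ
  induction j with
  | zero => exact h1
  | succ j ih =>
    rcases hcl with h2 | hc
    · by_cases he : τ ^ (j + 1) = AlgHom.id F K
      · rw [he]; exact h1
      · suffices τ ^ (j + 1) = τ by rw [this]; exact hτR
        by_contra hne
        have h3 : ({AlgHom.id F K, τ, τ ^ (j + 1)} : Set (K →ₐ[F] K)).ncard = 3 := by
          rw [Set.ncard_eq_three]
          exact ⟨_, _, _, Ne.symm hτ, Ne.symm he, Ne.symm hne, rfl⟩
        have h4 := Set.ncard_le_card ({AlgHom.id F K, τ, τ ^ (j + 1)} : Set (K →ₐ[F] K))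
        rw [card_algHom, h2] at h4
        omega
    · exact hc _ ih _ hτR

include hR h1 in
/-- The left idealiser of a proper sub-bimodule consists of scalars. -/
theorem left_idealiser (hr : (finrank F K).Prime) (hne : R ≠ ⊤) {x : K →ₗ[F] K}
    (hx : ∀ g ∈ R, x.comp g ∈ R) : ∃ c : K, x = LinearMap.mulLeft F c := by
  by_contra hno
  push Not at hno
  obtain ⟨τ, hτ, hτc⟩ := exists_component hno
  refine hne (eq_top_of_all_mem R fun σ => ?_)
  obtain ⟨j, rfl⟩ := exists_pow_eq hr hτ σ
  induction j with
  | zero => exact h1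
  | succ j ih =>
    rw [pow_succ']
    exact component_mem R hR (hx _ ih) (by rw [show τ * τ ^ j = τ.comp (τ ^ j) from rfl, comp_autBasis_left]; exact hτc)

include hR h1 in
/-- The right idealiser of a proper sub-bimodule consists of scalars. -/
theorem right_idealiser (hr : (finrank F K).Prime) (hne : R ≠ ⊤) {x : K →ₗ[F] K}
    (hx : ∀ g ∈ R, g.comp x ∈ R) : ∃ c : K, x = LinearMap.mulLeft F c := by
  by_contra hno
  push Not at hno
  obtain ⟨τ, hτ, hτc⟩ := exists_component hno
  refine hne (eq_top_of_all_mem R fun σ => ?_)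
  obtain ⟨j, rfl⟩ := exists_pow_eq hr hτ σ
  induction j with
  | zero => exact h1
  | succ j ih =>
    rw [pow_succ]
    refine component_mem R hR (hx _ ih) ?_
    rw [show τ ^ j * τ = (τ ^ j).comp τ from rfl, comp_autBasis_right]
    exact fun h => hτc ((τ ^ j).toRingHom.injective (h.trans (map_zero _).symm))

end CfsgLib.FieldMax
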