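import Cfsg.Agent.Aschbacher.FieldMax.Basic
import Cfsg.Agent.Aschbacher.FieldMax.Galois
import Mathlib.GroupTheory.GroupAction.CardCommute
import Mathlib.Combinatorics.Enumerative.DoubleCounting

/-!
The count of the images of the line through a fixed vector: if the translations along the line act with small
stabilisers on them, the line was not moved at all.
-/

set_option autoImplicit false
set_option linter.unusedSectionVars false

namespace CfsgLib.FieldMax

open Module

theorem dvd_mul_card_of_stab {G X : Type*} [Group G] [MulAction G X] [Finite G] [Finite X] {d : ℕ}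
    (h : ∀ x : X, Nat.card (MulAction.stabilizer G x) ∣ d) : Nat.card G ∣ d * Nat.card X := by
  classical
  have : Fintype (Quotient (MulAction.orbitRel G X)) := Fintype.ofFinite _
  rw [Nat.card_congr (MulAction.selfEquivSigmaOrbitsQuotientStabilizer G X), Nat.card_sigma, Finset.mul_sum]
  refine Finset.dvd_sum fun ω _ => ?_
  set S := MulAction.stabilizer G ω.out
  obtain ⟨e, he⟩ := h ω.out
  exact ⟨e, by rw [he, ← S.index_mul_card, Subgroup.index_eq_card]; ring⟩

variable {F : Type*} [Field F] [Finite F] {K : Type*} [Field K] [Algebra F K] [Finite K] {m : ℕ}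

local notation "V" => (Fin (m + 2) → K)
local notation "GV" => ((Fin (m + 2) → K) ≃ₗ[F] (Fin (m + 2) → K))

variable {H : Subgroup ((Fin (m + 2) → K) ≃ₗ[F] (Fin (m + 2) → K))}

/-- The translation along the first line with coefficients `c`. -/
def shear (c : Fin (m + 1) → K) : Module.End F V :=
  ((∑ i : Fin (m + 1), c i • (LinearMap.proj i.succ : V →ₗ[K] K)).smulRight (v0 : V)).restrictScalars F

theorem shear_apply (c : Fin (m + 1) → K) (x : V) :
    shear (F := F) c x = (∑ i : Fin (m + 1), c i * x i.succ) • v0 := by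
  simp [shear]

theorem shear_eq_zero_of_mem (c : Fin (m + 1) → K) {x : V} (hx : x ∈ (lineS : Submodule F V)) :
    shear (F := F) c x = 0 := by
  rw [shear_apply]
  simp [mem_lineS.1 hx _ (Fin.succ_ne_zero _)]

theorem shear_sq (c : Fin (m + 1) → K) (x : V) : shear (F := F) c (shear (F := F) c x) = 0 := by
  refine shear_eq_zero_of_mem c ?_
  rw [shear_apply]
  exact smul_v0_mem _

/-- The translation as a group element. -/
def shearGV (c : Fin (m + 1) → K) : GV := oneAdd (shear c) (shear_sq c)

theorem shearGV_apply (c : Fin (m + 1) → K) (x : V) : shearGV (F := F) c x = x + shear (F := F) c x := rfl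

theorem shearGV_kLin (c : Fin (m + 1) → K) : KLin (shearGV (F := F) c) := fun k x => by
  simp only [shearGV_apply, shear_apply, smul_add, smul_smul, Finset.mul_sum, Pi.smul_apply, smul_eq_mul]
  congr 2
  exact Finset.sum_congr rfl fun i _ => by ring

theorem Over.shearGV_mem (hH : Over H) (c : Fin (m + 1) → K) : shearGV c ∈ H :=
  hH.semi _ (shearGV_kLin c).semiLin (det_oneAdd _ _)

theorem shearGV_add (c c' : Fin (m + 1) → K) (x : V) :
    shearGV (F := F) c (shearGV (F := F) c' x) = shearGV (F := F) (c + c') x := by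
  simp only [shearGV_apply, map_add, shear_eq_zero_of_mem c (show shear (F := F) c' x ∈ (lineS : Submodule F V) by
    rw [shear_apply]; exact smul_v0_mem _), add_zero]
  simp only [shear_apply, Pi.add_apply, add_mul, Finset.sum_add_distrib, add_smul]
  abel

theorem shearGV_fix (c : Fin (m + 1) → K) {x : V} (hx : x ∈ (lineS : Submodule F V)) :
    shearGV (F := F) c x = x := by
  rw [shearGV_apply, shear_eq_zero_of_mem c hx, add_zero]

/-- The range of a non-trivial translation is the whole line. -/
theorem range_shear {c : Fin (m + 1) → K} (hc : c ≠ 0) :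
    LinearMap.range (shear c) = (lineS : Submodule F V) := by
  refine le_antisymm ?_ ?_
  · rintro _ ⟨x, rfl⟩
    rw [shear_apply]
    exact smul_v0_mem _
  · intro x hx
    obtain ⟨i, hi⟩ := Function.ne_iff.1 hc
    refine ⟨Pi.single i.succ ((c i)⁻¹ * x 0), ?_⟩
    rw [shear_apply, Finset.sum_eq_single i]
    · rw [Pi.single_eq_same, ← mul_assoc, mul_inv_cancel₀ hi, one_mul, ← eq_smul_v0 hx]
    · intro j _ hj; simp [hj]
    · simp

/-- The images of the line containing the first basis vector. -/
def members (H : Subgroup GV) : Set (Submodule F V) :=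
  {W | ∃ h ∈ H, (lineS : Submodule F V).map (h : V →ₗ[F] V) = W ∧ v0 ∈ W}

theorem Over.exists_fix_of_member (hH : Over H) {W : Submodule F V} (hW : W ∈ members H) :
    ∃ h ∈ H, h v0 = v0 ∧ (lineS : Submodule F V).map (h : V →ₗ[F] V) = W := by
  obtain ⟨h, hh, hWe, hv⟩ := hW
  obtain ⟨y, hy, hy'⟩ := mem_map_iff.1 (hWe ▸ hv : (v0 : V) ∈ (lineS : Submodule F V).map (h : V →ₗ[F] V))
  have hy0 : y ≠ 0 := fun e => v0_ne_zero (by rw [← hy', e, map_zero])
  obtain ⟨n, hn, hnk, hne⟩ := hH.exists_trans (v0_ne_zero (m := m)) hy0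
  refine ⟨h * n, mul_mem hh hn, by rw [LinearEquiv.mul_apply, hne, hy'], ?_⟩
  rw [← hWe]
  conv_rhs => rw [← hnk.map_lineS (by rw [hne]; exact hy)]
  rw [← Submodule.map_comp]
  rfl

theorem map_member {W : Submodule F V} (hW : W ∈ members H) {g : GV} (hg : g ∈ H) (hgv : g v0 = v0) :
    W.map (g : V →ₗ[F] V) ∈ members H := by
  obtain ⟨h, hh, rfl, hv⟩ := hW
  refine ⟨g * h, mul_mem hg hh, ?_, mem_map_iff.2 ⟨v0, hv, hgv⟩⟩
  rw [← Submodule.map_comp]; rfl

theorem lineS_member : (lineS : Submodule F V) ∈ members H :=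
  ⟨1, one_mem H, Submodule.map_id _, v0_mem⟩

/-- The action of the translations on the submodules. -/
@[reducible] def shearAction : MulAction (Multiplicative (Fin (m + 1) → K)) (Submodule F V) where
  smul c W := W.map ((shearGV (Multiplicative.toAdd c) : GV) : V →ₗ[F] V)
  one_smul W := by
    show W.map _ = W
    convert Submodule.map_id W
    exact LinearMap.ext fun x => by simp [shearGV_apply, shear_apply]
  mul_smul c c' W := by
    show W.map _ = (W.map _).map _
    rw [← Submodule.map_comp]
    congr 1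
    exact LinearMap.ext fun x => (shearGV_add _ _ x).symm

/-- The translations fixing a member of the orbit set have bounded order. -/
def SmallStab (H : Subgroup GV) (d : ℕ) : Prop :=
  ∀ W ∈ members H, W ≠ (lineS : Submodule F V) →
    Nat.card {c : Fin (m + 1) → K // W.map ((shearGV c : GV) : V →ₗ[F] V) = W} ∣ d

/-- The vectors reached from `w` by elements fixing the first basis vector, up to scalars and translation. -/
def reach (H : Subgroup GV) (w : V) : Set V :=
  {x | ∃ h ∈ H, h v0 = v0 ∧ ∃ (s a : F), s ≠ 0 ∧ h x = s • w + a • v0}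

theorem reach_self (w : V) : w ∈ reach H w := ⟨1, one_mem H, rfl, 1, 0, one_ne_zero, by simp⟩

theorem reach_map {w x : V} {g : GV} (hg : g ∈ H) (hgv : g v0 = v0) (hx : g x ∈ reach H w) : x ∈ reach H w := by
  obtain ⟨h, hh, hhv, s, a, hs, he⟩ := hx
  exact ⟨h * g, mul_mem hh hg, by rw [LinearEquiv.mul_apply, hgv, hhv], s, a, hs, by rw [LinearEquiv.mul_apply, he]⟩

theorem reach_map' {w x : V} {g : GV} (hg : g ∈ H) (hgv : g v0 = v0) (hx : x ∈ reach H w) : g x ∈ reach H w :=
  reach_map (inv_mem hg) (by show g.symm v0 = v0; rw [LinearEquiv.symm_apply_eq, hgv])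
    (by show g.symm (g x) ∈ _; rwa [LinearEquiv.symm_apply_apply])

theorem reach_scale {w x : V} {t : F} (ht : t ≠ 0) (hx : x ∈ reach H w) : t • x ∈ reach H w := by
  obtain ⟨h, hh, hhv, s, a, hs, he⟩ := hx
  exact ⟨h, hh, hhv, t * s, t * a, mul_ne_zero ht hs, by rw [map_smul, he, smul_add, smul_smul, smul_smul]⟩

theorem reach_translate {w x : V} (b : F) (hx : x ∈ reach H w) : x + b • v0 ∈ reach H w := by
  obtain ⟨h, hh, hhv, s, a, hs, he⟩ := hx
  exact ⟨h, hh, hhv, s, a + b, hs, by rw [map_add, map_smul, he, hhv, add_smul, add_assoc]⟩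

/-- Membership of a reached vector transports to the base vector. -/
theorem reach_mem_iff {w x : V} {W : Submodule F V} (hv : v0 ∈ W) {h : GV} (hhv : h v0 = v0) {s a : F}
    (hs : s ≠ 0) (he : h x = s • w + a • v0) : x ∈ W ↔ w ∈ W.map (h : V →ₗ[F] V) := by
  have hv' : v0 ∈ W.map (h : V →ₗ[F] V) := mem_map_iff.2 ⟨v0, hv, hhv⟩
  constructor
  · intro hx
    have h1 : s • w + a • v0 ∈ W.map (h : V →ₗ[F] V) := mem_map_iff.2 ⟨x, hx, he⟩
    exact (Submodule.smul_mem_iff _ hs).1 ((Submodule.add_mem_iff_left _ (Submodule.smul_mem _ a hv')).1 h1)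
  · intro hw
    obtain ⟨y, hy, hye⟩ := mem_map_iff.1 (Submodule.add_mem _ (Submodule.smul_mem _ s hw) (Submodule.smul_mem _ a hv'))
    rwa [← h.injective (hye.trans he.symm)]

theorem natCard_lineS : Nat.card (lineS : Submodule F V) = Nat.card K := by
  rw [Module.natCard_eq_pow_finrank (K := F), finrank_lineS, ← Module.natCard_eq_pow_finrank]

/-- The counting identity in divisibility form. -/
theorem Over.count (hH : Over H) {d : ℕ} (hd : SmallStab H d) {w : V} (hw : w ∈ (lineS : Submodule F V)) :
    ∃ lam : ℕ, Nat.card K ^ (m + 1) ∣ d * (lam - 1) ∧ 1 ≤ lam ∧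
      Nat.card K ^ (m + 1) * Nat.card F ∣ d * lam * (reach H w \ (lineS : Submodule F V)).ncard := by
  classical
  have : Fintype F := Fintype.ofFinite F
  have : Fintype K := Fintype.ofFinite K
  have : Finite (Submodule F V) := Finite.of_injective _ SetLike.coe_injective
  have : Fintype (Submodule F V) := Fintype.ofFinite _
  set M : Finset (Submodule F V) := Finset.univ.filter (· ∈ members H)
  set O : Finset V := Finset.univ.filter (· ∈ reach H w)
  have hM : ∀ W, W ∈ M ↔ W ∈ members H := fun W => by simp [M]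
  have hO : ∀ x, x ∈ O ↔ x ∈ reach H w := fun x => by simp [O]
  set lam := (M.filter (w ∈ ·)).card
  set e := (O.filter (· ∈ (lineS : Submodule F V))).card
  have hS : (lineS : Submodule F V) ∈ M := (hM _).2 lineS_member
  -- the members through a reached vector
  have hlam : ∀ x ∈ O, (M.filter (x ∈ ·)).card = lam := by
    intro x hx
    obtain ⟨h, hh, hhv, s, a, hs, he⟩ := (hO x).1 hx
    have hi : h⁻¹ v0 = v0 := by show h.symm v0 = v0; rw [LinearEquiv.symm_apply_eq, hhv]
    refine Finset.card_bij' (fun W _ => W.map (h : V →ₗ[F] V))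
      (fun W _ => W.map ((h⁻¹ : GV) : V →ₗ[F] V)) ?_ ?_ ?_ ?_
    · intro W hW
      rw [Finset.mem_filter, hM] at hW ⊢
      obtain ⟨hWm, hxW⟩ := hW
      exact ⟨map_member hWm hh hhv, (reach_mem_iff hWm.choose_spec.2.2 hhv hs he).1 hxW⟩
    · intro W hW
      rw [Finset.mem_filter, hM] at hW ⊢
      obtain ⟨hWm, hwW⟩ := hW
      refine ⟨map_member hWm (inv_mem hh) hi, ?_⟩
      refine (reach_mem_iff (mem_map_iff.2 ⟨v0, hWm.choose_spec.2.2, hi⟩) hhv hs he).2 ?_
      rw [← Submodule.map_comp]
      convert hwW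
      convert Submodule.map_id W
      exact LinearMap.ext fun y => h.apply_symm_apply y
    · intro W _
      rw [← Submodule.map_comp]
      convert Submodule.map_id W
      exact LinearMap.ext fun y => h.symm_apply_apply y
    · intro W _
      rw [← Submodule.map_comp]
      convert Submodule.map_id W
      exact LinearMap.ext fun y => h.apply_symm_apply y
  -- the reached vectors in a member
  have he' : ∀ W ∈ M, (O.filter (· ∈ W)).card = e := by
    intro W hW
    obtain ⟨h, hh, hhv, rfl⟩ := hH.exists_fix_of_member ((hM W).1 hW)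
    refine Finset.card_bij' (fun x _ => h.symm x) (fun x _ => h x) ?_ ?_ ?_ ?_
    · intro x hx
      rw [Finset.mem_filter, hO] at hx ⊢
      obtain ⟨y, hy, rfl⟩ := mem_map_iff.1 hx.2
      rw [LinearEquiv.symm_apply_apply]
      exact ⟨reach_map hh hhv hx.1, hy⟩
    · intro x hx
      rw [Finset.mem_filter, hO] at hx ⊢
      exact ⟨reach_map' hh hhv hx.1, mem_map_iff.2 ⟨x, hx.2, rfl⟩⟩
    · intro x _; exact h.apply_symm_apply x
    · intro x _; exact h.symm_apply_apply x
  have hdc : M.card * e = lam * O.card := by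
    have h1 := Finset.sum_card_bipartiteAbove_eq_sum_card_bipartiteBelow (s := O) (t := M)
      (fun (x : V) (W : Submodule F V) => x ∈ W)
    simp only [Finset.bipartiteAbove, Finset.bipartiteBelow] at h1
    rw [Finset.sum_congr rfl hlam, Finset.sum_congr rfl he', Finset.sum_const, Finset.sum_const, smul_eq_mul,
      smul_eq_mul] at h1
    rw [← h1, mul_comm]
  -- the translations
  letI := shearAction (F := F) (K := K) (m := m)
  have hU : Nat.card (Multiplicative (Fin (m + 1) → K)) = Nat.card K ^ (m + 1) := by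
    rw [Nat.card_congr Multiplicative.toAdd, Nat.card_fun, Nat.card_fin]
  have horb : ∀ T : Set (Submodule F V), T ⊆ members H → (lineS : Submodule F V) ∉ T →
      (∀ c, ∀ W ∈ T, W.map ((shearGV c : GV) : V →ₗ[F] V) ∈ T) → Nat.card K ^ (m + 1) ∣ d * T.ncard := by
    intro T hT hTS hTc
    letI : MulAction (Multiplicative (Fin (m + 1) → K)) T :=
      { smul := fun c W => ⟨c • (W : Submodule F V), hTc _ _ W.2⟩
        one_smul := fun W => Subtype.ext (one_smul _ (W : Submodule F V))
        mul_smul := fun c c' W => Subtype.ext (mul_smul c c' (W : Submodule F V)) }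
    rw [← hU, ← Nat.card_coe_set_eq]
    refine dvd_mul_card_of_stab fun W => ?_
    refine dvd_trans ?_ (hd W (hT W.2) fun e => hTS (e ▸ W.2))
    refine dvd_of_eq (Nat.card_congr ?_)
    exact Multiplicative.toAdd.subtypeEquiv fun c => by
      rw [MulAction.mem_stabilizer_iff, ← Subtype.coe_inj]
      exact Iff.rfl
  have hmem : ∀ c, ∀ W ∈ members H, W.map ((shearGV c : GV) : V →ₗ[F] V) ∈ members H :=
    fun c W hW => map_member hW (hH.shearGV_mem c) (shearGV_fix c v0_mem)
  have hSfix : ∀ c, ∀ W : Submodule F V, W.map ((shearGV c : GV) : V →ₗ[F] V) = lineS → W = lineS := by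
    intro c W hW
    have h1 : (lineS : Submodule F V).map ((shearGV c : GV) : V →ₗ[F] V) = lineS := by
      refine map_eq_of_le ?_ le_rfl
      rintro _ ⟨x, hx, rfl⟩
      show shearGV c x ∈ _
      rwa [shearGV_fix c hx]
    exact Submodule.map_injective_of_injective (LinearEquiv.injective (shearGV c)) (hW.trans h1.symm)
  have hA : Nat.card K ^ (m + 1) ∣ d * (M.card - 1) := by
    have h1 := horb ↑(M.erase lineS) (fun W hW => by
        rw [Finset.mem_coe, Finset.mem_erase, hM] at hW; exact hW.2)
      (by simp) (fun c W hW => by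
        rw [Finset.mem_coe, Finset.mem_erase, hM] at hW ⊢
        exact ⟨fun e => hW.1 (hSfix c W e), hmem c W hW.2⟩)
    rwa [Set.ncard_coe_finset, Finset.card_erase_of_mem hS] at h1
  have hwS : (lineS : Submodule F V) ∈ M.filter (w ∈ ·) := Finset.mem_filter.2 ⟨hS, hw⟩
  have hB : Nat.card K ^ (m + 1) ∣ d * (lam - 1) := by
    have h1 := horb ↑((M.filter (w ∈ ·)).erase lineS) (fun W hW => by
        rw [Finset.mem_coe, Finset.mem_erase, Finset.mem_filter, hM] at hW; exact hW.2.1)
      (by simp) (fun c W hW => by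
        rw [Finset.mem_coe, Finset.mem_erase, Finset.mem_filter, hM] at hW ⊢
        exact ⟨fun e => hW.1 (hSfix c W e), hmem c W hW.2.1, mem_map_iff.2 ⟨w, hW.2.2, shearGV_fix c hw⟩⟩)
    rwa [Set.ncard_coe_finset, Finset.card_erase_of_mem hwS] at h1
  have hlam1 : 1 ≤ lam := Finset.card_pos.2 ⟨_, hwS⟩
  have hM1 : 1 ≤ M.card := Finset.card_pos.2 ⟨_, hS⟩
  refine ⟨lam, hB, hlam1, ?_⟩
  -- the translations along the first basis vector
  have hqe : Nat.card F ∣ e := by
    letI : MulAction (Multiplicative F) {x : V // x ∈ reach H w ∧ x ∈ (lineS : Submodule F V)} :=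
      { smul := fun b x => ⟨(x : V) + Multiplicative.toAdd b • v0, reach_translate _ x.2.1,
          Submodule.add_mem _ x.2.2 (Submodule.smul_mem _ _ (v0_mem (F := F)))⟩
        one_smul := fun x => Subtype.ext (by show (x : V) + (0 : F) • (v0 : V) = x; simp)
        mul_smul := fun b b' x => Subtype.ext (by
          show (x : V) + (Multiplicative.toAdd b + Multiplicative.toAdd b') • v0 =
            (x : V) + Multiplicative.toAdd b' • v0 + Multiplicative.toAdd b • v0
          rw [add_smul]; abel) }
    have h1 := dvd_mul_card_of_stab (G := Multiplicative F)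
      (X := {x : V // x ∈ reach H w ∧ x ∈ (lineS : Submodule F V)}) (d := 1) fun x => by
      refine dvd_of_eq (Subgroup.card_eq_one.2 ((Subgroup.eq_bot_iff_forall _).2 fun b hb => ?_))
      have h3 := congrArg Subtype.val (MulAction.mem_stabilizer_iff.1 hb)
      have h4 : ((b • x : {x : V // x ∈ reach H w ∧ x ∈ (lineS : Submodule F V)}) : V) =
          (x : V) + Multiplicative.toAdd b • (v0 : V) := by
        rfl
      have h2 : (x : V) + Multiplicative.toAdd b • (v0 : V) = x := h4.symm.trans h3
      rw [add_eq_left, smul_eq_zero] at h2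
      exact h2.resolve_right v0_ne_zero
    rw [one_mul, Nat.card_congr Multiplicative.toAdd] at h1
    rw [Nat.card_eq_fintype_card (α := {x : V // x ∈ reach H w ∧ x ∈ (lineS : Submodule F V)}),
      Fintype.card_subtype] at h1
    convert h1 using 1
    show (O.filter (· ∈ (lineS : Submodule F V))).card = _
    congr 1
    ext x
    simp [hO]
  have hout : (reach H w \ (lineS : Submodule F V)).ncard + e = O.card := by
    rw [← Finset.card_filter_add_card_filter_not (s := O) (fun x => x ∈ (lineS : Submodule F V)),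
      ← Set.ncard_coe_finset (O.filter fun x => ¬ x ∈ (lineS : Submodule F V)), add_comm]
    congr 1
    congr 1
    ext x
    simp [hO]
  obtain ⟨A, hA'⟩ : ∃ A, M.card = A + 1 := ⟨M.card - 1, by omega⟩
  obtain ⟨B, hB'⟩ : ∃ B, lam = B + 1 := ⟨lam - 1, by omega⟩
  rw [hA', Nat.add_sub_cancel] at hA
  rw [hB', Nat.add_sub_cancel] at hB
  set o := (reach H w \ (lineS : Submodule F V)).ncard
  have hkey : d * A * e = d * B * e + d * lam * o := by
    have h1 : (A + 1) * e = (B + 1) * (o + e) := by rw [← hA', hdc, hout, hB']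
    have h2 : A * e + e = B * e + e + lam * o := by rw [hB']; linarith
    calc d * A * e = d * (A * e) := by ring
      _ = d * (B * e + lam * o) := by congr 1; omega
      _ = _ := by ring
  have h1 : Nat.card K ^ (m + 1) * Nat.card F ∣ d * A * e := Nat.mul_dvd_mul hA hqe
  have h2 : Nat.card K ^ (m + 1) * Nat.card F ∣ d * B * e := Nat.mul_dvd_mul hB hqe
  rw [hkey] at h1
  exact (Nat.dvd_add_right h2).1 h1

end CfsgLib.FieldMax
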