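import Cfsg.Agent.Aschbacher.FieldMax.Count
import Mathlib.Algebra.Algebra.Subalgebra.IsSimpleOrder

/-!
Some element of the overgroup centralising the line and the quotient by it is not linear over the larger field.
-/

set_option autoImplicit false
set_option linter.unusedSectionVars false

namespace CfsgLib.FieldMax

open Module

variable {F : Type*} [Field F] [Finite F] {K : Type*} [Field K] [Algebra F K] [Finite K] {m : ℕ}

local notation "V" => (Fin (m + 2) → K)
local notation "GV" => ((Fin (m + 2) → K) ≃ₗ[F] (Fin (m + 2) → K))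
local notation "V2" => (Fin (0 + 2) → K)
local notation "GV2" => ((Fin (0 + 2) → K) ≃ₗ[F] (Fin (0 + 2) → K))

variable {H : Subgroup ((Fin (m + 2) → K) ≃ₗ[F] (Fin (m + 2) → K))}

/-- Every element centralising the line and the quotient by it is linear over the larger field. -/
def AllLinear (H : Subgroup GV) : Prop :=
  ∀ h ∈ H, (∀ x, h x - x ∈ (lineS : Submodule F V)) → (∀ x ∈ (lineS : Submodule F V), h x = x) → KLin h

theorem map_lineS_apply {h : GV} (hS : (lineS : Submodule F V).map (h : V →ₗ[F] V) = lineS) {x : V} :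
    h x ∈ (lineS : Submodule F V) ↔ x ∈ (lineS : Submodule F V) := by
  constructor
  · intro hx
    rw [← hS] at hx
    obtain ⟨y, hy, hye⟩ := mem_map_iff.1 hx
    rwa [← h.injective hye]
  · intro hx
    rw [← hS]
    exact mem_map_iff.2 ⟨x, hx, rfl⟩

theorem card_cast_zero (hr : (finrank F K).Prime) : ((Nat.card K : ℕ) : F) = 0 := by
  have : Fintype F := Fintype.ofFinite F
  rw [Module.natCard_eq_pow_finrank (K := F), Nat.card_eq_fintype_card, Nat.cast_pow,
    FiniteField.cast_card_eq_zero, zero_pow hr.ne_zero]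

theorem Over.semiLin_of_fix (hH : Over H) (hr : (finrank F K).Prime) (hlin : AllLinear H) {h : GV} (hh : h ∈ H)
    (hS : (lineS : Submodule F V).map (h : V →ₗ[F] V) = lineS) : SemiLin h := by
  -- the scalars transported by `h` commute with the translations
  have key : ∀ (c : Fin (m + 1) → K) (k : K) (y : V),
      shear (F := F) c (h.symm (k • h y)) = h.symm (k • h (shear (F := F) c y)) := by
    intro c k y
    have hg := hlin (h * shearGV c * h⁻¹) (mul_mem (mul_mem hh (hH.shearGV_mem c)) (inv_mem hh))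
      (fun x => by
        show h (shearGV c (h.symm x)) - x ∈ _
        rw [shearGV_apply, map_add, LinearEquiv.apply_symm_apply, add_sub_cancel_left, map_lineS_apply hS, shear_apply]
        exact smul_v0_mem _)
      (fun x hx => by
        show h (shearGV c (h.symm x)) = x
        rw [shearGV_fix c ((map_lineS_apply hS).1 (by rwa [LinearEquiv.apply_symm_apply])), LinearEquiv.apply_symm_apply])
      k (h y)
    simp only [LinearEquiv.mul_apply] at hg
    change h (shearGV c (h.symm (k • h y))) = k • h (shearGV c (h.symm (h y))) at hg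
    rw [shearGV_apply, shearGV_apply, LinearEquiv.symm_apply_apply, map_add, map_add, LinearEquiv.apply_symm_apply,
      smul_add] at hg
    rw [← LinearEquiv.symm_apply_apply h (shear (F := F) c (h.symm (k • h y))), add_left_cancel hg]
  let P : K → V → V := fun k y => h.symm (k • h y)
  let σ : K → K := fun k => P k (Pi.single 1 1) 1
  have hsingle : ∀ (i : Fin (m + 1)) (d : K) (y : V), shear (F := F) (Pi.single i d) y = (d * y i.succ) • v0 := by
    intro i d y
    rw [shear_apply, Finset.sum_eq_single i]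
    · simp
    · intro j _ hj; simp [hj]
    · simp
  have hPv : ∀ k d, P k (d • v0) = (σ k * d) • v0 := by
    intro k d
    have h1 := key (Pi.single 0 d) k (Pi.single 1 1)
    rw [hsingle, hsingle, Fin.succ_zero_eq_one, Pi.single_eq_same, mul_one] at h1
    show h.symm (k • h (d • v0)) = _
    rw [← h1, mul_comm]
  have hPi : ∀ k (y : V) i, i ≠ 0 → P k y i = σ k * y i := by
    intro k y i hi
    obtain ⟨j, rfl⟩ := Fin.exists_succ_eq.2 hi
    have h1 := key (Pi.single j 1) k y
    rw [hsingle, hsingle, one_mul, one_mul] at h1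
    have h2 : h.symm (k • h (y j.succ • v0)) = (σ k * y j.succ) • v0 := hPv k _
    rw [h2] at h1
    exact smul_left_injective K (v0_ne_zero (m := m)) h1
  let T : Subring K :=
    { carrier := {k | ∃ k' : K, ∀ y : V, h (k' • y) = k • h y}
      one_mem' := ⟨1, fun y => by simp⟩
      zero_mem' := ⟨0, fun y => by simp⟩
      mul_mem' := by
        rintro a b ⟨a', ha⟩ ⟨b', hb⟩
        exact ⟨a' * b', fun y => by rw [mul_smul, ha, hb, mul_smul]⟩
      add_mem' := by
        rintro a b ⟨a', ha⟩ ⟨b', hb⟩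
        exact ⟨a' + b', fun y => by rw [add_smul, map_add, ha, hb, add_smul]⟩
      neg_mem' := by
        rintro a ⟨a', ha⟩
        exact ⟨-a', fun y => by rw [neg_smul, map_neg, ha, neg_smul]⟩ }
  suffices hT : T = ⊤ by
    have h1 : SemiLin h⁻¹ := fun k => by
      obtain ⟨k', hk'⟩ := (hT ▸ Subring.mem_top k : k ∈ T)
      refine ⟨k', fun x => ?_⟩
      show h.symm (k • x) = k' • h.symm x
      rw [LinearEquiv.symm_apply_eq, hk', LinearEquiv.apply_symm_apply]
    simpa using h1.inv
  refine subring_eq_top hr T fun k hk => ?_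
  have hk0 : k ≠ 0 := fun e => by rw [e, Algebra.norm_zero] at hk; exact zero_ne_one hk
  set s : GV := diag fun _ => Units.mk0 k hk0 with hs
  have hsmul : ∀ y : V, s y = k • y := fun y => funext fun i => by simp [hs]
  have hsH : s ∈ H := hH.diag_mem (by simp [hk])
  set p : GV := h⁻¹ * s * h
  have hpP : ∀ y, p y = P k y := fun y => by
    show h.symm (s (h y)) = _
    rw [hsmul]
  have hpH : p ∈ H := mul_mem (mul_mem (inv_mem hh) hsH) hh
  have hσ0 : σ k ≠ 0 := by
    intro e
    obtain ⟨y, hy⟩ := p.surjective (Pi.single 1 1)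
    have h1 := congrFun hy 1
    rw [hpP, hPi k y 1 one_ne_zero, e, zero_mul, Pi.single_eq_same] at h1
    exact zero_ne_one h1
  set s' : GV := diag fun _ => Units.mk0 (σ k) hσ0 with hs'
  have hs'mul : ∀ y : V, s' y = σ k • y := fun y => funext fun i => by simp [hs']
  have hD : ∀ y, p y - s' y ∈ (lineS : Submodule F V) := fun y => mem_lineS.2 fun i hi => by
    rw [Pi.sub_apply, hpP, hs'mul, hPi k y i hi, Pi.smul_apply, smul_eq_mul, sub_self]
  have hD0 : ∀ y ∈ (lineS : Submodule F V), p y = s' y := fun y hy => by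
    rw [eq_smul_v0 hy, hpP, hPv, hs'mul, smul_smul]
  set g : GV := s'⁻¹ * p with hg
  have hs'inv : ∀ y : V, s'⁻¹ y = (σ k)⁻¹ • y := fun y => by
    show s'.symm y = _
    rw [LinearEquiv.symm_apply_eq, hs'mul, smul_inv_smul₀ hσ0]
  have hgS : ∀ y, g y - y ∈ (lineS : Submodule F V) := fun y => by
    show s'⁻¹ (p y) - y ∈ _
    have e : (σ k)⁻¹ • p y - y = (σ k)⁻¹ • (p y - s' y) := by rw [smul_sub, hs'mul, inv_smul_smul₀ hσ0]
    rw [hs'inv, e, eq_smul_v0 (hD _), smul_smul]
    exact smul_v0_mem _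
  have hg1 : ∀ y ∈ (lineS : Submodule F V), g y = y := fun y hy => by
    show s'⁻¹ (p y) = y
    rw [hs'inv, hD0 y hy, hs'mul, inv_smul_smul₀ hσ0]
  let D : Module.End F V := (g : V →ₗ[F] V) - 1
  have hDD : ∀ y, D (D y) = 0 := fun y => by
    show g (g y - y) - (g y - y) = 0
    rw [hg1 _ (hgS y), sub_self]
  have hgD : g = oneAdd D hDD := LinearEquiv.ext fun y => by simp [D]
  have hgH : g ∈ H := by
    have h1 : LinearEquiv.det g = 1 := by rw [hgD]; exact det_oneAdd _ _
    have h2 : LinearEquiv.det s' = 1 := by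
      have h3 := hH.det p hpH
      rwa [show p = s' * g by rw [hg, mul_inv_cancel_left], map_mul, h1, mul_one] at h3
    exact mul_mem (inv_mem (hH.semi _ (diag_kLin _).semiLin h2)) hpH
  have hgk := hlin g hgH hgS hg1
  -- the order of the scalar forces the unipotent part to vanish
  have hcomm : g * s' = s' * g := LinearEquiv.ext fun y => by
    show g (s' y) = s' (g y)
    rw [hs'mul, hs'mul, hgk]
  have hpow : ∀ (j : ℕ) (y : V), (g ^ j) y = y + (j : F) • D y := by
    intro j
    induction j with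
    | zero => intro y; simp
    | succ j ih =>
      intro y
      rw [pow_succ', LinearEquiv.mul_apply, ih]
      show g (y + (j : F) • D y) = _
      have h1 : ∀ z, g z = z + D z := fun z => by simp [D]
      rw [h1, map_add, map_smul, hDD, smul_zero, add_zero, Nat.cast_succ, add_smul, one_smul, add_assoc]
  have : Fintype K := Fintype.ofFinite K
  set Q := Fintype.card K - 1
  have hQ : p ^ Q = 1 := by
    rw [show p = h⁻¹ * s * h⁻¹⁻¹ by rw [inv_inv], conj_pow]
    have : s ^ Q = 1 := LinearEquiv.ext fun y => by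
      have : ∀ j : ℕ, (s ^ j) y = k ^ j • y := fun j => by
        induction j with
        | zero => simp
        | succ j ih => rw [pow_succ', LinearEquiv.mul_apply, ih, hsmul, smul_smul, ← pow_succ']
      rw [this, FiniteField.pow_card_sub_one_eq_one k hk0, one_smul]; rfl
    rw [this, mul_one, mul_inv_cancel]
  have hs'Q : s' ^ Q = 1 := LinearEquiv.ext fun y => by
    have : ∀ j : ℕ, (s' ^ j) y = σ k ^ j • y := fun j => by
      induction j with
      | zero => simp
      | succ j ih => rw [pow_succ', LinearEquiv.mul_apply, ih, hs'mul, smul_smul, ← pow_succ']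
    rw [this, FiniteField.pow_card_sub_one_eq_one _ hσ0, one_smul]; rfl
  have hgQ : g ^ Q = 1 := by
    have h1 : (s' * g) ^ Q = 1 := by rw [← show p = s' * g by rw [hg, mul_inv_cancel_left]]; exact hQ
    rwa [(show Commute s' g from hcomm.symm).mul_pow, hs'Q, one_mul] at h1
  have hDzero : ∀ y, D y = 0 := fun y => by
    have h1 := hpow Q y
    rw [hgQ] at h1
    have h2 : ((Q : ℕ) : F) = -1 := by
      have h3 := card_cast_zero (F := F) hr
      rw [Nat.card_eq_fintype_card, show Fintype.card K = Q + 1 by have := Fintype.card_pos (α := K); omega,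
        Nat.cast_succ] at h3
      exact eq_neg_of_add_eq_zero_left h3
    rw [h2, neg_one_smul] at h1
    simpa using h1
  refine ⟨σ k, fun y => ?_⟩
  have h1 : g y = y := sub_eq_zero.1 (hDzero y)
  have h2 : p y = σ k • y := by
    rw [show p = s' * g by rw [hg, mul_inv_cancel_left], LinearEquiv.mul_apply, h1, hs'mul]
  rw [← h2, hpP]
  exact h.apply_symm_apply _

/-- A translation fixing an image of the line gives an element of the stabiliser that is not linear. -/
theorem Over.stab_element (hH : Over H) {W : Submodule F V} (hW : W ∈ members H) (hne : W ≠ lineS)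
    {c : Fin (m + 1) → K} (hc : c ≠ 0) (hfix : W.map ((shearGV c : GV) : V →ₗ[F] V) = W) :
    ∃ h ∈ H, h v0 = v0 ∧ (lineS : Submodule F V).map (h : V →ₗ[F] V) = W ∧
      h⁻¹ * shearGV c * h ∈ H ∧ (lineS : Submodule F V).map ((h⁻¹ * shearGV c * h : GV) : V →ₗ[F] V) = lineS ∧
      (∀ x, (h⁻¹ * shearGV c * h : GV) ((h⁻¹ * shearGV c * h : GV) x) + x =
        (h⁻¹ * shearGV c * h : GV) x + (h⁻¹ * shearGV c * h : GV) x) ∧
      LinearMap.range (((h⁻¹ * shearGV c * h : GV) : V →ₗ[F] V) - 1) =
        (lineS : Submodule F V).map ((h⁻¹ : GV) : V →ₗ[F] V) ∧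
      ¬ (∀ x, ((h⁻¹ * shearGV c * h : GV) x - x) ∈ (lineS : Submodule F V)) ∧
      ¬ KLin (h⁻¹ * shearGV c * h : GV) := by
  obtain ⟨h, hh, hhv, hWe⟩ := hH.exists_fix_of_member hW
  have hb : ∀ x, (h⁻¹ * shearGV c * h : GV) x = x + h.symm (shear c (h x)) := fun x => by
    show h.symm (shearGV c (h x)) = _
    rw [shearGV_apply, map_add, LinearEquiv.symm_apply_apply]
  have hrange : LinearMap.range (((h⁻¹ * shearGV c * h : GV) : V →ₗ[F] V) - 1) =
      (lineS : Submodule F V).map ((h⁻¹ : GV) : V →ₗ[F] V) := by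
    rw [← range_shear (F := F) hc]
    ext y
    simp only [LinearMap.mem_range, mem_map_iff, LinearMap.sub_apply, Module.End.one_apply, LinearEquiv.coe_coe, hb,
      add_sub_cancel_left]
    constructor
    · rintro ⟨x, rfl⟩; exact ⟨_, ⟨h x, rfl⟩, rfl⟩
    · rintro ⟨_, ⟨z, rfl⟩, rfl⟩; exact ⟨h.symm z, by rw [LinearEquiv.apply_symm_apply]; rfl⟩
  have hnot : ¬ (lineS : Submodule F V).map ((h⁻¹ : GV) : V →ₗ[F] V) = lineS := by
    intro e
    apply hne
    rw [← hWe]
    conv_lhs => rw [← e]
    rw [← Submodule.map_comp]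
    convert Submodule.map_id (lineS : Submodule F V)
    exact LinearMap.ext fun x => h.apply_symm_apply x
  refine ⟨h, hh, hhv, hWe, mul_mem (mul_mem (inv_mem hh) (hH.shearGV_mem c)) hh, ?_, fun x => ?_, hrange, ?_, ?_⟩
  · refine map_eq_of_le ?_ le_rfl
    rintro _ ⟨x, hx, rfl⟩
    show h.symm (shearGV c (h x)) ∈ _
    have h1 : shearGV (F := F) c (h x) ∈ W := by
      rw [← hfix]; exact mem_map_iff.2 ⟨h x, hWe ▸ mem_map_iff.2 ⟨x, hx, rfl⟩, rfl⟩
    rw [← hWe] at h1
    obtain ⟨z, hz, hze⟩ := mem_map_iff.1 h1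
    rwa [← hze, LinearEquiv.symm_apply_apply]
  · rw [hb ((h⁻¹ * shearGV c * h : GV) x), hb x, map_add, LinearEquiv.apply_symm_apply, map_add (shear c), shear_sq,
      add_zero]
    abel
  · intro hall
    refine hnot (Submodule.eq_of_le_of_finrank_le ?_ (le_of_eq (LinearEquiv.finrank_map_eq _ _).symm))
    rw [← hrange]
    rintro _ ⟨x, rfl⟩
    exact hall x
  · intro hk
    refine hnot (Submodule.eq_of_le_of_finrank_le ?_ (le_of_eq (LinearEquiv.finrank_map_eq _ _))).symm
    intro y hy
    obtain ⟨x, hx⟩ : (v0 : V) ∈ LinearMap.range (((h⁻¹ * shearGV c * h : GV) : V →ₗ[F] V) - 1) := by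
      rw [hrange]
      exact mem_map_iff.2 ⟨v0, v0_mem, by show h.symm v0 = v0; rw [LinearEquiv.symm_apply_eq, hhv]⟩
    rw [← hrange]
    refine ⟨y 0 • x, ?_⟩
    have hx' : (h⁻¹ * shearGV c * h : GV) x - x = v0 := hx
    show (h⁻¹ * shearGV c * h : GV) (y 0 • x) - y 0 • x = y
    rw [hk, ← smul_sub, hx', ← eq_smul_v0 hy]

theorem Over.smallStab_of_allLinear (hH : Over H) (hr : (finrank F K).Prime) (hlin : AllLinear H) :
    SmallStab H 1 ∨ (m = 0 ∧ finrank F K = 2 ∧ (2 : K) = 0 ∧ SmallStab H 2) := by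
  -- a non-trivial fixing translation gives a non-trivial automorphism
  have main : ∀ W ∈ members H, W ≠ (lineS : Submodule F V) → ∀ c : Fin (m + 1) → K, c ≠ 0 →
      W.map ((shearGV c : GV) : V →ₗ[F] V) = W → (2 : K) = 0 ∧ finrank F K = 2 ∧ m = 0 := by
    intro W hW hne c hc hfix
    obtain ⟨h, hh, hhv, hWe, hbH, hbS, hbq, hrange, -, hnk⟩ := hH.stab_element hW hne hc hfix
    obtain ⟨σ, hσ⟩ := (hH.semiLin_of_fix hr hlin hbH hbS).exists_hom
    have hσ1 : σ ≠ AlgHom.id F K := fun e => hnk fun k x => by rw [hσ, e]; rfl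
    obtain ⟨h2, hr2, hss⟩ := quad_semilinear hr
      ((h⁻¹ * shearGV c * h : GV) : V →ₗ[F] V).toAddMonoidHom (LinearEquiv.injective _) hσ hbq
      (v0_ne_zero (m := m)) hσ1
    have hbb : ∀ x, (h⁻¹ * shearGV c * h : GV) ((h⁻¹ * shearGV c * h : GV) x) = x := fun x => by
      have h3 := hbq x
      rw [← two_smul K ((h⁻¹ * shearGV c * h : GV) x), h2, zero_smul] at h3
      rw [eq_neg_of_add_eq_zero_left h3, neg_eq_iff_add_eq_zero, ← two_smul K x, h2, zero_smul]
    have hk := involution_rank h2 ((h⁻¹ * shearGV c * h : GV) : V →ₗ[F] V) hσ hbb hσ1 hss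
    rw [hrange, LinearEquiv.finrank_map_eq, finrank_lineS, Module.finrank_pi_fintype F] at hk
    simp only [Finset.sum_const, Finset.card_univ, Fintype.card_fin, smul_eq_mul] at hk
    refine ⟨h2, hr2, ?_⟩
    rw [hr2] at hk
    omega
  by_cases hcase : m = 0 ∧ finrank F K = 2 ∧ (2 : K) = 0
  swap
  · left
    intro W hW hne
    refine dvd_of_eq (Nat.card_eq_one_iff_unique.2 ⟨⟨?_⟩, ⟨⟨0, ?_⟩⟩⟩)
    · rintro ⟨a, ha⟩ ⟨b, hb⟩
      have h0 : ∀ c : Fin (m + 1) → K, W.map ((shearGV c : GV) : V →ₗ[F] V) = W → c = 0 := fun c hc => by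
        by_contra hc0
        obtain ⟨h2, hr2, hm⟩ := main W hW hne c hc0 hc
        exact hcase ⟨hm, hr2, h2⟩
      exact Subtype.ext ((h0 a ha).trans (h0 b hb).symm)
    · convert Submodule.map_id W
      exact LinearMap.ext fun x => by simp [shearGV_apply, shear_apply]
  obtain ⟨hm, hr2, h2⟩ := hcase
  refine Or.inr ⟨hm, hr2, h2, fun W hW hne => ?_⟩
  classical
  have : Fintype K := Fintype.ofFinite K
  have huniq : ∀ a b : Fin (m + 1) → K, a ≠ 0 → b ≠ 0 → W.map ((shearGV a : GV) : V →ₗ[F] V) = W →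
      W.map ((shearGV b : GV) : V →ₗ[F] V) = W → a = b := by
    intro a b ha hb hfa hfb
    by_contra hab
    have hsum : a + b ≠ 0 := fun e => hab (by
      funext i
      have h1 := congrFun e i
      simp only [Pi.add_apply, Pi.zero_apply] at h1
      linear_combination h1 - b i * h2)
    have hfab : W.map ((shearGV (a + b) : GV) : V →ₗ[F] V) = W := by
      conv_rhs => rw [← hfa, ← hfb, ← Submodule.map_comp]
      congr 1
      exact LinearMap.ext fun x => (shearGV_add a b x).symm
    obtain ⟨h, hh, hhv, hWe⟩ := hH.exists_fix_of_member hW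
    have hsemi : ∀ c, W.map ((shearGV c : GV) : V →ₗ[F] V) = W → SemiLin (h⁻¹ * shearGV c * h : GV) := by
      intro c hc
      refine hH.semiLin_of_fix hr hlin (mul_mem (mul_mem (inv_mem hh) (hH.shearGV_mem c)) hh) (map_eq_of_le ?_ le_rfl)
      rintro _ ⟨x, hx, rfl⟩
      show h.symm (shearGV c (h x)) ∈ _
      have h1 : shearGV (F := F) c (h x) ∈ W := by
        rw [← hc]; exact mem_map_iff.2 ⟨h x, hWe ▸ mem_map_iff.2 ⟨x, hx, rfl⟩, rfl⟩
      rw [← hWe] at h1
      obtain ⟨z, hz, hze⟩ := mem_map_iff.1 h1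
      rwa [← hze, LinearEquiv.symm_apply_apply]
    have hn : ∀ c, c ≠ 0 → W.map ((shearGV c : GV) : V →ₗ[F] V) = W → ¬ KLin (h⁻¹ * shearGV c * h : GV) := by
      intro c hc hfc hk
      apply hne
      obtain ⟨x, hx⟩ : (v0 : V) ∈ LinearMap.range (shear (F := F) c) := by
        rw [range_shear hc]; exact v0_mem
      have hle : (lineS : Submodule F V).map (h : V →ₗ[F] V) ≤ lineS := by
        rintro _ ⟨y, hy, rfl⟩
        show h y ∈ _
        have e : y = (h⁻¹ * shearGV c * h : GV) (y 0 • h.symm x) - y 0 • h.symm x := by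
          rw [hk, ← smul_sub]
          show y = y 0 • (h.symm (shearGV c (h (h.symm x))) - h.symm x)
          rw [LinearEquiv.apply_symm_apply, shearGV_apply, map_add, add_sub_cancel_left, hx,
            show h.symm v0 = v0 by rw [LinearEquiv.symm_apply_eq, hhv], ← eq_smul_v0 hy]
        rw [e, map_sub]
        show h (h.symm (shearGV c (h (y 0 • h.symm x)))) - h (y 0 • h.symm x) ∈ _
        rw [LinearEquiv.apply_symm_apply, shearGV_apply, add_sub_cancel_left, shear_apply]
        exact smul_v0_mem _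
      rw [← hWe]
      exact Submodule.eq_of_le_of_finrank_le hle (le_of_eq (LinearEquiv.finrank_map_eq _ _).symm)
    obtain ⟨sa, hsa⟩ := (hsemi a hfa).exists_hom
    obtain ⟨sb, hsb⟩ := (hsemi b hfb).exists_hom
    have htwo : ∀ τ : K →ₐ[F] K, τ ≠ AlgHom.id F K → τ = sa := fun τ hτ => by
      by_contra hne'
      have hsa1 : sa ≠ AlgHom.id F K := fun e => hn a ha hfa fun k x => by rw [hsa, e]; rfl
      have h3 : ({AlgHom.id F K, sa, τ} : Set (K →ₐ[F] K)).ncard = 3 := by
        rw [Set.ncard_eq_three]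
        exact ⟨_, _, _, Ne.symm hsa1, Ne.symm hτ, Ne.symm hne', rfl⟩
      have h4 := Set.ncard_le_card ({AlgHom.id F K, sa, τ} : Set (K →ₐ[F] K))
      rw [card_algHom, hr2] at h4
      omega
    have hsb' : sb = sa := htwo sb fun e => hn b hb hfb fun k x => by rw [hsb, e]; rfl
    subst hsb'
    refine hn (a + b) hsum hfab fun k x => ?_
    have hmul : (h⁻¹ * shearGV (a + b) * h : GV) = (h⁻¹ * shearGV a * h : GV) * (h⁻¹ * shearGV b * h : GV) := by
      rw [show shearGV (F := F) (a + b) = shearGV a * shearGV b from LinearEquiv.ext fun y => (shearGV_add a b y).symm]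
      group
    rw [hmul]
    show (h⁻¹ * shearGV a * h : GV) ((h⁻¹ * shearGV b * h : GV) (k • x)) =
      k • (h⁻¹ * shearGV a * h : GV) ((h⁻¹ * shearGV b * h : GV) x)
    rw [hsb, hsa]
    congr 1
    have hsa1 : sb ≠ AlgHom.id F K := fun e => hn b hb hfb fun k x => by rw [hsb, e]; rfl
    by_contra hne'
    apply hne'
    by_cases hs : sb.comp sb = AlgHom.id F K
    · exact AlgHom.congr_fun hs k
    · exfalso
      have h5 : sb.comp sb = sb := htwo _ hs
      exact hsa1 (AlgHom.ext fun y => sb.toRingHom.injective (AlgHom.congr_fun h5 y))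
  have hcard : Nat.card {c : Fin (m + 1) → K // W.map ((shearGV c : GV) : V →ₗ[F] V) = W} ≤ 2 := by
    rw [Nat.card_eq_fintype_card, Fintype.card_subtype]
    by_contra hlt
    obtain ⟨a, b, c, ha, hb, hc, hab, hac, hbc⟩ := Finset.two_lt_card_iff.1 (not_le.1 hlt)
    simp only [Finset.mem_filter, Finset.mem_univ, true_and] at ha hb hc
    by_cases ha0 : a = 0
    · exact hbc (huniq b c (fun e => hab (ha0.trans e.symm)) (fun e => hac (ha0.trans e.symm)) hb hc)
    · by_cases hb0 : b = 0
      · exact hac (huniq a c ha0 (fun e => hbc (hb0.trans e.symm)) ha hc)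
      · exact hab (huniq a b ha0 hb0 ha hb)
  have hpos : 0 < Nat.card {c : Fin (m + 1) → K // W.map ((shearGV c : GV) : V →ₗ[F] V) = W} := by
    have : Nonempty {c : Fin (m + 1) → K // W.map ((shearGV c : GV) : V →ₗ[F] V) = W} := ⟨⟨0, by
      convert Submodule.map_id W
      exact LinearMap.ext fun x => by simp [shearGV_apply, shear_apply]⟩⟩
    exact Nat.card_pos
  interval_cases (Nat.card {c : Fin (m + 1) → K // W.map ((shearGV c : GV) : V →ₗ[F] V) = W}) <;> norm_num

theorem reach_shear (hH : Over H) {w x : V} (c : Fin (m + 1) → K) (hx : x ∈ reach H w) :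
    shearGV (F := F) c x ∈ reach H w :=
  reach_map' (hH.shearGV_mem c) (shearGV_fix c v0_mem) hx

/-- The stabilisers cannot all be small. -/
theorem Over.count_false (hH : Over H) (hr : (finrank F K).Prime) {d : ℕ} (hd : SmallStab H d)
    (hcase : d = 1 ∨ (d = 2 ∧ m = 0 ∧ finrank F K = 2 ∧ (2 : K) = 0 ∧ Nat.card F ≠ 2)) : False := by
  classical
  have : Fintype F := Fintype.ofFinite F
  have : Fintype K := Fintype.ofFinite K
  obtain ⟨h, hh, hhv, w, hw, hz⟩ := hH.exists_move
  set z := h w
  have hzr : z ∈ reach H w := reach_map' hh hhv (reach_self w)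
  obtain ⟨lam, hlam, hlam1, hdvd⟩ := hH.count hd hw
  set Q := Nat.card K with hQ
  have hq2 : 2 ≤ Nat.card F := Finite.one_lt_card
  have hQq : Q = Nat.card F ^ finrank F K := Module.natCard_eq_pow_finrank
  have hqQ : Nat.card F ∣ Q := hQq ▸ dvd_pow_self _ hr.ne_zero
  -- the multiplicity is prime to the characteristic
  have hcop : Nat.Coprime lam (Q ^ (m + 1) * Nat.card F) := by
    obtain ⟨B, rfl⟩ : ∃ B, lam = B + 1 := ⟨lam - 1, by omega⟩
    rw [Nat.add_sub_cancel] at hlam
    have hcQ : Nat.Coprime (B + 1) Q := by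
      rcases hcase with rfl | ⟨rfl, -, hr2, h2, -⟩
      · rw [one_mul] at hlam
        obtain ⟨j, hj⟩ : Q ∣ B := (dvd_pow_self Q (Nat.succ_ne_zero m)).trans hlam
        rw [hj, Nat.coprime_mul_left_add_left]
        exact Nat.coprime_one_left Q
      · have h2' : CharP F 2 := by
          have h2F : (2 : F) = 0 := (algebraMap F K).injective (by rw [map_ofNat, map_zero, h2])
          exact ringChar.of_eq ((CharP.ringChar_of_prime_eq_zero Nat.prime_two (by exact_mod_cast h2F)))
        obtain ⟨⟨e, he0⟩, -, he⟩ := FiniteField.card F 2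
        have hQe : Q = 2 ^ (e * 2) := by rw [hQq, Nat.card_eq_fintype_card, he, hr2, ← pow_mul]; rfl
        rw [hQe]
        refine Nat.Coprime.pow_right _ ?_
        have h4 : 2 * 2 ∣ 2 * B := by
          refine dvd_trans ?_ hlam
          rw [hQe, ← pow_mul, ← pow_two]
          exact pow_dvd_pow 2 (by nlinarith)
        have hB : 2 ∣ B := (Nat.mul_dvd_mul_iff_left two_pos).1 h4
        rw [Nat.coprime_two_right]
        exact (even_iff_two_dvd.2 hB).add_one
    exact Nat.Coprime.mul_right (hcQ.pow_right _) (hcQ.coprime_dvd_right hqQ)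
  set O := reach H w \ (lineS : Submodule F V)
  have hdvd' : Q ^ (m + 1) * Nat.card F ∣ d * O.ncard := by
    refine hcop.symm.dvd_of_dvd_mul_left ?_
    rwa [mul_left_comm, ← mul_assoc]
  have hqpos : 0 < Q := Nat.card_pos
  by_cases hm : 0 < m
  · have hd1 : d = 1 := by
      rcases hcase with h1 | ⟨-, h1, -⟩
      · exact h1
      · omega
    have hO : O = (Set.univ : Set V) \ (lineS : Submodule F V) := by
      refine Set.ext fun x => ⟨fun hx => ⟨trivial, hx.2⟩, fun hx => ⟨?_, hx.2⟩⟩
      obtain ⟨g, hg, -, hgx, hgv⟩ := hH.exists_trans_fix hm hx.2 hz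
      exact reach_map hg hgv (hgx ▸ hzr)
    have hcard : O.ncard + Q = Q ^ (m + 2) := by
      have h1 := Set.ncard_diff_add_ncard_of_subset (Set.subset_univ ((lineS : Submodule F V) : Set V))
      rwa [← hO, ← Nat.card_coe_set_eq ((lineS : Submodule F V) : Set V), SetLike.coe_sort_coe, natCard_lineS,
        Set.ncard_univ, Nat.card_fun, Nat.card_fin] at h1
    rw [hd1, one_mul] at hdvd'
    have h2 : Q * Q ∣ O.ncard :=
      dvd_trans (Dvd.dvd.mul_right (by rw [← pow_two]; exact pow_dvd_pow Q (by omega)) _) hdvd'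
    have h3 : Q * Q ∣ Q ^ (m + 2) := by rw [← pow_two]; exact pow_dvd_pow Q (by omega)
    rw [← hcard] at h3
    have h4 := Nat.le_of_dvd hqpos ((Nat.dvd_add_right h2).1 h3)
    have : 2 ≤ Q := Finite.one_lt_card
    nlinarith
  obtain rfl : m = 0 := by omega
  set C : Finset K := Finset.univ.filter fun c => c ≠ 0 ∧ (Pi.single 1 c : V2) ∈ reach H w with hC
  have hout : ∀ x : V2, x ∉ (lineS : Submodule F V2) ↔ x 1 ≠ 0 := fun x => by
    rw [mem_lineS]
    constructor
    · intro h1 h2; exact h1 fun i hi => by fin_cases i <;> simp_all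
    · intro h1 h2; exact h1 (h2 1 one_ne_zero)
  have hred : ∀ (x : V2) (a : K), x 1 ≠ 0 → (x ∈ reach H w → (Pi.single 0 a + Pi.single 1 (x 1) : V2) ∈ reach H w) := by
    intro x a hx hxr
    convert reach_shear hH (fun _ => (a - x 0) / x 1) hxr using 1
    funext i
    rw [shearGV_apply, shear_apply]
    fin_cases i <;> simp [v0, hx]
  have hmemC : ∀ x : V2, x ∈ O ↔ x 1 ∈ C := fun x => by
    simp only [O, Set.mem_sdiff, SetLike.mem_coe, hout, hC, Finset.mem_filter, Finset.mem_univ, true_and]
    constructor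
    · rintro ⟨hxr, hx⟩
      exact ⟨hx, by simpa using hred x 0 hx hxr⟩
    · rintro ⟨hx, hxr⟩
      refine ⟨?_, hx⟩
      have h1 := hred _ (x 0) (by simpa using hx) hxr
      convert h1 using 1
      funext i; fin_cases i <;> simp
  have hcard : O.ncard = Q * C.card := by
    rw [← Nat.card_coe_set_eq, hQ, ← Fintype.card_coe C, ← Nat.card_eq_fintype_card, ← Nat.card_prod]
    refine Nat.card_congr
      { toFun := fun x => (x.1 0, ⟨x.1 1, (hmemC x.1).1 x.2⟩)
        invFun := fun p => ⟨![p.1, (p.2 : K)], (hmemC _).2 (by simp)⟩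
        left_inv := fun x => Subtype.ext (funext fun i => by fin_cases i <;> simp)
        right_inv := fun p => Prod.ext (by simp) (Subtype.ext (by simp)) }
  have hCnorm : ∀ c ∈ C, ∀ b : K, Algebra.norm F b = 1 → b * c ∈ C := by
    intro c hc b hb
    simp only [hC, Finset.mem_filter, Finset.mem_univ, true_and] at hc ⊢
    have hb0 : b ≠ 0 := fun e => by rw [e, Algebra.norm_zero] at hb; exact zero_ne_one hb
    refine ⟨mul_ne_zero hb0 hc.1, ?_⟩
    convert reach_map' (hH.diag_two_mem (zero_ne_one (α := Fin 2)) (k := 1) (l := Units.mk0 b hb0) (by simpa using hb))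
      (by funext i; fin_cases i <;> simp [v0, two]) hc.2 using 1
    funext i; fin_cases i <;> simp [two]
  set N := C.image (Algebra.norm F)
  have hCN : C.card = N.card * Nat.card {k : K // Algebra.norm F k = 1} := by
    rw [Finset.card_eq_sum_card_image (Algebra.norm F) C, Nat.card_eq_fintype_card, Fintype.card_subtype]
    refine Finset.sum_const_nat fun a ha => ?_
    obtain ⟨c, hc, rfl⟩ := Finset.mem_image.1 ha
    have hc0 : c ≠ 0 := (Finset.mem_filter.1 hc).2.1
    have hN0 : Algebra.norm F c ≠ 0 := Algebra.norm_ne_zero_iff.2 hc0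
    refine Finset.card_bij' (fun x _ => x / c) (fun b _ => b * c) ?_ ?_ ?_ ?_
    · intro x hx
      simp only [Finset.mem_filter, Finset.mem_univ, true_and] at hx ⊢
      refine mul_right_cancel₀ hN0 ?_
      rw [one_mul, ← map_mul, div_mul_cancel₀ _ hc0, hx.2]
    · intro b hb
      simp only [Finset.mem_filter, Finset.mem_univ, true_and] at hb ⊢
      exact ⟨hCnorm c hc b hb, by rw [map_mul, hb, one_mul]⟩
    · intro x _; field_simp
    · intro b _; field_simp
  have hNsub : N ⊆ Finset.univ.erase 0 := by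
    intro a ha
    obtain ⟨c, hc, rfl⟩ := Finset.mem_image.1 ha
    exact Finset.mem_erase.2 ⟨Algebra.norm_ne_zero_iff.2 (Finset.mem_filter.1 hc).2.1, Finset.mem_univ _⟩
  have hNle : N.card ≤ Nat.card F - 1 := by
    refine (Finset.card_le_card hNsub).trans (le_of_eq ?_)
    rw [Finset.card_erase_of_mem (Finset.mem_univ _), Finset.card_univ, Nat.card_eq_fintype_card]
  have hzC : z 1 ∈ C := (hmemC z).1 ⟨hzr, hz⟩
  have hNpos : 0 < N.card := Finset.card_pos.2 ⟨_, Finset.mem_image_of_mem _ hzC⟩
  have hqd : Nat.card F ∣ d * N.card := by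
    rw [hcard, zero_add, pow_one, mul_left_comm d Q] at hdvd'
    have h1 := (Nat.mul_dvd_mul_iff_left hqpos).1 hdvd'
    rw [hCN, ← mul_assoc] at h1
    refine Nat.Coprime.dvd_of_dvd_mul_right ?_ h1
    have h2 := card_normOne (F := F) (K := K)
    have hg := Nat.gcd_dvd_left (Nat.card F) (Nat.card {k : K // Algebra.norm F k = 1})
    have hg' := Nat.gcd_dvd_right (Nat.card F) (Nat.card {k : K // Algebra.norm F k = 1})
    have h3 : Nat.gcd (Nat.card F) (Nat.card {k : K // Algebra.norm F k = 1}) ∣ Nat.card K := hg.trans hqQ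
    rw [← h2] at h3
    exact Nat.dvd_one.1 ((Nat.dvd_add_right (hg'.mul_right _)).1 h3)
  rcases hcase with rfl | ⟨rfl, -, hr2, h2, hq⟩
  · rw [one_mul] at hqd
    have := Nat.le_of_dvd hNpos hqd
    omega
  · -- squares fill the field
    have h2F : (2 : F) = 0 := (algebraMap F K).injective (by rw [map_ofNat, map_zero, h2])
    have : CharP F 2 := ringChar.of_eq ((CharP.ringChar_of_prime_eq_zero Nat.prime_two (by exact_mod_cast h2F)))
    have hall : N = Finset.univ.erase 0 := by
      refine Finset.Subset.antisymm hNsub fun a ha => ?_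
      have ha0 := (Finset.mem_erase.1 ha).1
      set c := z 1
      have hc0 : Algebra.norm F c ≠ 0 := Algebra.norm_ne_zero_iff.2 (Finset.mem_filter.1 hzC).2.1
      obtain ⟨t, ht⟩ := (Finite.injective_iff_surjective.1 (frobenius_inj F 2)) (a / Algebra.norm F c)
      rw [frobenius_def] at ht
      have ht0 : t ≠ 0 := fun e => div_ne_zero ha0 hc0 (by rw [← ht, e]; simp)
      refine Finset.mem_image.2 ⟨algebraMap F K t * c, ?_, ?_⟩
      · have h5 := (Finset.mem_filter.1 hzC).2
        refine Finset.mem_filter.2 ⟨Finset.mem_univ _, mul_ne_zero (by simpa using ht0) h5.1, ?_⟩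
        convert reach_scale ht0 h5.2 using 1
        funext i; fin_cases i <;> simp [Algebra.smul_def]
      · rw [map_mul, Algebra.norm_algebraMap, hr2, ht, div_mul_cancel₀ _ hc0]
    rw [hall, Finset.card_erase_of_mem (Finset.mem_univ _), Finset.card_univ, ← Nat.card_eq_fintype_card] at hqd
    obtain ⟨q', hq'⟩ : ∃ q', Nat.card F = q' + 1 := ⟨Nat.card F - 1, by omega⟩
    rw [hq', Nat.add_sub_cancel] at hqd
    have h6 : q' + 1 ∣ 2 * q' + 2 := ⟨2, by ring⟩
    have := Nat.le_of_dvd two_pos ((Nat.dvd_add_right hqd).1 h6)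
    omega

/-- The field of two elements, degree two. -/
theorem Over.two_false (hH : Over H) (hm : m = 0) (hr2 : finrank F K = 2) (hq : Nat.card F = 2)
    (hlin : AllLinear H) : False := by
  classical
  have hr : (finrank F K).Prime := by rw [hr2]; exact Nat.prime_two
  subst hm
  have : Fintype F := Fintype.ofFinite F
  have : Fintype K := Fintype.ofFinite K
  have hunit : ∀ u : Fˣ, u = 1 := fun u => by
    have h1 : Fintype.card Fˣ = 1 := by rw [Fintype.card_units, ← Nat.card_eq_fintype_card, hq]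
    exact (Fintype.card_eq_one_iff.1 h1).choose_spec u |>.trans ((Fintype.card_eq_one_iff.1 h1).choose_spec 1).symm
  have hmemH : ∀ g : GV2, SemiLin g → g ∈ H := fun g hg => hH.semi g hg (hunit _)
  have hdouble : ∀ x : V2, x + x = 0 := fun x => by
    have h2 : (2 : F) = 0 := by
      have := FiniteField.cast_card_eq_zero F
      rw [← Nat.card_eq_fintype_card, hq] at this
      exact_mod_cast this
    rw [← two_smul F x, h2, zero_smul]
  have h2K : (2 : K) = 0 := by
    have h := congrFun (hdouble (v0 : V2)) 0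
    simp [v0] at h
    linear_combination h
  have hel : ∀ a : F, a = 0 ∨ a = 1 := fun a => by
    rcases eq_or_ne a 0 with h | h
    · exact Or.inl h
    · exact Or.inr (congrArg Units.val (hunit (Units.mk0 a h)))
  -- the Galois involution and a cube root of unity
  obtain ⟨τ, hτ⟩ : ∃ τ : K →ₐ[F] K, τ ≠ AlgHom.id F K := by
    by_contra hno
    push Not at hno
    have h1 : Nat.card (K →ₐ[F] K) ≤ 1 := by
      rw [Finite.card_le_one_iff_subsingleton]
      exact ⟨fun a b => (hno a).trans (hno b).symm⟩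
    rw [card_algHom, hr2] at h1
    omega
  have hfix : ∀ k : K, τ k = k → k = 0 ∨ k = 1 := by
    intro k hk
    let E : Subalgebra F K :=
      { carrier := {x | τ x = x}
        mul_mem' := fun {a b} ha hb => by simp only [Set.mem_setOf_eq, map_mul] at *; rw [ha, hb]
        add_mem' := fun {a b} ha hb => by simp only [Set.mem_setOf_eq, map_add] at *; rw [ha, hb]
        algebraMap_mem' := fun a => τ.commutes a }
    have := Subalgebra.isSimpleOrder_of_finrank_prime F K hr
    rcases this.eq_bot_or_eq_top E with h | h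
    · have hk' : k ∈ E := hk
      rw [h, Algebra.mem_bot] at hk'
      obtain ⟨a, rfl⟩ := hk'
      rcases hel a with rfl | rfl
      · exact Or.inl (map_zero _)
      · exact Or.inr (map_one _)
    · refine absurd (AlgHom.ext fun x => ?_) hτ
      have hx : x ∈ E := h ▸ Algebra.mem_top
      exact hx
  obtain ⟨ω, hω0, hω1⟩ : ∃ ω : K, ω ≠ 0 ∧ ω ≠ 1 := by
    by_contra hno
    push Not at hno
    exact hτ (AlgHom.ext fun k => by
      by_cases h : k = 0
      · subst h; simp
      · rw [hno k h, map_one]; rfl)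
  have hK4 : Fintype.card K = 4 := by
    rw [← Nat.card_eq_fintype_card, Module.natCard_eq_pow_finrank (K := F), hq, hr2]; rfl
  have hω : ω * ω + ω + 1 = 0 := by
    have h1 := FiniteField.pow_card_sub_one_eq_one ω hω0
    rw [hK4] at h1
    have h2 : (ω - 1) * (ω * ω + ω + 1) = 0 := by linear_combination h1
    exact (mul_eq_zero.1 h2).resolve_left (sub_ne_zero.2 hω1)
  -- a moved line contains the second basis vector
  obtain ⟨h0, hh0, hhv0, w, hw, hz⟩ := hH.exists_move
  have hzr : h0 w ∈ reach H w := reach_map' hh0 hhv0 (reach_self w)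
  have hz1 : h0 w 1 ≠ 0 := fun e => hz (mem_lineS.2 fun i hi => by fin_cases i <;> simp_all)
  have he1 : (Pi.single 1 1 : V2) ∈ reach H w := by
    have h1 := reach_shear hH (fun _ => -(h0 w 0 / h0 w 1)) hzr
    have hdi : ∀ x : V2, ∀ b : Kˣ, x ∈ reach H w → diag (two (0 : Fin 2) 1 1 b) x ∈ reach H w := fun x b hx =>
      reach_map' (hmemH _ (diag_kLin _).semiLin) (by funext i; fin_cases i <;> simp [v0, two]) hx
    convert hdi _ (Units.mk0 _ hz1)⁻¹ h1 using 1
    funext i
    rw [diag_apply, shearGV_apply, shear_apply]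
    fin_cases i <;> simp [v0, two, hz1]
  obtain ⟨h, hh, hhv, s, a, hs, he⟩ := he1
  set e1 : V2 := Pi.single 1 1
  have hhe : h e1 ∈ (lineS : Submodule F V2) := by
    rw [he]; exact Submodule.add_mem _ (Submodule.smul_mem _ _ hw) (Submodule.smul_mem _ _ v0_mem)
  have hspan : ∀ y ∈ (lineS : Submodule F V2), ∃ a b : F, y = a • v0 + b • h e1 := by
    intro y hy
    have hli : LinearIndependent F ![(v0 : V2), h e1] := by
      rw [LinearIndependent.pair_iff]
      intro a b hab
      have h1 : h (a • v0 + b • e1) = 0 := by rw [map_add, map_smul, map_smul, hhv, hab]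
      have h2 : a • v0 + b • e1 = 0 := h.injective (h1.trans (map_zero h).symm)
      have h3 := congrFun h2 0
      have h4 := congrFun h2 1
      simp [v0, e1] at h3 h4
      exact ⟨h3, h4⟩
    have hsp : Submodule.span F (Set.range ![(v0 : V2), h e1]) = lineS := by
      refine Submodule.eq_of_le_of_finrank_le (Submodule.span_le.2 ?_) ?_
      · rintro _ ⟨i, rfl⟩
        fin_cases i
        exacts [v0_mem, hhe]
      · rw [finrank_span_eq_card hli, finrank_lineS, hr2, Fintype.card_fin]
    rw [← hsp, show Set.range ![(v0 : V2), h e1] = {(v0 : V2), h e1} by simp [Set.pair_comm], Submodule.mem_span_pair] at hy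
    obtain ⟨a, b, hab⟩ := hy
    exact ⟨a, b, hab.symm⟩
  -- entrywise involution and the order three element
  let φ : GV2 := LinearEquiv.piCongrRight fun _ =>
    (LinearEquiv.ofBijective τ.toLinearMap ⟨τ.toRingHom.injective, Finite.injective_iff_surjective.1 τ.toRingHom.injective⟩)
  have hφ : ∀ (x : V2) i, φ x i = τ (x i) := fun x i => rfl
  let ρl : V2 →ₗ[F] V2 :=
    { toFun := fun x => ![x 1, x 0 + x 1]
      map_add' := fun x y => by funext i; fin_cases i <;> simp [add_add_add_comm]
      map_smul' := fun c x => by funext i; fin_cases i <;> simp [smul_add] }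
  have hρinj : Function.Injective ρl := fun x y hxy => by
    have h0 := congrFun hxy 0
    have h1 := congrFun hxy 1
    simp [ρl] at h0 h1
    funext i; fin_cases i
    · rw [h0] at h1; exact add_right_cancel h1
    · exact h0
  let ρ : GV2 := LinearEquiv.ofInjectiveEndo ρl hρinj
  have hρ : ∀ x : V2, ρ x = ![x 1, x 0 + x 1] := fun x => rfl
  have hρk : KLin ρ := fun k x => by
    rw [hρ, hρ]; funext i; fin_cases i <;> simp [mul_add]
  have hφs : SemiLin φ := fun k => ⟨τ k, fun x => funext fun i => by simp [hφ]⟩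
  let z : GV2 := diag fun _ => Units.mk0 ω hω0
  have hzmul : ∀ x : V2, z x = ω • x := fun x => funext fun i => by simp [z]
  have hφv : φ v0 = v0 := funext fun i => by fin_cases i <;> simp [hφ, v0]
  have hφe : φ e1 = e1 := funext fun i => by fin_cases i <;> simp [hφ, e1]
  have hρv : ρ v0 = e1 := funext fun i => by fin_cases i <;> simp [hρ, v0, e1]
  have hρe : ρ e1 = v0 + e1 := funext fun i => by fin_cases i <;> simp [hρ, v0, e1]
  have hsymm : h.symm v0 = v0 := by rw [LinearEquiv.symm_apply_eq, hhv]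
  -- conjugates fixing the line are semilinear
  have hconj : ∀ g : GV2, g ∈ H → (∃ a b : F, g v0 = a • v0 + b • e1) → (∃ a b : F, g e1 = a • v0 + b • e1) →
      SemiLin (h * g * h⁻¹) := by
    intro g hg ⟨a, b, hga⟩ ⟨a', b', hgb⟩
    refine hH.semiLin_of_fix hr hlin (mul_mem (mul_mem hh hg) (inv_mem hh)) (map_eq_of_le ?_ le_rfl)
    rintro _ ⟨y, hy, rfl⟩
    obtain ⟨c, d, rfl⟩ := hspan y hy
    show h (g (h.symm (c • v0 + d • h e1))) ∈ _
    rw [map_add, map_smul, map_smul, hsymm, LinearEquiv.symm_apply_apply, map_add, map_smul, map_smul, hga, hgb]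
    simp only [map_add, map_smul, hhv]
    have hS1 := v0_mem (F := F) (K := K) (m := 0)
    exact Submodule.add_mem _ (Submodule.smul_mem _ _ (Submodule.add_mem _ (Submodule.smul_mem _ _ hS1)
      (Submodule.smul_mem _ _ hhe))) (Submodule.smul_mem _ _ (Submodule.add_mem _ (Submodule.smul_mem _ _ hS1)
      (Submodule.smul_mem _ _ hhe)))
  have hbφ : KLin (h * φ * h⁻¹) := by
    obtain ⟨σ, hσ⟩ := (hconj φ (hmemH φ hφs) ⟨1, 0, by simp [hφv]⟩ ⟨0, 1, by simp [hφe]⟩).exists_hom
    intro k x
    rw [hσ]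
    congr 1
    have hbfix : ∀ y ∈ (lineS : Submodule F V2), (h * φ * h⁻¹) y = y := by
      intro y hy
      obtain ⟨c, d, rfl⟩ := hspan y hy
      show h (φ (h.symm (c • v0 + d • h e1))) = _
      rw [map_add, map_smul, map_smul, hsymm, LinearEquiv.symm_apply_apply, map_add, map_smul, map_smul, hφv, hφe,
        map_add, map_smul, map_smul, hhv]
    have h1 := hσ k v0
    rw [hbfix _ (smul_v0_mem k), hbfix _ v0_mem] at h1
    exact (smul_left_injective K (v0_ne_zero (m := 0)) h1).symm
  have hbρ : KLin (h * ρ * h⁻¹) := by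
    obtain ⟨σ, hσ⟩ := (hconj ρ (hmemH ρ hρk.semiLin) ⟨0, 1, by simp [hρv]⟩ ⟨1, 1, by simp [hρe]⟩).exists_hom
    intro k x
    rw [hσ]
    congr 1
    by_contra hne
    have hσ1 : σ ≠ AlgHom.id F K := fun e => hne (by rw [e]; rfl)
    have h3 : ∀ y, (h * ρ * h⁻¹) ((h * ρ * h⁻¹) ((h * ρ * h⁻¹) y)) = y := fun y => by
      show h (ρ (h.symm (h (ρ (h.symm (h (ρ (h.symm y)))))))) = y
      rw [LinearEquiv.symm_apply_apply, LinearEquiv.symm_apply_apply]
      have hρ3 : ∀ u : V2, ρ (ρ (ρ u)) = u := fun u => by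
        funext i
        rw [hρ, hρ, hρ]
        fin_cases i <;> simp
        · linear_combination (u 1) * h2K
        · linear_combination (u 0 + u 1) * h2K
      rw [hρ3, LinearEquiv.apply_symm_apply]
    have h4 := h3 (k • v0)
    rw [hσ, hσ, hσ, h3] at h4
    have h5 : σ (σ (σ k)) = k := smul_left_injective K (v0_ne_zero (m := 0)) h4
    by_cases hss : σ.comp σ = AlgHom.id F K
    · have h6 : σ (σ (σ k)) = σ k := AlgHom.congr_fun hss (σ k)
      exact hne (h6.symm.trans h5)
    · have hcard : ({AlgHom.id F K, σ, σ.comp σ} : Set (K →ₐ[F] K)).ncard = 3 := by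
        rw [Set.ncard_eq_three]
        refine ⟨_, _, _, Ne.symm hσ1, Ne.symm hss, fun e => hσ1 (AlgHom.ext fun y => ?_), rfl⟩
        exact (σ.toRingHom.injective (AlgHom.congr_fun e y)).symm
      have h4' := Set.ncard_le_card ({AlgHom.id F K, σ, σ.comp σ} : Set (K →ₐ[F] K))
      rw [card_algHom, hr2] at h4'
      omega
  -- the transported scalar
  let z' : V2 → V2 := fun x => h.symm (ω • h x)
  have hzc : ∀ g : GV2, KLin (h * g * h⁻¹) → ∀ x, g (z' x) = z' (g x) := by
    intro g hg x
    apply h.injective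
    have h1 := hg ω (h x)
    change h (g (h.symm (ω • h x))) = ω • h (g (h.symm (h x))) at h1
    rw [LinearEquiv.symm_apply_apply] at h1
    show h (g (h.symm (ω • h x))) = h (h.symm (ω • h (g x)))
    rw [h1, LinearEquiv.apply_symm_apply]
  have hzz : ∀ x, z' (z' x) + z' x + x = 0 := fun x => by
    apply h.injective
    simp only [z', map_add, LinearEquiv.apply_symm_apply, map_zero, smul_smul, ← add_smul]
    rw [← one_smul K (h x), smul_smul, mul_one, ← add_smul, hω, zero_smul]
  have hzadd : ∀ x y, z' (x + y) = z' x + z' y := fun x y => by simp [z', smul_add]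
  have hzsmul : ∀ (c : F) x, z' (c • x) = c • z' x := fun c x => by
    simp only [z', map_smul, smul_comm ω c]
  have hfixed : ∀ x : V2, φ x = x → ∃ a b : F, x = a • v0 + b • e1 := by
    intro x hx
    have h01 : ∀ i, ∃ a : F, x i = algebraMap F K a := fun i => by
      rcases hfix (x i) (by rw [← hφ, hx]) with h | h
      · exact ⟨0, by rw [h, map_zero]⟩
      · exact ⟨1, by rw [h, map_one]⟩
    obtain ⟨a, ha⟩ := h01 0
    obtain ⟨b, hb⟩ := h01 1
    exact ⟨a, b, funext fun i => by fin_cases i <;> simp [v0, e1, ha, hb, Algebra.algebraMap_eq_smul_one]⟩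
  obtain ⟨a', b', hzv⟩ := hfixed (z' v0) (by rw [hzc φ hbφ, hφv])
  have hze : z' e1 = a' • e1 + b' • (v0 + e1) := by
    rw [← hρv, ← hzc ρ hbρ, hzv, map_add, map_smul, map_smul, hρv, hρe]
  have hb1 : b' = 1 := by
    have h1 := hzz v0
    rw [hzv, hzadd, hzsmul, hzsmul, hzv, hze] at h1
    have h2 := congrFun h1 0
    simp [v0, e1, smul_add] at h2
    rcases hel a' with rfl | rfl <;> rcases hel b' with rfl | rfl <;> simp at h2 ⊢
    have h3 := congrFun (hdouble v0) 0
    simp [v0] at h3
    have : (1 : K) = 0 := by linear_combination h2 - h3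
    exact one_ne_zero this
  subst hb1
  let R : V2 → V2 := fun x => a' • x + ρ x
  have hRadd : ∀ x y, R (x + y) = R x + R y := fun x y => by simp [R, smul_add]; abel
  have hRW : ∀ x : V2, φ x = x → z' x = R x := fun x hx => by
    obtain ⟨c, d, rfl⟩ := hfixed x hx
    rw [hzadd, hzsmul, hzsmul, hzv, hze]
    simp only [R, map_add, map_smul, hρv, hρe, smul_add, smul_smul, one_smul]
    rw [mul_comm a' c, mul_comm a' d]
    abel
  have hφρ : ∀ x, φ (ρ x) = ρ (φ x) := fun x => funext fun i => by fin_cases i <;> simp [hφ, hρ]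
  have hττ : ∀ k, τ (τ k) = k := fun k => by
    by_contra hne
    have hss : τ.comp τ ≠ AlgHom.id F K := fun e => hne (AlgHom.congr_fun e k)
    have hcard : ({AlgHom.id F K, τ, τ.comp τ} : Set (K →ₐ[F] K)).ncard = 3 := by
      rw [Set.ncard_eq_three]
      refine ⟨_, _, _, Ne.symm hτ, Ne.symm hss, fun e => hτ (AlgHom.ext fun y => ?_), rfl⟩
      exact (τ.toRingHom.injective (AlgHom.congr_fun e y)).symm
    have h4' := Set.ncard_le_card ({AlgHom.id F K, τ, τ.comp τ} : Set (K →ₐ[F] K))
    rw [card_algHom, hr2] at h4'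
    omega
  have hzR : ∀ x, z' x = R x := by
    intro x
    let dlt : V2 → V2 := fun x => z' x + R x
    have hW : φ (x + φ x) = x + φ x := funext fun i => by simp [hφ, hττ, add_comm]
    have h1 := hRW _ hW
    rw [hzadd, hRadd, ← hzc φ hbφ] at h1
    have h2 : φ (R x) = R (φ x) := by simp only [R, map_add, map_smul, hφρ]
    rw [← h2] at h1
    have h3 : φ (dlt x) = dlt x := by
      simp only [dlt, map_add]
      linear_combination (norm := abel) h1 + hdouble (φ (R x)) - hdouble (z' x)
    have h4 : z' (dlt x) = R (dlt x) := hRW _ h3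
    have h5 : z' (R x) = R (z' x) := by
      simp only [R]
      rw [hzadd, hzsmul, hzc ρ hbρ]
    have hRR : R (R x) + R x + x = 0 := by
      simp only [R]
      rw [map_add, map_smul]
      rcases hel a' with rfl | rfl <;> simp only [zero_smul, one_smul, zero_add]
      · funext i; fin_cases i <;> simp [hρ]
        · linear_combination (x 0 + x 1) * h2K
        · linear_combination (x 0 + 2 * x 1) * h2K
      · funext i; fin_cases i <;> simp [hρ]
        · linear_combination (Matrix.vecHead x + 2 * x 1 + x 0) * h2K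
        · linear_combination (Matrix.vecHead (Matrix.vecTail x) + 2 * x 0 + 3 * x 1) * h2K
    simp only [dlt] at h4
    rw [hzadd, hRadd, h5] at h4
    linear_combination (norm := abel) hzz x - hRR - h4
  -- so `h` maps a line to a line
  set x₀ : V2 := ![1, ω]
  have hx₀ : x₀ ≠ 0 := fun e => one_ne_zero (congrFun e 0 : (1 : K) = 0)
  have hρx : ρ x₀ = ω • x₀ := funext fun i => by
    rw [hρ]
    fin_cases i <;> simp [x₀]
    have h3 := congrFun (hdouble (v0 : V2)) 0
    simp [v0] at h3
    linear_combination -hω + (ω + 1) * h3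
  have hline : ∀ k : K, ∃ k' : K, h (k • x₀) = k' • h x₀ := by
    intro k
    have h1 : h ((algebraMap F K a' + ω) • x₀) = ω • h x₀ := by
      have h2 : R x₀ = (algebraMap F K a' + ω) • x₀ := by
        simp only [R, hρx, add_smul, algebraMap_smul]
      rw [← h2, ← hzR]
      exact h.apply_symm_apply _
    let T : Submodule F K :=
      { carrier := {k | ∃ k' : K, h (k • x₀) = k' • h x₀}
        zero_mem' := ⟨0, by simp⟩
        add_mem' := by
          rintro a b ⟨a', ha⟩ ⟨b', hb⟩
          exact ⟨a' + b', by rw [add_smul, map_add, ha, hb, add_smul]⟩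
        smul_mem' := by
          rintro c a ⟨a', ha⟩
          exact ⟨c • a', by rw [smul_assoc, map_smul, ha, smul_assoc]⟩ }
    suffices T = ⊤ by exact (this ▸ Submodule.mem_top : k ∈ T)
    refine Submodule.eq_top_of_finrank_eq (le_antisymm T.finrank_le ?_)
    have hli : LinearIndependent F ![(1 : K), algebraMap F K a' + ω] := by
      refine (LinearIndependent.pair_iff' one_ne_zero).2 fun c e => ?_
      rw [← Algebra.algebraMap_eq_smul_one] at e
      have h5 : ω = algebraMap F K (c - a') := by rw [map_sub, e]; ring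
      rcases hel (c - a') with h6 | h6 <;> rw [h6] at h5
      · exact hω0 (h5.trans (map_zero _))
      · exact hω1 (h5.trans (map_one _))
    rw [hr2, ← Fintype.card_fin 2, ← finrank_span_eq_card hli]
    refine Submodule.finrank_mono (Submodule.span_le.2 ?_)
    rintro _ ⟨i, rfl⟩
    fin_cases i
    exacts [⟨1, by simp⟩, ⟨ω, h1⟩]
  obtain ⟨n₁, hn₁, hk₁, e₁⟩ := hH.exists_trans (v0_ne_zero (m := 0)) hx₀
  obtain ⟨n₂, hn₂, hk₂, e₂⟩ := hH.exists_trans (fun e => hx₀ (h.injective (e.trans (map_zero h).symm)))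
    (v0_ne_zero (m := 0))
  have hsl : SemiLin (n₂ * h * n₁) := by
    refine hH.semiLin_of_fix hr hlin (mul_mem (mul_mem hn₂ hh) hn₁) (map_eq_of_le ?_ le_rfl)
    rintro _ ⟨y, hy, rfl⟩
    obtain ⟨k', hk'⟩ := hline (y 0)
    show n₂ (h (n₁ y)) ∈ _
    rw [eq_smul_v0 hy, hk₁, e₁, hk', hk₂, e₂]
    exact smul_v0_mem _
  have hhs : SemiLin h := by
    have h1 := (hk₂.inv.semiLin.mul hsl).mul hk₁.inv.semiLin
    rwa [show n₂⁻¹ * (n₂ * h * n₁) * n₁⁻¹ = h by group] at h1
  obtain ⟨k', hk'⟩ := hhs.inv (h e1 0)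
  have h7 : e1 = k' • v0 := by
    have h8 := hk' v0
    rw [← eq_smul_v0 hhe] at h8
    change h.symm (h e1) = k' • h.symm v0 at h8
    rwa [LinearEquiv.symm_apply_apply, hsymm] at h8
  have h9 := congrFun h7 1
  simp [e1, v0] at h9

/-- Some element centralising the line and the quotient is not linear over the larger field. -/
theorem Over.not_allLinear (hH : Over H) (hr : (finrank F K).Prime) : ¬ AllLinear H := by
  intro hlin
  rcases hH.smallStab_of_allLinear hr hlin with h | ⟨hm, hr2, h2, h⟩
  · exact hH.count_false hr h (Or.inl rfl)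
  · by_cases hq : Nat.card F = 2
    · exact hH.two_false hm hr2 hq hlin
    · exact hH.count_false hr h (Or.inr ⟨rfl, hm, hr2, h2, hq⟩)

end CfsgLib.FieldMax
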