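import Cfsg.Agent.Aschbacher.FieldMax.Deduce
import Cfsg.Agent.Classical.Transvections

/-!
An overgroup of the semilinear elements inside the determinant one group is everything.
-/

set_option autoImplicit false
set_option linter.unusedSectionVars false

namespace CfsgLib.FieldMax

open Module

variable {F : Type*} [Field F] [Finite F] {K : Type*} [Field K] [Algebra F K] [Finite K] {m : ℕ}

local notation "V" => (Fin (m + 2) → K)
local notation "GV" => ((Fin (m + 2) → K) ≃ₗ[F] (Fin (m + 2) → K))

variable {H : Subgroup ((Fin (m + 2) → K) ≃ₗ[F] (Fin (m + 2) → K))}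

theorem exists_semi_scalar (e : K →ₗ[F] K) (hinj : Function.Injective e)
    (h : ∀ k : K, ∃ c : K, ∀ z, e (k * z) = c * e z) : ∃ σ : K →ₐ[F] K, ∀ k z, e (k * z) = σ k * e z := by
  choose σ hσ using h
  have h1 : e 1 ≠ 0 := fun h => one_ne_zero (hinj (h.trans (map_zero e).symm))
  have hu : ∀ a b : K, a * e 1 = b * e 1 → a = b := fun a b => mul_right_cancel₀ h1
  refine ⟨
    { toFun := σ
      map_one' := hu _ _ (by rw [← hσ, one_mul, one_mul])
      map_mul' := fun a b => hu _ _ (by rw [← hσ, mul_assoc, hσ, hσ, mul_assoc])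
      map_zero' := hu _ _ (by rw [← hσ, zero_mul, zero_mul, map_zero])
      map_add' := fun a b => hu _ _ (by rw [← hσ, add_mul, map_add, hσ, hσ, add_mul])
      commutes' := fun a => hu _ _ (by rw [← hσ, ← Algebra.smul_def, map_smul, Algebra.smul_def]) }, hσ⟩

/-- Moving a root to another position on the left. -/
theorem Over.root_left (hH : Over H) {a b c : Fin (m + 2)} (hca : c ≠ a) (hab : a ≠ b) (hcb : c ≠ b)
    {g : K →ₗ[F] K} (hg : g ∈ root H a b) : g ∈ root H c b := by
  have h := root_comp hca hab hcb (hH.root_mulLeft hca 1) hg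
  rwa [show (LinearMap.mulLeft F (1 : K)).comp g = g from LinearMap.ext fun x => by simp] at h

/-- Moving a root to another position on the right. -/
theorem Over.root_right (hH : Over H) {a b c : Fin (m + 2)} (hab : a ≠ b) (hbc : b ≠ c) (hac : a ≠ c)
    {g : K →ₗ[F] K} (hg : g ∈ root H a b) : g ∈ root H a c := by
  have h := root_comp hab hbc hac hg (hH.root_mulLeft hbc 1)
  rwa [show g.comp (LinearMap.mulLeft F (1 : K)) = g from LinearMap.ext fun x => by simp] at h

theorem Over.exists_root_nonlinear (hH : Over H) (hr : (finrank F K).Prime) :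
    ∃ g ∈ root H 0 1, ∀ c : K, g ≠ LinearMap.mulLeft F c := by
  have h0 := hH.not_allLinear hr
  unfold AllLinear at h0
  push Not at h0
  obtain ⟨h, hh, hS, hfix, hnk⟩ := h0
  let φ : V →ₗ[F] K := (LinearMap.proj 0).comp ((h : V →ₗ[F] V) - 1)
  have hh1 : ∀ x, h x = x + Pi.single 0 (φ x) := fun x => by
    have h1 := eq_smul_v0 (hS x)
    rw [smul_v0_eq] at h1
    show h x = x + Pi.single 0 ((h x - x) 0)
    rw [← h1, add_sub_cancel]
  have hφ0 : ∀ u : K, φ (Pi.single 0 u) = 0 := fun u => by
    show (h (Pi.single 0 u : V) - (Pi.single 0 u : V)) 0 = 0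
    rw [hfix (Pi.single 0 u) ⟨u, rfl⟩, sub_self]
    rfl
  obtain ⟨i, hi, hg⟩ : ∃ i : Fin (m + 2), i ≠ 0 ∧
      ∀ c : K, φ.comp (LinearMap.single F (fun _ => K) i) ≠ LinearMap.mulLeft F c := by
    by_contra hno
    push Not at hno
    apply hnk
    intro k x
    have hlin : ∀ i (c : K), φ (Pi.single i (k * c)) = k * φ (Pi.single i c) := by
      intro i c
      by_cases hi : i = 0
      · subst hi; rw [hφ0, hφ0, mul_zero]
      · obtain ⟨d, hd⟩ := hno i hi
        have h1 := LinearMap.congr_fun hd (k * c)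
        have h2 := LinearMap.congr_fun hd c
        simp only [LinearMap.comp_apply, LinearMap.single_apply, LinearMap.mulLeft_apply] at h1 h2
        rw [h1, h2]; ring
    have hφk : φ (k • x) = k * φ x := by
      conv_lhs => rw [← Finset.univ_sum_single (k • x)]
      conv_rhs => rw [← Finset.univ_sum_single x]
      rw [map_sum, map_sum, Finset.mul_sum]
      exact Finset.sum_congr rfl fun i _ => by rw [Pi.smul_apply, smul_eq_mul, hlin]
    rw [hh1, hh1, hφk, smul_add, ← Pi.single_smul, smul_eq_mul]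
  set g := φ.comp (LinearMap.single F (fun _ => K) i)
  rcases Nat.eq_zero_or_pos m with hm | hm
  · subst hm
    obtain rfl : i = 1 := by fin_cases i <;> simp_all
    refine ⟨g, ⟨h, hh, fun x => ?_⟩, hg⟩
    rw [hh1]
    congr 2
    have hx : x = Pi.single 0 (x 0) + Pi.single 1 (x 1) := funext fun j => by fin_cases j <;> simp
    conv_lhs => rw [hx, map_add, hφ0, zero_add]
    rfl
  · obtain ⟨j, hj0, hji⟩ : ∃ j : Fin (m + 2), j ≠ 0 ∧ j ≠ i := by
      by_cases hi1 : i = 1
      · exact ⟨⟨2, by omega⟩, by simp [Fin.ext_iff], by rw [hi1]; simp [Fin.ext_iff]⟩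
      · exact ⟨1, one_ne_zero, Ne.symm hi1⟩
    obtain ⟨n, hn, hne⟩ := hH.root_mulLeft (Ne.symm hji) 1
    have hn' : ∀ x, n x = x + Pi.single i (x j) := fun x => by rw [hne]; simp
    have hmem : -g ∈ root H 0 j := by
      refine ⟨h⁻¹ * (n * h * n⁻¹), mul_mem (inv_mem hh) (mul_mem (mul_mem hn hh) (inv_mem hn)), fun x => ?_⟩
      have hninv : n.symm x = x - Pi.single i (x j) := by
        rw [LinearEquiv.symm_apply_eq, hn']; simp [hji]
      show h.symm (n (h (n.symm x))) = _
      rw [LinearEquiv.symm_apply_eq, hh1 (n.symm x), hn', hninv, hh1 (x + _)]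
      simp [hji, hj0, hφ0, g, map_sub, Pi.single_sub, Pi.single_neg]
      abel
    have hg' := root_neg (Ne.symm hj0) hmem
    rw [neg_neg] at hg'
    refine ⟨g, ?_, hg⟩
    by_cases hj1 : j = 1
    · rwa [hj1] at hg'
    · exact hH.root_right (Ne.symm hj0) hj1 zero_ne_one hg'

theorem root_conj_diag (hH : Over H) {g : K →ₗ[F] K} (hg : g ∈ root H 0 1) {k l : Kˣ}
    (h : Algebra.norm F (k : K) * Algebra.norm F (l : K) = 1) :
    ((LinearMap.mulLeft F (k : K)).comp g).comp (LinearMap.mulLeft F ((l⁻¹ : Kˣ) : K)) ∈ root H 0 1 := by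
  obtain ⟨n, hn, hne⟩ := hg
  set d : GV := diag (two 0 1 k l)
  have hd : d ∈ H := hH.diag_two_mem zero_ne_one h
  refine ⟨d * n * d⁻¹, mul_mem (mul_mem hd hn) (inv_mem hd), fun x => ?_⟩
  show d (n (d.symm x)) = _
  have h1 : d.symm x 1 = ((l⁻¹ : Kˣ) : K) * x 1 := by
    have h2 := congrFun (d.apply_symm_apply x) 1
    rw [diag_apply] at h2
    rw [← h2]; simp [two]
  rw [hne, map_add, LinearEquiv.apply_symm_apply, h1]
  congr 1
  funext i
  rw [diag_apply]
  by_cases hi : i = 0
  · subst hi; simp [two]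
  · simp [hi]

/-- The endomorphisms at the first position, as a subspace over the larger field. -/
noncomputable def Over.rootModule (hH : Over H) (hr : (finrank F K).Prime) : Submodule K (K →ₗ[F] K) where
  carrier := root H 0 1
  zero_mem' := root_zero 0 1
  add_mem' := root_add zero_ne_one
  smul_mem' := by
    let T : Subring K :=
      { carrier := {k | ∀ g ∈ root H 0 1, k • g ∈ root H 0 1}
        one_mem' := fun g hg => by rwa [one_smul]
        zero_mem' := fun g _ => by rw [zero_smul]; exact root_zero 0 1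
        mul_mem' := fun {a b} ha hb g hg => by rw [mul_smul]; exact ha _ (hb g hg)
        add_mem' := fun {a b} ha hb g hg => by rw [add_smul]; exact root_add zero_ne_one (ha g hg) (hb g hg)
        neg_mem' := fun {a} ha g hg => by
          rw [show (-a) • g = -(a • g) from LinearMap.ext fun x => by simp]
          exact root_neg zero_ne_one (ha g hg) }
    have hT : T = ⊤ := subring_eq_top hr T fun k hk g hg => by
      have hk0 : k ≠ 0 := fun e => by rw [e, Algebra.norm_zero] at hk; exact zero_ne_one hk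
      have h := root_conj_diag hH hg (k := Units.mk0 k hk0) (l := 1) (by simpa using hk)
      convert h using 1
      exact LinearMap.ext fun x => by simp
    intro k g hg
    exact (hT ▸ Subring.mem_top k : k ∈ T) g hg

theorem Over.mem_rootModule (hH : Over H) (hr : (finrank F K).Prime) {g : K →ₗ[F] K} :
    g ∈ hH.rootModule hr ↔ g ∈ root H 0 1 := Iff.rfl

theorem Over.rootModule_right (hH : Over H) (hr : (finrank F K).Prime) :
    ∀ f ∈ hH.rootModule hr, ∀ k : K, f.comp (LinearMap.mulLeft F k) ∈ hH.rootModule hr := by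
  let T : Subring K :=
    { carrier := {k | ∀ g ∈ root H 0 1, g.comp (LinearMap.mulLeft F k) ∈ root H 0 1}
      one_mem' := fun g hg => by
        rwa [show g.comp (LinearMap.mulLeft F (1 : K)) = g from LinearMap.ext fun x => by simp]
      zero_mem' := fun g _ => by
        rw [show g.comp (LinearMap.mulLeft F (0 : K)) = 0 from LinearMap.ext fun x => by simp]
        exact root_zero 0 1
      mul_mem' := fun {a b} ha hb g hg => by
        rw [show g.comp (LinearMap.mulLeft F (a * b)) = (g.comp (LinearMap.mulLeft F a)).comp (LinearMap.mulLeft F b)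
          from LinearMap.ext fun x => by simp [mul_assoc]]
        exact hb _ (ha g hg)
      add_mem' := fun {a b} ha hb g hg => by
        rw [show g.comp (LinearMap.mulLeft F (a + b)) = g.comp (LinearMap.mulLeft F a) + g.comp (LinearMap.mulLeft F b)
          from LinearMap.ext fun x => by simp [add_mul]]
        exact root_add zero_ne_one (ha g hg) (hb g hg)
      neg_mem' := fun {a} ha g hg => by
        rw [show g.comp (LinearMap.mulLeft F (-a)) = -(g.comp (LinearMap.mulLeft F a))
          from LinearMap.ext fun x => by simp]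
        exact root_neg zero_ne_one (ha g hg) }
  have hT : T = ⊤ := subring_eq_top hr T fun k hk g hg => by
    have hk0 : k ≠ 0 := fun e => by rw [e, Algebra.norm_zero] at hk; exact zero_ne_one hk
    have hki : Algebra.norm F k⁻¹ = 1 := by
      have h := congrArg (Algebra.norm F) (inv_mul_cancel₀ hk0)
      rwa [map_mul, hk, mul_one, map_one] at h
    have h := root_conj_diag hH hg (k := 1) (l := (Units.mk0 k hk0)⁻¹) (by simpa using hki)
    convert h using 1
    exact LinearMap.ext fun x => by simp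
  exact fun f hf k => (hT ▸ Subring.mem_top k : k ∈ T) f hf

/-- In dimension two and odd degree a proper root module contradicts the count. -/
theorem Over.rootModule_two (hH : Over H) (hm : m = 0) (hr : (finrank F K).Prime) (hr2 : finrank F K ≠ 2) :
    hH.rootModule hr = ⊤ := by
  by_contra hne
  set R := hH.rootModule hr with hR
  have hRr := hH.rootModule_right hr
  have hid : LinearMap.id ∈ R := by
    have h := hH.root_mulLeft (zero_ne_one (α := Fin (m + 2))) 1
    rwa [show LinearMap.mulLeft F (1 : K) = LinearMap.id from LinearMap.ext fun x => by simp] at h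
  refine hH.count_false hr (d := 1) (fun W hW hWne => ?_) (Or.inl rfl)
  refine dvd_of_eq (Nat.card_eq_one_iff_unique.2 ⟨⟨?_⟩, ⟨⟨0, ?_⟩⟩⟩)
  swap
  · convert Submodule.map_id W
    exact LinearMap.ext fun x => by simp [shearGV_apply, shear_apply]
  rintro ⟨a, ha⟩ ⟨b', hb'⟩
  have key : ∀ c : Fin (m + 1) → K, W.map ((shearGV c : GV) : V →ₗ[F] V) = W → c = 0 := by
    intro c hc
    by_contra hc0
    obtain ⟨h, hh, -, -, hbH, hbS, hbq, -, hbout, -⟩ := hH.stab_element hW hWne hc0 hc
    set b : GV := h⁻¹ * shearGV c * h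
    apply hbout
    let φ₁ : K →ₗ[F] K := ((LinearMap.proj 0).comp (b : V →ₗ[F] V)).comp (LinearMap.single F (fun _ => K) 0)
    let φ₂ : K →ₗ[F] K := ((LinearMap.proj 1).comp (b : V →ₗ[F] V)).comp (LinearMap.single F (fun _ => K) 1)
    have h01 : ∀ i : Fin (m + 2), i = 0 ∨ i = 1 := fun i => by
      subst hm
      fin_cases i
      exacts [Or.inl rfl, Or.inr rfl]
    have hb0 : ∀ k : K, b (Pi.single 0 k) = Pi.single 0 (φ₁ k) := fun k => by
      have h1 := eq_smul_v0 ((map_lineS_apply hbS).2 (⟨k, rfl⟩ : Pi.single 0 k ∈ (lineS : Submodule F V)))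
      rw [smul_v0_eq] at h1
      exact h1
    have hb1 : ∀ y : V, b y 1 = φ₂ (y 1) := fun y => by
      have hy : y = Pi.single 0 (y 0) + Pi.single 1 (y 1) := funext fun j => by
        rcases h01 j with rfl | rfl <;> simp
      conv_lhs => rw [hy, map_add, hb0]
      simp [φ₂]
    have hi₁ : Function.Injective φ₁ := fun u v huv =>
      Pi.single_injective (M := fun _ : Fin (m + 2) => K) 0 (b.injective (by rw [hb0, hb0, huv]))
    have hi₂ : Function.Injective φ₂ := (injective_iff_map_eq_zero φ₂).2 fun u hu => by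
      have h1 : b (Pi.single 1 u) ∈ (lineS : Submodule F V) := mem_lineS.2 fun i hi => by
        rcases h01 i with rfl | rfl
        · exact absurd rfl hi
        · rw [hb1, Pi.single_eq_same, hu]
      have h2 := mem_lineS.1 ((map_lineS_apply hbS).1 h1) 1 one_ne_zero
      rwa [Pi.single_eq_same] at h2
    let e₁ := LinearEquiv.ofInjectiveEndo φ₁ hi₁
    let e₂ := LinearEquiv.ofInjectiveEndo φ₂ hi₂
    have : Finite (K →ₗ[F] K) := Finite.of_injective _ DFunLike.coe_injective
    have : Finite R := Finite.of_injective _ Subtype.val_injective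
    let Φ : R → R := fun g => ⟨(e₁ : K →ₗ[F] K).comp ((g : K →ₗ[F] K).comp (e₂.symm : K →ₗ[F] K)), by
      obtain ⟨n, hn, hne'⟩ := (g.2 : (g : K →ₗ[F] K) ∈ root H 0 1)
      refine ⟨b * n * b⁻¹, mul_mem (mul_mem hbH hn) (inv_mem hbH), fun x => ?_⟩
      show b (n (b.symm x)) = _
      have h1 : b.symm x 1 = e₂.symm (x 1) := by
        rw [LinearEquiv.eq_symm_apply]
        show φ₂ (b.symm x 1) = x 1
        rw [← hb1, LinearEquiv.apply_symm_apply]
      rw [hne', map_add, LinearEquiv.apply_symm_apply, hb0, h1]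
      rfl⟩
    have hΦ : Function.Surjective Φ := Finite.injective_iff_surjective.1 fun g g' hgg => by
      apply Subtype.ext
      refine LinearMap.ext fun x => ?_
      have h1 := LinearMap.congr_fun (congrArg Subtype.val hgg) (e₂ x)
      simpa [Φ] using h1
    have hsemi₁ : ∀ k : K, ∃ d : K, ∀ z, φ₁ (k * z) = d * φ₁ z := fun k => by
      obtain ⟨d, hd⟩ := left_idealiser R hRr hid hr hne
        (x := (e₁ : K →ₗ[F] K).comp ((LinearMap.mulLeft F k).comp (e₁.symm : K →ₗ[F] K))) fun g' hg' => by
          obtain ⟨g, hg⟩ := hΦ ⟨g', hg'⟩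
          convert (Φ ⟨k • (g : K →ₗ[F] K), R.smul_mem k g.2⟩).2 using 1
          rw [show g' = (Φ g : K →ₗ[F] K) by rw [hg]]
          refine LinearMap.ext fun x => ?_
          simp [Φ]
      refine ⟨d, fun z => ?_⟩
      have h1 := LinearMap.congr_fun hd (e₁ z)
      simpa [e₁, show (LinearEquiv.ofInjectiveEndo φ₁ hi₁).symm (φ₁ z) = z from e₁.symm_apply_apply z] using h1
    have hsemi₂ : ∀ k : K, ∃ d : K, ∀ z, φ₂ (k * z) = d * φ₂ z := fun k => by
      obtain ⟨d, hd⟩ := right_idealiser R hRr hid hr hne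
        (x := (e₂ : K →ₗ[F] K).comp ((LinearMap.mulLeft F k).comp (e₂.symm : K →ₗ[F] K))) fun g' hg' => by
          obtain ⟨g, hg⟩ := hΦ ⟨g', hg'⟩
          convert (Φ ⟨(g : K →ₗ[F] K).comp (LinearMap.mulLeft F k), hRr _ g.2 k⟩).2 using 1
          rw [show g' = (Φ g : K →ₗ[F] K) by rw [hg]]
          refine LinearMap.ext fun x => ?_
          simp [Φ]
      refine ⟨d, fun z => ?_⟩
      have h1 := LinearMap.congr_fun hd (e₂ z)
      simpa [e₂, show (LinearEquiv.ofInjectiveEndo φ₂ hi₂).symm (φ₂ z) = z from e₂.symm_apply_apply z] using h1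
    have hone : ∀ (φ : K →ₗ[F] K), Function.Injective φ → (∀ k : K, ∃ d : K, ∀ z, φ (k * z) = d * φ z) →
        (∀ x, φ (φ x) + x = φ x + φ x) → ∀ x, φ x = x := by
      intro φ hi hs hq x
      obtain ⟨σ, hσ⟩ := exists_semi_scalar φ hi hs
      have hσ1 : σ = AlgHom.id F K := by
        by_contra hσ1
        exact hr2 (quad_semilinear hr (W := K) φ.toAddMonoidHom hi hσ hq one_ne_zero hσ1).2.1
      have h1 : ∀ y, φ y = y * φ 1 := fun y => by
        conv_lhs => rw [← mul_one y]
        rw [hσ, hσ1]; rfl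
      have h2 := hq 1
      rw [h1 (φ 1)] at h2
      have h3 : (φ 1 - 1) * (φ 1 - 1) = 0 := by linear_combination h2
      rw [h1, sub_eq_zero.1 (mul_self_eq_zero.1 h3), mul_one]
    have hφ₁ : ∀ x, φ₁ x = x := hone φ₁ hi₁ hsemi₁ fun x => by
      have h1 := congrFun (hbq (Pi.single 0 x)) 0
      simp only [hb0, Pi.add_apply, Pi.single_eq_same] at h1
      exact h1
    have hφ₂ : ∀ x, φ₂ x = x := hone φ₂ hi₂ hsemi₂ fun x => by
      have h1 := congrFun (hbq (Pi.single 1 x)) 1
      simp only [hb1, Pi.add_apply, Pi.single_eq_same] at h1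
      exact h1
    intro x
    rw [mem_lineS]
    intro i hi
    rcases h01 i with rfl | rfl
    · exact absurd rfl hi
    · rw [Pi.sub_apply, hb1, hφ₂, sub_self]
  exact Subtype.ext ((key a ha).trans (key b' hb').symm)

theorem Over.root_eq_univ (hH : Over H) (hr : (finrank F K).Prime) {a b : Fin (m + 2)} (hab : a ≠ b)
    (g : K →ₗ[F] K) : g ∈ root H a b := by
  have hid : LinearMap.id ∈ hH.rootModule hr := by
    have h := hH.root_mulLeft (zero_ne_one (α := Fin (m + 2))) 1
    rwa [show LinearMap.mulLeft F (1 : K) = LinearMap.id from LinearMap.ext fun x => by simp] at h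
  have htop : hH.rootModule hr = ⊤ := by
    obtain ⟨f, hf, hns⟩ := hH.exists_root_nonlinear hr
    by_cases hm : m = 0
    · by_cases hr2 : finrank F K = 2
      · exact eq_top_of_comp _ (hH.rootModule_right hr) hid hr hf hns (Or.inl hr2)
      · exact hH.rootModule_two hm hr hr2
    · refine eq_top_of_comp _ (hH.rootModule_right hr) hid hr hf hns (Or.inr fun g hg g' hg' => ?_)
      have h20 : (⟨2, by omega⟩ : Fin (m + 2)) ≠ 0 := by simp [Fin.ext_iff]
      have h21 : (⟨2, by omega⟩ : Fin (m + 2)) ≠ 1 := by simp [Fin.ext_iff]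
      exact root_comp h20.symm h21 zero_ne_one (hH.root_right zero_ne_one h21.symm h20.symm hg)
        (hH.root_left h20 zero_ne_one h21 hg')
  have h01 : g ∈ root H 0 1 := (hH.mem_rootModule hr).1 (htop ▸ Submodule.mem_top)
  rcases Nat.eq_zero_or_pos m with hm | hm
  · subst hm
    fin_cases a <;> fin_cases b
    · exact absurd rfl hab
    · exact h01
    · -- conjugate by the quarter turn
      obtain ⟨n₁, hn₁, e₁⟩ := hH.root_mulLeft (zero_ne_one (α := Fin 2)) 1
      obtain ⟨n₂, hn₂, e₂⟩ := hH.root_mulLeft (one_ne_zero (α := Fin 2)) (-1)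
      obtain ⟨n, hn, e⟩ := ((hH.mem_rootModule hr).1 (htop ▸ Submodule.mem_top) : -g ∈ root H 0 1)
      set J := n₁ * n₂ * n₁
      have hJ : ∀ x, J x = ![x 1, -x 0] := fun x => by
        show n₁ (n₂ (n₁ x)) = _
        rw [e₁, e₂, e₁]
        funext i; fin_cases i <;> simp
      have hJH : J ∈ H := mul_mem (mul_mem hn₁ hn₂) hn₁
      refine ⟨J * n * J⁻¹, mul_mem (mul_mem hJH hn) (inv_mem hJH), fun x => ?_⟩
      show J (n (J.symm x)) = _
      have hJs : J.symm x = ![-x 1, x 0] := by
        rw [LinearEquiv.symm_apply_eq, hJ]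
        funext i; fin_cases i <;> simp
      rw [e, hJs, hJ]
      funext i; fin_cases i <;> simp [add_comm]
    · exact absurd rfl hab
  · obtain ⟨t, ht0, hta⟩ : ∃ t : Fin (m + 2), t ≠ 0 ∧ t ≠ a := by
      by_cases ha1 : a = 1
      · exact ⟨⟨2, by omega⟩, by simp [Fin.ext_iff], by rw [ha1]; simp [Fin.ext_iff]⟩
      · exact ⟨1, one_ne_zero, Ne.symm ha1⟩
    have to0 : ∀ d : Fin (m + 2), d ≠ 0 → g ∈ root H 0 d := fun d hd => by
      by_cases hd1 : d = 1
      · rw [hd1]; exact h01
      · exact hH.root_right zero_ne_one (Ne.symm hd1) (Ne.symm hd) h01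
    by_cases hb : b = 0
    · subst hb
      exact hH.root_right (Ne.symm hta) ht0 hab (hH.root_left hab (Ne.symm ht0) (Ne.symm hta) (to0 t ht0))
    · by_cases ha : a = 0
      · subst ha; exact to0 b hb
      · exact hH.root_left ha (Ne.symm hb) hab (to0 b hb)

/-- Overgroups of the semilinear elements in the determinant one group are everything. -/
theorem Over.mem_of_det_eq_one (hH : Over H) (hr : (finrank F K).Prime) (g : GV) (hg : LinearEquiv.det g = 1) :
    g ∈ H := by
  classical
  let β := Module.finBasis F K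
  let B := Pi.basis fun _ : Fin (m + 2) => β
  have : Nontrivial (Σ _ : Fin (m + 2), Fin (finrank F K)) :=
    ⟨⟨0, ⟨0, hr.pos⟩⟩, ⟨1, ⟨0, hr.pos⟩⟩, fun h => zero_ne_one (congrArg Sigma.fst h)⟩
  suffices h : ∀ A : Matrix.SpecialLinearGroup (Σ _ : Fin (m + 2), Fin (finrank F K)) F,
      ∃ h ∈ H, LinearMap.toMatrix B B (h : V →ₗ[F] V) = (A : Matrix _ _ F) by
    have hd : (LinearMap.toMatrix B B (g : V →ₗ[F] V)).det = 1 := by
      rw [LinearMap.det_toMatrix, ← LinearEquiv.coe_det, hg, Units.val_one]
    obtain ⟨h, hh, he⟩ := h ⟨_, hd⟩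
    have : g = h := LinearEquiv.toLinearMap_injective ((LinearMap.toMatrix B B).injective he.symm)
    rwa [this]
  intro A
  induction A using CfsgLib.Linear.transvection_induction with
  | hmul A A' ihA ihA' =>
    obtain ⟨h, hh, he⟩ := ihA
    obtain ⟨h', hh', he'⟩ := ihA'
    refine ⟨h * h', mul_mem hh hh', ?_⟩
    rw [Matrix.SpecialLinearGroup.coe_mul, ← he, ← he', ← LinearMap.toMatrix_mul]
    rfl
  | htransvec p p' hpp c =>
    obtain ⟨a, i⟩ := p
    obtain ⟨b, j⟩ := p'
    suffices h : ∃ h ∈ H, ∀ x : V, h x = x + Pi.single a ((c * β.coord j (x b)) • β i) by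
      obtain ⟨h, hh, he⟩ := h
      refine ⟨h, hh, ?_⟩
      ext ⟨a', i'⟩ ⟨b', j'⟩
      rw [LinearMap.toMatrix_apply, LinearEquiv.coe_coe, he, Pi.basis_apply, map_add, Finsupp.add_apply,
        Pi.basis_repr, Pi.basis_repr]
      simp only [Matrix.SpecialLinearGroup.transvection_coe, Matrix.add_apply, Matrix.one_apply, Matrix.single_apply,
        Basis.coord_apply, Sigma.mk.injEq, heq_eq_eq]
      by_cases h1 : a' = b'
      · subst h1
        by_cases h2 : a = a'
        · subst h2
          by_cases h3 : b = a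
          · subst h3; simp [Finsupp.single_apply, eq_comm, and_comm, ite_and, mul_ite, ite_mul]; split_ifs <;> simp_all [Finsupp.single_apply]
          · simp [h3, Finsupp.single_apply, eq_comm]
        · by_cases h3 : b = a' <;> simp [h2, h3, Ne.symm h2, Finsupp.single_apply, eq_comm]
      · by_cases h2 : a = a'
        · subst h2
          by_cases h3 : b = b'
          · subst h3; simp [h1, Ne.symm h1, Finsupp.single_apply, eq_comm, mul_ite, ite_mul, ite_and]; split_ifs <;> simp_all [Finsupp.single_apply]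
          · simp [h1, Ne.symm h1, h3, Ne.symm h3]
        · simp [h1, Ne.symm h1, h2, Ne.symm h2]
    by_cases hab : a = b
    · subst hab
      have hij : i ≠ j := fun e => hpp (by rw [e])
      obtain ⟨e, he⟩ := exists_ne a
      set f : K →ₗ[F] K := (β.coord i).smulRight (c • β i)
      set f' : K →ₗ[F] K := (β.coord j).smulRight (β i)
      obtain ⟨h₁, hh₁, e₁⟩ := hH.root_eq_univ hr (Ne.symm he) f
      obtain ⟨h₂, hh₂, e₂⟩ := hH.root_eq_univ hr he f'
      refine ⟨h₁ * h₂ * h₁⁻¹ * h₂⁻¹, mul_mem (mul_mem (mul_mem hh₁ hh₂) (inv_mem hh₁)) (inv_mem hh₂), fun x => ?_⟩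
      have i₁ : ∀ y, h₁⁻¹ y = y - Pi.single a (f (y e)) := fun y => by
        show h₁.symm y = _
        rw [LinearEquiv.symm_apply_eq, e₁]
        simp [he]
      have i₂ : ∀ y, h₂⁻¹ y = y - Pi.single e (f' (y a)) := fun y => by
        show h₂.symm y = _
        rw [LinearEquiv.symm_apply_eq, e₂]
        simp [Ne.symm he]
      have hgf : ∀ u, f' (f u) = 0 := fun u => by simp [f, f', Ne.symm hij]
      have hfg : ∀ u, f (f' u) = (c * β.coord j u) • β i := fun u => by
        simp [f, f', smul_smul, mul_comm]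
      simp only [LinearEquiv.mul_apply, e₁, e₂, i₁, i₂]
      rw [← hfg]
      funext l
      by_cases hl : l = a
      · subst hl; simp [he, Ne.symm he, map_sub, hgf]; ring
      · by_cases hl' : l = e
        · subst hl'; simp [he, Ne.symm he, map_sub, hgf, hl]
        · simp [he, Ne.symm he, hl, hl']
    · obtain ⟨h, hh, he⟩ := hH.root_eq_univ hr hab ((c • β.coord j).smulRight (β i))
      exact ⟨h, hh, fun x => by rw [he]; simp⟩

end CfsgLib.FieldMax
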