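import Cfsg.Agent.Aschbacher.FieldMax.SympMain
import Cfsg.Agent.Aschbacher.Form.Members
import Cfsg.Agent.Geo.SympTv
import Cfsg.Agent.Aschbacher.Form.SymplecticStd
import Cfsg.Agent.Elusive.FieldTower

/-!
The matrix form: the normaliser of a self-adjoint field of prime degree is maximal in the symplectic group.
-/

set_option autoImplicit false
set_option linter.unusedSectionVars false

namespace CfsgLib.FieldMax.Symp

open Module Cfsg Cfsg.Geo
open scoped Matrix

variable {F : Type*} [Field F] [Fintype F] {m r : ℕ}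

theorem normalizer_maximal (hm : 3 ≤ m) (hr : r.Prime)
    (K : Subalgebra F (Matrix (Fin m ⊕ Fin m) (Fin m ⊕ Fin m) F)) (hK : IsFieldSubalgebra r K)
    (hsa : IsSelfAdjointFor (sympForm m F) K)
    (halt : ∀ k ∈ K, ∀ v : Fin m ⊕ Fin m → F, sympForm m F (k *ᵥ v) v = 0) :
    IsMaximalIn (spGL m F) (subalgebraNormalizer K ⊓ spGL m F) := by
  classical
  have hrank : finrank F K = r := hK.finrank_eq
  have : Nonempty (Fin m ⊕ Fin m) := ⟨Sum.inl ⟨0, by omega⟩⟩
  letI : CommRing K :=
    { (inferInstance : Ring K) with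
      mul_comm := fun x y => Subtype.ext (hK.comm x x.2 y y.2) }
  have hf : IsField K :=
    { exists_pair_ne := ⟨0, 1, fun h => zero_ne_one (congrArg Subtype.val h)⟩
      mul_comm := mul_comm
      mul_inv_cancel := fun {x} hx => by
        obtain ⟨y, hy, hxy⟩ := hK.inv x x.2 fun e => hx (Subtype.ext e)
        exact ⟨⟨y, hy⟩, Subtype.ext hxy⟩ }
  letI : Field K := hf.toField
  have : Finite (Matrix (Fin m ⊕ Fin m) (Fin m ⊕ Fin m) F) :=
    Finite.of_equiv ((Fin m ⊕ Fin m) → (Fin m ⊕ Fin m) → F) Matrix.of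
  have : Finite K := Finite.of_injective _ Subtype.val_injective
  let V := Fin m ⊕ Fin m → F
  letI : Module K V :=
    { smul := fun k v => (k : Matrix (Fin m ⊕ Fin m) (Fin m ⊕ Fin m) F) *ᵥ v
      one_smul := fun v => Matrix.one_mulVec v
      mul_smul := fun k l v => (Matrix.mulVec_mulVec v _ _).symm
      smul_zero := fun k => Matrix.mulVec_zero _
      smul_add := fun k v w => Matrix.mulVec_add _ v w
      add_smul := fun k l v => Matrix.add_mulVec _ _ v
      zero_smul := fun v => Matrix.zero_mulVec v }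
  have hsm : ∀ (k : K) (v : V), k • v = (k : Matrix (Fin m ⊕ Fin m) (Fin m ⊕ Fin m) F) *ᵥ v := fun k v => rfl
  have : IsScalarTower F K V := ⟨fun a k v => Matrix.smul_mulVec a _ v⟩
  have : Finite V := Pi.finite
  have : Module.Finite K V := Module.Finite.of_finite
  have hr' : (finrank F K).Prime := hrank.symm ▸ hr
  have hb := (CfsgLib.Aschbacher.isSymplecticForm_sympForm (F := F) m).bilinear
  let f : V → V → F := sympForm m F
  have hsk : ∀ (k : K) x y, f (k • x) y = f x (k • y) := fun k x y => hsa k k.2 x y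
  -- the form over the larger field
  let L : V → V → Module.Dual F K := fun x y =>
    { toFun := fun k => f (k • x) y
      map_add' := fun k l => by rw [add_smul]; exact hb.add_left _ _ _
      map_smul' := fun a k => by rw [smul_assoc]; exact hb.smul_left _ _ _ }
  let e := LinearMap.BilinForm.toDual (Algebra.traceForm F K) (traceForm_nondegenerate F K)
  let B₀ : V → V → K := fun x y => e.symm (L x y)
  have hB : ∀ x y (k : K), Algebra.trace F K (k * B₀ x y) = f (k • x) y := fun x y k => by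
    have h : e (B₀ x y) k = f (k • x) y := by rw [e.apply_symm_apply]; rfl
    rw [mul_comm]
    exact h
  have huniq : ∀ {a b : K}, (∀ k, Algebra.trace F K (k * a) = Algebra.trace F K (k * b)) → a = b := fun {a b} h =>
    sub_eq_zero.1 (eq_zero_of_trace (F := F) fun k => by rw [sub_mul, map_sub, mul_comm a, mul_comm b, h, sub_self])
  let B : V →ₗ[K] V →ₗ[K] K := LinearMap.mk₂ K B₀
    (fun x x' y => huniq fun k => by rw [mul_add, map_add, hB, hB, hB, smul_add]; exact hb.add_left _ _ _)
    (fun c x y => huniq fun k => by rw [smul_eq_mul, ← mul_assoc, hB, hB, mul_smul])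
    (fun x y y' => huniq fun k => by rw [mul_add, map_add, hB, hB, hB]; exact hb.add_right _ _ _)
    (fun c x y => huniq fun k => by
      rw [smul_eq_mul, ← mul_assoc, hB, hB, ← hsk c, ← mul_smul, mul_comm c k])
  have hB' : ∀ x y, Algebra.trace F K (B x y) = f x y := fun x y => by
    have h := hB x y 1
    rwa [one_mul, one_smul] at h
  have hBalt : ∀ x, B x x = 0 := fun x => huniq fun k => by
    show Algebra.trace F K (k * B₀ x x) = _
    rw [hB, mul_zero, map_zero]
    exact halt k k.2 x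
  have hBnd : ∀ x, x ≠ 0 → ∃ y, B x y ≠ 0 := fun x hx => by
    obtain ⟨y, hy⟩ := ((CfsgLib.Aschbacher.isSymplecticForm_sympForm (F := F) m).nondegenerate x hx).2
    exact ⟨y, fun h => hy (by
      show f x y = 0
      rw [← hB', h, map_zero])⟩
  -- a hyperbolic pair
  obtain ⟨v, hv⟩ : ∃ v : V, v ≠ 0 := exists_ne 0
  obtain ⟨w₀, hw₀⟩ := hBnd v hv
  set w := (B v w₀)⁻¹ • w₀
  have hvw : B v w = 1 := by simp [w, hw₀]
  have hwv : B w v = -1 := by rw [skew_of_alt hBalt, hvw]
  let Mid : Submodule K V := LinearMap.ker (B v) ⊓ LinearMap.ker (B w)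
  have hmem : ∀ y : Mid, B v y = 0 ∧ B w y = 0 ∧ B (y : V) v = 0 ∧ B (y : V) w = 0 := fun y => by
    obtain ⟨h1, h2⟩ := Submodule.mem_inf.1 y.2
    rw [LinearMap.mem_ker] at h1 h2
    exact ⟨h1, h2, by rw [skew_of_alt hBalt, h1, neg_zero], by rw [skew_of_alt hBalt, h2, neg_zero]⟩
  let β : Mid →ₗ[K] Mid →ₗ[K] K := B.compl₁₂ Mid.subtype Mid.subtype
  let φ : (K × Mid × K) ≃ₗ[K] V :=
    { toFun := fun x => x.1 • v + (x.2.1 : V) + x.2.2 • w
      map_add' := fun x y => by simp [add_smul]; abel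
      map_smul' := fun c x => by simp [mul_smul, smul_add]
      invFun := fun z => (B z w, ⟨z - B z w • v - B v z • w, by
        refine Submodule.mem_inf.2 ⟨?_, ?_⟩ <;> rw [LinearMap.mem_ker]
        · simp [hBalt, hvw]
        · simp [hBalt, hwv]
          rw [skew_of_alt hBalt w z]
          ring⟩, B v z)
      left_inv := fun x => by
        obtain ⟨h1, h2, h3, h4⟩ := hmem x.2.1
        refine Prod.ext ?_ (Prod.ext (Subtype.ext ?_) ?_)
        · simp [h4, hBalt, hvw]
        · simp [h1, h4, hBalt, hvw]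
          abel
        · simp [h1, hBalt, hvw]
      right_inv := fun z => by
        show B z w • v + (z - B z w • v - B v z • w) + B v z • w = z
        abel }
  have hφB : ∀ x y, bform β x y = B (φ x) (φ y) := fun x y => by
    obtain ⟨h1, h2, h3, h4⟩ := hmem x.2.1
    obtain ⟨h1', h2', h3', h4'⟩ := hmem y.2.1
    show _ = B (x.1 • v + (x.2.1 : V) + x.2.2 • w) (y.1 • v + (y.2.1 : V) + y.2.2 • w)
    simp [bform_apply, β, h3, h4, h1', h2', hBalt, hvw, hwv]
    ring
  have hfφ : ∀ x y, fform F β x y = f (φ x) (φ y) := fun x y => by rw [fform, hφB, hB']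
  have hβ : MidForm β := ⟨fun y => hBalt _, fun y hy => by
    obtain ⟨z, hz⟩ := hBnd y fun h => hy (Subtype.ext h)
    refine ⟨(φ.symm z).2.1, ?_⟩
    obtain ⟨h1, h2, h3, h4⟩ := hmem y
    show B (y : V) (z - B z w • v - B v z • w) ≠ 0
    simpa [h3, h4] using hz⟩
  have hbig : Nontrivial Mid ∨ finrank F K ≠ 2 := by
    rcases subsingleton_or_nontrivial Mid with h | h
    · right
      have h1 : finrank K V = 2 := by
        rw [← φ.finrank_eq, Module.finrank_prod, Module.finrank_prod, Module.finrank_self,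
          Module.finrank_zero_of_subsingleton]
      have h2 := Module.finrank_mul_finrank F K V
      rw [h1] at h2
      simp [V] at h2
      omega
    · exact Or.inl h
  let ψ : V ≃ₗ[F] (K × Mid × K) := φ.symm.restrictScalars F
  let toEq : GL (Fin m ⊕ Fin m) F → (V ≃ₗ[F] V) := fun g =>
    Matrix.toLin'OfInv (M := ((g⁻¹ : GL (Fin m ⊕ Fin m) F) : Matrix (Fin m ⊕ Fin m) (Fin m ⊕ Fin m) F))
      (M' := (g : Matrix (Fin m ⊕ Fin m) (Fin m ⊕ Fin m) F)) (Units.inv_mul g) (Units.mul_inv g)
  let T : GL (Fin m ⊕ Fin m) F →* ((K × Mid × K) ≃ₗ[F] (K × Mid × K)) :=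
    MonoidHom.mk' (fun g => ψ.symm.trans ((toEq g).trans ψ)) fun g h => LinearEquiv.ext fun x => by
      show φ.symm (((g * h : GL (Fin m ⊕ Fin m) F) : Matrix _ _ F) *ᵥ φ x) =
        φ.symm ((g : Matrix _ _ F) *ᵥ φ (φ.symm ((h : Matrix _ _ F) *ᵥ φ x)))
      rw [LinearEquiv.apply_symm_apply, Units.val_mul, Matrix.mulVec_mulVec]
  have hT : ∀ g x, φ (T g x) = (g : Matrix _ _ F) *ᵥ φ x := fun g x => φ.apply_symm_apply _
  have hsemi : ∀ g, SemiS (T g) ↔ g ∈ subalgebraNormalizer K := by
    intro g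
    constructor
    · intro h
      refine CfsgLib.Elusive.mem_normalizer_of_conj fun k hk => ?_
      obtain ⟨k', hk'⟩ := h ⟨k, hk⟩
      suffices e : (g : Matrix _ _ F) * k = (k' : Matrix (Fin m ⊕ Fin m) (Fin m ⊕ Fin m) F) * (g : Matrix _ _ F) by
        rw [e, mul_assoc, Units.mul_inv, mul_one]; exact k'.2
      refine Matrix.toLin'.injective (LinearMap.ext fun z => ?_)
      have h1 := congrArg φ (hk' (φ.symm z))
      rw [hT, map_smul, map_smul, hT, LinearEquiv.apply_symm_apply, hsm, hsm] at h1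
      simpa only [Matrix.toLin'_apply, ← Matrix.mulVec_mulVec] using h1
    · intro h k
      refine ⟨⟨_, (h k).1 k.2⟩, fun x => φ.injective ?_⟩
      rw [hT, map_smul, map_smul, hT, hsm, hsm]
      simp only [Matrix.mulVec_mulVec, mul_assoc, Units.inv_mul, mul_one]
  have hisom : ∀ g, Isom β (T g) ↔ g ∈ spGL m F := by
    intro g
    rw [CfsgLib.Geo.SpTv.mem_spGL]
    constructor
    · intro h u u'
      have h1 := h (φ.symm u) (φ.symm u')
      rwa [hfφ, hfφ, hT, hT, LinearEquiv.apply_symm_apply, LinearEquiv.apply_symm_apply] at h1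
    · intro h x y
      rw [hfφ, hfφ, hT, hT]
      exact h _ _
  have hsurj : Function.Surjective T := by
    intro s
    let A : Matrix (Fin m ⊕ Fin m) (Fin m ⊕ Fin m) F :=
      LinearMap.toMatrix' ((ψ.trans (s.trans ψ.symm) : _ ≃ₗ[F] _) : V →ₗ[F] V)
    let A' : Matrix (Fin m ⊕ Fin m) (Fin m ⊕ Fin m) F :=
      LinearMap.toMatrix' ((ψ.trans (s.symm.trans ψ.symm) : _ ≃ₗ[F] _) : V →ₗ[F] V)
    refine ⟨⟨A, A', ?_, ?_⟩, LinearEquiv.ext fun x => φ.injective ?_⟩
    · rw [← LinearMap.toMatrix'_comp, ← LinearMap.toMatrix'_id]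
      congr 1
      exact LinearMap.ext fun x => by simp
    · rw [← LinearMap.toMatrix'_comp, ← LinearMap.toMatrix'_id]
      congr 1
      exact LinearMap.ext fun x => by simp
    · rw [hT]
      show A *ᵥ φ x = φ (s x)
      rw [← Matrix.toLin'_apply, Matrix.toLin'_toMatrix']
      simp [ψ]
  refine ⟨lt_of_le_of_ne inf_le_right fun h => CfsgLib.Aschbacher.spGL_not_le_field (by omega) hr.two_le hK
      (h ▸ inf_le_left), fun N hN hNS => ?_⟩
  by_cases hle : N ≤ subalgebraNormalizer K
  · exact Or.inl (le_antisymm (le_inf hle hNS) hN)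
  right
  obtain ⟨g, hgN, hgK⟩ := SetLike.not_le_iff_exists.1 hle
  have hov : SOver β (N.map T) :=
    { semi := fun s hs hi => by
        obtain ⟨y, rfl⟩ := hsurj s
        exact Subgroup.mem_map_of_mem T (hN ⟨(hsemi y).1 hs, (hisom y).1 hi⟩)
      isom := fun s hs => by
        obtain ⟨y, hy, rfl⟩ := Subgroup.mem_map.1 hs
        exact (hisom y).2 (hNS hy)
      ne := ⟨T g, Subgroup.mem_map_of_mem T hgN, fun h => hgK ((hsemi g).1 h)⟩ }
  refine le_antisymm hNS (CfsgLib.Geo.SpTv.spGL_le_of_full fun u => ?_)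
  by_cases hu : u = 0
  · subst hu; exact CfsgLib.Geo.SpTv.full_zero
  intro c
  obtain ⟨t, ht, hte⟩ := hov.transvection_mem hβ hr' hbig (v := φ.symm u)
    (fun h => hu (φ.symm.injective (h.trans (map_zero φ.symm).symm))) c
  obtain ⟨y, hy, rfl⟩ := Subgroup.mem_map.1 ht
  suffices y = CfsgLib.Geo.SpTv.stv u c from this ▸ hy
  refine Units.ext (Matrix.toLin'.injective (LinearMap.ext fun z => ?_))
  rw [Matrix.toLin'_apply, Matrix.toLin'_apply, CfsgLib.Geo.SpTv.stv_mulVec]
  have h1 := congrArg φ (hte (φ.symm z))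
  rw [hT, map_add, show φ ((c * fform F β (φ.symm z) (φ.symm u)) • φ.symm u) =
    (c * fform F β (φ.symm z) (φ.symm u)) • u from ((φ.restrictScalars F).map_smul _ _).trans
      (congrArg _ (φ.apply_symm_apply u)), hfφ, LinearEquiv.apply_symm_apply, LinearEquiv.apply_symm_apply] at h1
  exact h1

end CfsgLib.FieldMax.Symp
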