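import Cfsg.Agent.Aschbacher.FieldMax.TracePairs

/-!
Overgroups of the semilinear isometries in a symplectic group over a subfield: the space, the elementary
isometries, and transitivity.
-/

set_option autoImplicit false
set_option linter.unusedSectionVars false

namespace CfsgLib.FieldMax.Symp

open Module

section Trans

variable {K : Type*} [Field K] {W : Type*} [AddCommGroup W] [Module K W]

/-- The transvection of an alternating form. -/
def tvec (β : W →ₗ[K] W →ₗ[K] K) (halt : ∀ x, β x x = 0) (u : W) (t : K) : W ≃ₗ[K] W :=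
  LinearEquiv.ofLinearMap
    (LinearMap.id + t • (β.flip u).smulRight u) (LinearMap.id + (-t) • (β.flip u).smulRight u)
    (LinearMap.ext fun x => by simp [halt])
    (LinearMap.ext fun x => by simp [halt])

theorem tvec_apply (β : W →ₗ[K] W →ₗ[K] K) (halt : ∀ x, β x x = 0) (u : W) (t : K) (x : W) :
    tvec β halt u t x = x + (t * β x u) • u := by
  simp [tvec, smul_smul]

theorem skew_of_alt {β : W →ₗ[K] W →ₗ[K] K} (halt : ∀ x, β x x = 0) (x y : W) : β x y = -β y x := by
  have h := halt (x + y)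
  simp only [map_add, LinearMap.add_apply, halt, zero_add, add_zero] at h
  linear_combination h

theorem tvec_isom (β : W →ₗ[K] W →ₗ[K] K) (halt : ∀ x, β x x = 0) (u : W) (t : K) (x y : W) :
    β (tvec β halt u t x) (tvec β halt u t y) = β x y := by
  simp only [tvec_apply, map_add, map_smul, LinearMap.add_apply, LinearMap.smul_apply, halt, smul_eq_mul]
  rw [skew_of_alt halt u y]
  ring

/-- The isometries of a non-degenerate alternating form are transitive on non-zero vectors. -/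
theorem exists_isom_map (β : W →ₗ[K] W →ₗ[K] K) (halt : ∀ x, β x x = 0)
    (hnd : ∀ x, x ≠ 0 → ∃ y, β x y ≠ 0) {x y : W} (hx : x ≠ 0) (hy : y ≠ 0) :
    ∃ e : W ≃ₗ[K] W, (∀ a b, β (e a) (e b) = β a b) ∧ e x = y := by
  have step : ∀ x y : W, β x y ≠ 0 → ∃ e : W ≃ₗ[K] W, (∀ a b, β (e a) (e b) = β a b) ∧ e x = y := by
    intro x y h
    refine ⟨tvec β halt (y - x) (β x y)⁻¹, tvec_isom β halt _ _, ?_⟩
    rw [tvec_apply, map_sub, halt, sub_zero, inv_mul_cancel₀ h, one_smul, add_sub_cancel]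
  by_cases h : β x y ≠ 0
  · exact step x y h
  obtain ⟨z, hz1, hz2⟩ : ∃ z, β x z ≠ 0 ∧ β z y ≠ 0 := by
    obtain ⟨a, ha⟩ := hnd x hx
    obtain ⟨b, hb⟩ := hnd y hy
    have hb' : β b y ≠ 0 := by rwa [skew_of_alt halt, neg_ne_zero]
    by_cases h1 : β a y = 0
    · by_cases h2 : β x b = 0
      · exact ⟨a + b, by rw [map_add, h2, add_zero]; exact ha,
          by rw [map_add, LinearMap.add_apply, h1, zero_add]; exact hb'⟩
      · exact ⟨b, h2, hb'⟩
    · exact ⟨a, ha, h1⟩
  obtain ⟨e₁, he₁, hx₁⟩ := step x z hz1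
  obtain ⟨e₂, he₂, hx₂⟩ := step z y hz2
  exact ⟨e₁.trans e₂, fun a b => by simp [he₂, he₁], by simp [hx₁, hx₂]⟩

end Trans

variable {F : Type*} [Field F] [Finite F] {K : Type*} [Field K] [Algebra F K] [Finite K]
  {M : Type*} [AddCommGroup M] [Module K M] [Module F M] [IsScalarTower F K M] [Finite M]

/-- A non-degenerate alternating form on the middle part. -/
structure MidForm (β : M →ₗ[K] M →ₗ[K] K) : Prop where
  alt : ∀ x, β x x = 0
  nd : ∀ x, x ≠ 0 → ∃ y, β x y ≠ 0

variable {β : M →ₗ[K] M →ₗ[K] K}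

theorem MidForm.eq_zero (hβ : MidForm β) {x : M} (h : ∀ y, β x y = 0) : x = 0 := by
  by_contra hx
  obtain ⟨y, hy⟩ := hβ.nd x hx
  exact hy (h y)

theorem MidForm.skew (hβ : MidForm β) (x y : M) : β x y = -β y x := skew_of_alt hβ.alt x y

local notation "X" => (K × M × K)
local notation "GX" => ((K × M × K) ≃ₗ[F] (K × M × K))

/-- The alternating form on the whole space. -/
def bform (β : M →ₗ[K] M →ₗ[K] K) : X →ₗ[K] X →ₗ[K] K :=
  LinearMap.mk₂ K (fun x y => x.1 * y.2.2 - x.2.2 * y.1 + β x.2.1 y.2.1)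
    (fun x x' y => by simp [map_add]; ring) (fun c x y => by simp [map_smul]; ring)
    (fun x y y' => by simp [map_add]; ring) (fun c x y => by simp [map_smul]; ring)

theorem bform_apply (x y : X) : bform β x y = x.1 * y.2.2 - x.2.2 * y.1 + β x.2.1 y.2.1 := rfl

theorem bform_alt (hβ : MidForm β) (x : X) : bform β x x = 0 := by
  simp [bform_apply, hβ.alt, mul_comm]

theorem bform_nd (hβ : MidForm β) (x : X) (hx : x ≠ 0) : ∃ y, bform β x y ≠ 0 := by
  obtain ⟨a, y, b⟩ := x
  by_cases ha : a = 0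
  · by_cases hb : b = 0
    · obtain ⟨z, hz⟩ := hβ.nd y fun e => hx (by simp [ha, hb, e])
      exact ⟨(0, z, 0), by simpa [bform_apply] using hz⟩
    · exact ⟨(1, 0, 0), by simpa [bform_apply] using hb⟩
  · exact ⟨(0, 0, 1), by simpa [bform_apply] using ha⟩

variable (F) in
/-- The form over the smaller field. -/
noncomputable def fform (β : M →ₗ[K] M →ₗ[K] K) (x y : X) : F := Algebra.trace F K (bform β x y)

/-- Isometries of the form over the smaller field. -/
def Isom (β : M →ₗ[K] M →ₗ[K] K) (g : GX) : Prop := ∀ x y, fform F β (g x) (g y) = fform F β x y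

/-- The map sends scalar multiplications to scalar multiplications. -/
def SemiS (g : GX) : Prop := ∀ k : K, ∃ k' : K, ∀ x : X, g (k • x) = k' • g x

theorem SemiS.mul {g h : GX} (hg : SemiS g) (hh : SemiS h) : SemiS (g * h) := fun k => by
  obtain ⟨k₁, h₁⟩ := hh k
  obtain ⟨k₂, h₂⟩ := hg k₁
  exact ⟨k₂, fun x => by show g (h (k • x)) = k₂ • g (h x); rw [h₁, h₂]⟩

/-- An overgroup of the semilinear isometries inside the isometry group. -/
structure SOver (β : M →ₗ[K] M →ₗ[K] K) (H : Subgroup GX) : Prop where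
  semi : ∀ g : GX, SemiS g → Isom β g → g ∈ H
  isom : ∀ g ∈ H, Isom β g
  ne : ∃ g ∈ H, ¬ SemiS g

variable {H : Subgroup ((K × M × K) ≃ₗ[F] (K × M × K))}

theorem fform_semi {e : X ≃ₗ[K] X} (he : ∀ x y, bform β (e x) (e y) = bform β x y) :
    SemiS (e.restrictScalars F) ∧ Isom β (e.restrictScalars F) :=
  ⟨fun k => ⟨k, fun x => e.map_smul k x⟩, fun x y => congrArg (Algebra.trace F K) (he x y)⟩

theorem SOver.klin_mem (hH : SOver β H) {e : X ≃ₗ[K] X} (he : ∀ x y, bform β (e x) (e y) = bform β x y) :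
    e.restrictScalars F ∈ H :=
  hH.semi _ (fform_semi he).1 (fform_semi he).2

/-- The first basis vector. -/
def e0 : X := (1, 0, 0)

theorem smul_e0 (a : K) : a • (e0 : X) = (a, 0, 0) := by simp [e0]

theorem e0_ne_zero : (e0 : X) ≠ 0 := fun h => one_ne_zero (congrArg Prod.fst h : (1 : K) = 0)

theorem fform_e0 (x : X) : fform F β e0 x = Algebra.trace F K x.2.2 := by simp [fform, bform_apply, e0]

theorem SOver.exists_trans (hH : SOver β H) (hβ : MidForm β) {x y : X} (hx : x ≠ 0) (hy : y ≠ 0) :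
    ∃ e : X ≃ₗ[K] X, e.restrictScalars F ∈ H ∧ e x = y := by
  obtain ⟨e, he, hxy⟩ := exists_isom_map (bform β) (bform_alt hβ) (bform_nd hβ) hx hy
  exact ⟨e, hH.klin_mem he, hxy⟩

/-- The long root translations. -/
def longK (c : K) : X ≃ₗ[K] X where
  toFun x := (x.1 + c * x.2.2, x.2.1, x.2.2)
  map_add' x y := by
    refine Prod.ext ?_ (Prod.ext ?_ ?_) <;> simp [mul_add]
    ring
  map_smul' k x := by
    refine Prod.ext ?_ (Prod.ext ?_ ?_) <;> simp
    ring
  invFun x := (x.1 - c * x.2.2, x.2.1, x.2.2)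
  left_inv x := by simp
  right_inv x := by simp

theorem longK_apply (c : K) (x : X) : longK c x = (x.1 + c * x.2.2, x.2.1, x.2.2) := rfl

theorem longK_isom (c : K) (x y : X) : bform β (longK c x) (longK c y) = bform β x y := by
  simp [bform_apply, longK_apply]; ring

/-- The short root translations. -/
def shortK (β : M →ₗ[K] M →ₗ[K] K) (halt : ∀ x, β x x = 0) (z : M) : X ≃ₗ[K] X where
  toFun x := (x.1 + β z x.2.1, x.2.1 + x.2.2 • z, x.2.2)
  map_add' x y := by
    refine Prod.ext ?_ (Prod.ext ?_ ?_) <;> simp [add_smul]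
    · ring
    · abel
  map_smul' k x := by
    refine Prod.ext ?_ (Prod.ext ?_ ?_) <;> simp [smul_smul, smul_add]
    ring
  invFun x := (x.1 - β z x.2.1, x.2.1 - x.2.2 • z, x.2.2)
  left_inv x := by simp [halt]
  right_inv x := by simp [halt]

theorem shortK_apply (halt : ∀ x, β x x = 0) (z : M) (x : X) :
    shortK β halt z x = (x.1 + β z x.2.1, x.2.1 + x.2.2 • z, x.2.2) := rfl

theorem shortK_isom (hβ : MidForm β) (z : M) (x y : X) :
    bform β (shortK β hβ.alt z x) (shortK β hβ.alt z y) = bform β x y := by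
  simp only [bform_apply, shortK_apply, map_add, map_smul, LinearMap.add_apply, LinearMap.smul_apply, smul_eq_mul,
    hβ.alt]
  rw [hβ.skew x.2.1 z]
  ring

/-- The opposite short root translations. -/
def shortK' (β : M →ₗ[K] M →ₗ[K] K) (halt : ∀ x, β x x = 0) (z : M) : X ≃ₗ[K] X where
  toFun x := (x.1, x.2.1 + x.1 • z, x.2.2 - β z x.2.1)
  map_add' x y := by
    refine Prod.ext ?_ (Prod.ext ?_ ?_) <;> simp [add_smul]
    · abel
    · ring
  map_smul' k x := by
    refine Prod.ext ?_ (Prod.ext ?_ ?_) <;> simp [smul_smul, smul_add]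
    ring
  invFun x := (x.1, x.2.1 - x.1 • z, x.2.2 + β z x.2.1)
  left_inv x := by simp [halt]
  right_inv x := by simp [halt]

theorem shortK'_apply (halt : ∀ x, β x x = 0) (z : M) (x : X) :
    shortK' β halt z x = (x.1, x.2.1 + x.1 • z, x.2.2 - β z x.2.1) := rfl

theorem shortK'_isom (hβ : MidForm β) (z : M) (x y : X) :
    bform β (shortK' β hβ.alt z x) (shortK' β hβ.alt z y) = bform β x y := by
  simp only [bform_apply, shortK'_apply, map_add, map_smul, LinearMap.add_apply, LinearMap.smul_apply, smul_eq_mul,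
    hβ.alt]
  rw [hβ.skew x.2.1 z]
  ring

/-- The torus. -/
def torK (c : Kˣ) : X ≃ₗ[K] X where
  toFun x := ((c : K) * x.1, x.2.1, ((c⁻¹ : Kˣ) : K) * x.2.2)
  map_add' x y := by simp [mul_add]
  map_smul' k x := by simp; constructor <;> ring
  invFun x := (((c⁻¹ : Kˣ) : K) * x.1, x.2.1, (c : K) * x.2.2)
  left_inv x := by simp
  right_inv x := by simp

theorem torK_apply (c : Kˣ) (x : X) : torK c x = ((c : K) * x.1, x.2.1, ((c⁻¹ : Kˣ) : K) * x.2.2) := rfl

theorem torK_isom (c : Kˣ) (x y : X) : bform β (torK c x) (torK c y) = bform β x y := by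
  simp [bform_apply, torK_apply]; field_simp

/-- The quarter turn. -/
def turnK : X ≃ₗ[K] X where
  toFun x := (x.2.2, x.2.1, -x.1)
  map_add' x y := by simp [neg_add_rev, add_comm]
  map_smul' k x := by simp
  invFun x := (-x.2.2, x.2.1, x.1)
  left_inv x := by simp
  right_inv x := by simp

theorem turnK_apply (x : X) : turnK x = (x.2.2, x.2.1, -x.1) := rfl

theorem turnK_isom (x y : X) : bform β (turnK x) (turnK y) = bform β x y := by
  simp [bform_apply, turnK_apply]; ring

/-- An isometry of the middle part. -/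
def midK (e : M ≃ₗ[K] M) : X ≃ₗ[K] X := (LinearEquiv.refl K K).prodCongr (e.prodCongr (LinearEquiv.refl K K))

theorem midK_apply (e : M ≃ₗ[K] M) (x : X) : midK e x = (x.1, e x.2.1, x.2.2) := rfl

theorem midK_isom (e : M ≃ₗ[K] M) (he : ∀ a b, β (e a) (e b) = β a b) (x y : X) :
    bform β (midK e x) (midK e y) = bform β x y := by
  simp [bform_apply, midK_apply, he]

/-- Maps with a restricted field of scalars, applied. -/
theorem restrict_apply (e : X ≃ₗ[K] X) (x : X) : (e.restrictScalars F : GX) x = e x := rfl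

/-- The long root maps in the overgroup. -/
def zSet (H : Subgroup GX) : Set (K →ₗ[F] K) :=
  {g | ∃ h ∈ H, ∀ x : X, h x = (x.1 + g x.2.2, x.2.1, x.2.2)}

/-- The maps from the last coordinate to the middle in the overgroup. -/
def mSet (H : Subgroup GX) : Set (K →ₗ[F] M) :=
  {Φ | ∃ h ∈ H, ∃ Ψ : M × K →ₗ[F] K, ∀ x : X, h x = (x.1 + Ψ x.2, x.2.1 + Φ x.2.2, x.2.2)}

theorem mSet_inv {h : GX} {Φ : K →ₗ[F] M} {Ψ : M × K →ₗ[F] K}
    (he : ∀ x : X, h x = (x.1 + Ψ x.2, x.2.1 + Φ x.2.2, x.2.2)) (x : X) :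
    h⁻¹ x = (x.1 - Ψ (x.2.1 - Φ x.2.2, x.2.2), x.2.1 - Φ x.2.2, x.2.2) := by
  show h.symm x = _
  rw [LinearEquiv.symm_apply_eq, he]
  simp

theorem mSet_add {Φ Φ' : K →ₗ[F] M} (hΦ : Φ ∈ mSet H) (hΦ' : Φ' ∈ mSet H) : Φ + Φ' ∈ mSet H := by
  obtain ⟨h, hh, Ψ, he⟩ := hΦ
  obtain ⟨h', hh', Ψ', he'⟩ := hΦ'
  refine ⟨h * h', mul_mem hh hh',
    Ψ' + Ψ.comp ((LinearMap.fst F M K + Φ'.comp (LinearMap.snd F M K)).prod (LinearMap.snd F M K)), fun x => ?_⟩
  rw [LinearEquiv.mul_apply, he', he]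
  simp [add_assoc, add_comm (Φ' x.2.2)]

theorem mSet_zero : (0 : K →ₗ[F] M) ∈ mSet H := ⟨1, one_mem H, 0, fun x => by simp⟩

theorem mSet_neg {Φ : K →ₗ[F] M} (hΦ : Φ ∈ mSet H) : -Φ ∈ mSet H := by
  obtain ⟨h, hh, Ψ, he⟩ := hΦ
  refine ⟨h⁻¹, inv_mem hh,
    -Ψ.comp ((LinearMap.fst F M K - Φ.comp (LinearMap.snd F M K)).prod (LinearMap.snd F M K)), fun x => ?_⟩
  rw [mSet_inv he]
  simp [sub_eq_add_neg]

/-- The long root maps as an additive group. -/
def zGroup (H : Subgroup GX) : AddSubgroup (K →ₗ[F] K) where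
  carrier := zSet H
  zero_mem' := ⟨1, one_mem H, fun x => by simp⟩
  add_mem' := by
    rintro f g ⟨h, hh, he⟩ ⟨h', hh', he'⟩
    exact ⟨h * h', mul_mem hh hh', fun x => by rw [LinearEquiv.mul_apply, he', he]; simp; abel⟩
  neg_mem' := by
    rintro f ⟨h, hh, he⟩
    refine ⟨h⁻¹, inv_mem hh, fun x => ?_⟩
    show h.symm x = _
    rw [LinearEquiv.symm_apply_eq, he]
    simp

theorem mem_zGroup {g : K →ₗ[F] K} : g ∈ zGroup H ↔ g ∈ zSet H := Iff.rfl

theorem SOver.zGroup_selfAdj (hH : SOver β H) : SelfAdjGroup (zGroup H) where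
  adj := by
    rintro g ⟨h, hh, he⟩ x y
    have h1 := hH.isom h hh (0, 0, x) (0, 0, y)
    simp [fform, bform_apply, he] at h1
    linear_combination h1
  mul := by
    rintro g ⟨h, hh, he⟩ a ha
    refine ⟨(torK (Units.mk0 a ha) : X ≃ₗ[K] X).restrictScalars F * h *
      ((torK (Units.mk0 a ha) : X ≃ₗ[K] X).restrictScalars F)⁻¹, ?_, fun x => ?_⟩
    · exact mul_mem (mul_mem (hH.klin_mem (torK_isom _)) hh) (inv_mem (hH.klin_mem (torK_isom _)))
    · show torK (Units.mk0 a ha) (h ((torK (Units.mk0 a ha)).symm x)) = _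
      rw [he]
      simp [torK_apply, torK, mul_add, ha]
  scalar := fun c => ⟨_, hH.klin_mem (longK_isom c), fun x => rfl⟩

end CfsgLib.FieldMax.Symp
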