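import Cfsg.Agent.Aschbacher.FieldMax.SympCore
import Cfsg.Agent.Aschbacher.FieldMax.Count

/-!
The translations along a line cannot act freely on its images through a fixed vector.
-/

set_option autoImplicit false
set_option linter.unusedSectionVars false

namespace CfsgLib.FieldMax.Symp

open Module

theorem card_dvd_sum_of_invariant {F V : Type*} [Field F] [Fintype F] [AddCommGroup V] [Module F V] [DecidableEq V]
    {e : V} (he : e ≠ 0) (P : Finset V) (hP : ∀ x ∈ P, ∀ a : F, x + a • e ∈ P) (f : V → ℕ)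
    (hf : ∀ x ∈ P, ∀ a : F, f (x + a • e) = f x) : Fintype.card F ∣ ∑ x ∈ P, f x := by
  let key : V → Finset V := fun x => Finset.univ.image fun a : F => x + a • e
  rw [← Finset.sum_fiberwise_of_maps_to (g := key) (t := P.image key) fun x hx => Finset.mem_image_of_mem _ hx]
  refine Finset.dvd_sum fun k hk => ?_
  obtain ⟨x, hx, rfl⟩ := Finset.mem_image.1 hk
  have hfib : P.filter (fun y => key y = key x) = key x := by
    ext y
    simp only [Finset.mem_filter, key, Finset.mem_image, Finset.mem_univ, true_and]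
    constructor
    · rintro ⟨-, h⟩
      have h1 : y ∈ Finset.univ.image fun a : F => y + a • e := Finset.mem_image.2 ⟨0, Finset.mem_univ _, by simp⟩
      rw [h] at h1
      obtain ⟨a, -, ha⟩ := Finset.mem_image.1 h1
      exact ⟨a, ha⟩
    · rintro ⟨a, rfl⟩
      refine ⟨hP x hx a, ?_⟩
      ext z
      simp only [Finset.mem_image, Finset.mem_univ, true_and]
      constructor
      · rintro ⟨b, rfl⟩; exact ⟨a + b, by rw [add_smul, add_assoc]⟩
      · rintro ⟨b, rfl⟩; exact ⟨b - a, by rw [sub_smul]; abel⟩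
  rw [hfib, Finset.sum_const_nat (m := f x) fun y hy => by
    obtain ⟨a, -, rfl⟩ := Finset.mem_image.1 hy
    exact hf x hx a]
  have hcard : (key x).card = Fintype.card F := by
    rw [Finset.card_image_of_injective _ fun a b h => smul_left_injective F he (add_left_cancel h), Finset.card_univ]
  exact ⟨f x, by rw [hcard]⟩

theorem pairing_surjective {K M : Type*} [Field K] [AddCommGroup M] [Module K M] {β : M →ₗ[K] M →ₗ[K] K} {y z₀ : M}
    (h : β z₀ y ≠ 0) (a : K) : ∃ z, β z y = a :=
  ⟨(a / β z₀ y) • z₀, by rw [map_smul, LinearMap.smul_apply, smul_eq_mul, div_mul_cancel₀ a h]⟩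

variable {F : Type*} [Field F] [Finite F] {K : Type*} [Field K] [Algebra F K] [Finite K]
  {M : Type*} [AddCommGroup M] [Module K M] [Module F M] [IsScalarTower F K M] [Finite M]
  {β : M →ₗ[K] M →ₗ[K] K}

local notation "X" => (K × M × K)
local notation "GX" => ((K × M × K) ≃ₗ[F] (K × M × K))

variable {H : Subgroup ((K × M × K) ≃ₗ[F] (K × M × K))}

/-- The line of the first basis vector over the larger field. -/
def lineX : Submodule F X := LinearMap.range (LinearMap.inl F K (M × K))

theorem mem_lineX {x : X} : x ∈ (lineX : Submodule F X) ↔ x.2.1 = 0 ∧ x.2.2 = 0 := by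
  constructor
  · rintro ⟨a, rfl⟩; simp
  · rintro ⟨h1, h2⟩
    exact ⟨x.1, Prod.ext rfl (Prod.ext h1.symm h2.symm)⟩

theorem e0_mem : (e0 : X) ∈ (lineX : Submodule F X) := mem_lineX.2 ⟨rfl, rfl⟩

theorem finrank_lineX : finrank F (lineX : Submodule F X) = finrank F K :=
  LinearMap.finrank_range_of_inj LinearMap.inl_injective

theorem map_lineX_klin (e : X ≃ₗ[K] X) (h : e e0 ∈ (lineX : Submodule F X)) :
    (lineX : Submodule F X).map (e.restrictScalars F : X →ₗ[F] X) = lineX := by
  refine Submodule.eq_of_le_of_finrank_le ?_ (by rw [LinearEquiv.finrank_map_eq])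
  rintro _ ⟨x, hx, rfl⟩
  obtain ⟨h1, h2⟩ := mem_lineX.1 hx
  obtain ⟨h3, h4⟩ := mem_lineX.1 h
  show e x ∈ _
  rw [show x = x.1 • (e0 : X) from Prod.ext (by simp [e0]) (Prod.ext (by simp [e0, h1]) (by simp [e0, h2])), map_smul]
  exact mem_lineX.2 ⟨by simp [h3], by simp [h4]⟩

/-- A map preserving every line over the larger field is semilinear. -/
theorem semiS_of_lines {g : GX} (h : ∀ (x : X) (k : K), ∃ k' : K, g (k • x) = k' • g x) : SemiS g := by
  choose L hL using h
  have hg0 : ∀ x : X, x ≠ 0 → g x ≠ 0 := fun x hx h => hx (g.injective (h.trans (map_zero g).symm))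
  have hind : ∀ x y : X, x ≠ 0 → (∀ c : K, y ≠ c • x) → ∀ a b : K, a • g x + b • g y = 0 → a = 0 ∧ b = 0 := by
    intro x y hx hy a b hab
    have hb : b = 0 := by
      by_contra hb
      have hsurj : Function.Surjective (L x) := Finite.injective_iff_surjective.1 fun k k' e =>
        smul_left_injective K hx (g.injective (by show g (k • x) = g (k' • x); rw [hL, hL, e]))
      obtain ⟨k, hk⟩ := hsurj (-(a / b))
      apply hy k
      apply g.injective
      rw [hL, hk]
      have h1 : g y = b⁻¹ • (b • g y) := by rw [inv_smul_smul₀ hb]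
      rw [h1, eq_neg_of_add_eq_zero_right hab, smul_neg, smul_smul, neg_smul, inv_mul_eq_div]
    subst hb
    rw [zero_smul, add_zero, smul_eq_zero] at hab
    exact ⟨hab.resolve_right (hg0 x hx), rfl⟩
  have hsame : ∀ x y : X, x ≠ 0 → (∀ c : K, y ≠ c • x) → ∀ k, L x k = L y k := by
    intro x y hx hy k
    have h1 : L (x + y) k • (g x + g y) = L x k • g x + L y k • g y := by
      rw [← hL, ← hL, ← map_add, ← map_add, ← smul_add, hL]
    have h2 := hind x y hx hy (L (x + y) k - L x k) (L (x + y) k - L y k) (by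
      rw [sub_smul, sub_smul]
      linear_combination (norm := module) h1)
    rw [← sub_eq_zero.1 h2.1, sub_eq_zero.1 h2.2]
  intro k
  refine ⟨L e0 k, fun x => ?_⟩
  by_cases hx : x = 0
  · subst hx; simp
  rw [hL]
  congr 1
  by_cases hxv : ∀ c : K, x ≠ c • (e0 : X)
  · exact (hsame e0 x e0_ne_zero hxv k).symm
  · push Not at hxv
    obtain ⟨c, rfl⟩ := hxv
    set z : X := (0, 0, 1)
    have hz1 : ∀ d : K, z ≠ d • (e0 : X) := fun d e => by simpa [z, e0] using congrArg (fun p : X => p.2.2) e
    have hz2 : ∀ d : K, z ≠ d • (c • (e0 : X)) := fun d e => by rw [smul_smul] at e; exact hz1 _ e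
    rw [hsame e0 z e0_ne_zero hz1, hsame (c • e0) z hx hz2]

/-- The images of the line through the first basis vector. -/
def sMembers (H : Subgroup GX) : Set (Submodule F X) :=
  {W | ∃ h ∈ H, (lineX : Submodule F X).map (h : X →ₗ[F] X) = W ∧ e0 ∈ W}

/-- The vectors sharing an image of the line with `u`. -/
def together (H : Subgroup GX) (u : X) : Set X :=
  {x | ∃ h ∈ H, u ∈ (lineX : Submodule F X).map (h : X →ₗ[F] X) ∧ x ∈ (lineX : Submodule F X).map (h : X →ₗ[F] X)}

theorem together_map {u x : X} {g : GX} (hg : g ∈ H) (hx : x ∈ together H u) : g x ∈ together H (g u) := by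
  obtain ⟨h, hh, hu, hx⟩ := hx
  refine ⟨g * h, mul_mem hg hh, ?_, ?_⟩
  · obtain ⟨y, hy, rfl⟩ := hu
    exact ⟨y, hy, rfl⟩
  · obtain ⟨y, hy, rfl⟩ := hx
    exact ⟨y, hy, rfl⟩

theorem together_map_iff {u x : X} {g : GX} (hg : g ∈ H) : g x ∈ together H (g u) ↔ x ∈ together H u := by
  refine ⟨fun h => ?_, together_map hg⟩
  have h1 := together_map (inv_mem hg) h
  change g.symm (g x) ∈ together H (g.symm (g u)) at h1
  rwa [LinearEquiv.symm_apply_apply, LinearEquiv.symm_apply_apply] at h1

theorem mem_together_e0 {x : X} : x ∈ together H e0 ↔ ∃ W ∈ sMembers H, x ∈ W :=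
  ⟨fun ⟨h, hh, hu, hx⟩ => ⟨_, ⟨h, hh, rfl, hu⟩, hx⟩, fun ⟨_, ⟨h, hh, rfl, hu⟩, hx⟩ => ⟨h, hh, hu, hx⟩⟩

theorem lineX_member : (lineX : Submodule F X) ∈ sMembers H := ⟨1, one_mem H, Submodule.map_id _, e0_mem⟩

theorem map_sMember {W : Submodule F X} (hW : W ∈ sMembers H) {g : GX} (hg : g ∈ H) (hgv : g e0 = e0) :
    W.map (g : X →ₗ[F] X) ∈ sMembers H := by
  obtain ⟨h, hh, rfl, hv⟩ := hW
  refine ⟨g * h, mul_mem hg hh, ?_, ⟨e0, hv, hgv⟩⟩
  rw [← Submodule.map_comp]; rfl

theorem SOver.exists_fix_member (hH : SOver β H) {W : Submodule F X} (hW : W ∈ sMembers H) :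
    ∃ h ∈ H, h e0 = e0 ∧ (lineX : Submodule F X).map (h : X →ₗ[F] X) = W := by
  obtain ⟨h, hh, rfl, hv⟩ := hW
  obtain ⟨y, hy, hye⟩ := Submodule.mem_map.1 hv
  obtain ⟨h1, h2⟩ := mem_lineX.1 hy
  have hy0 : y.1 ≠ 0 := fun e => e0_ne_zero (by
    rw [← hye, show y = 0 from Prod.ext e (Prod.ext h1 h2), map_zero])
  set t : X ≃ₗ[K] X := torK (Units.mk0 y.1 hy0)
  have ht : t e0 = y := Prod.ext (by simp [t, torK_apply, e0]) (Prod.ext (by simp [t, torK_apply, e0, h1])
    (by simp [t, torK_apply, e0, h2]))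
  refine ⟨h * t.restrictScalars F, mul_mem hh (hH.klin_mem (torK_isom _)), ?_, ?_⟩
  · rw [LinearEquiv.mul_apply, restrict_apply, ht]; exact hye
  · rw [show ((h * t.restrictScalars F : GX) : X →ₗ[F] X) = (h : X →ₗ[F] X).comp (t.restrictScalars F : X →ₗ[F] X)
      from rfl, Submodule.map_comp, map_lineX_klin t (by rw [ht]; exact hy)]

/-- The long translations as isometries over the smaller field. -/
def longF (c : K) : GX := (longK c : X ≃ₗ[K] X).restrictScalars F

theorem longF_apply (c : K) (x : X) : (longF c : GX) x = (x.1 + c * x.2.2, x.2.1, x.2.2) := rfl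

theorem longF_fix (c : K) {x : X} (hx : x ∈ (lineX : Submodule F X)) : (longF c : GX) x = x := by
  rw [longF_apply]
  obtain ⟨h1, h2⟩ := mem_lineX.1 hx
  exact Prod.ext (by simp [h2]) rfl

/-- Only the trivial translation fixes another image of the line. -/
def SFree (H : Subgroup GX) : Prop :=
  ∀ W ∈ sMembers H, W ≠ (lineX : Submodule F X) →
    ∀ c : K, W.map ((longF c : GX) : X →ₗ[F] X) = W → c = 0

theorem SOver.count_false (hH : SOver β H) (hβ : MidForm β) (hr : (finrank F K).Prime) (hfree : SFree H) :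
    False := by
  classical
  have : Fintype F := Fintype.ofFinite F
  have : Fintype K := Fintype.ofFinite K
  have : Fintype M := Fintype.ofFinite M
  have : Finite (Submodule F X) := Finite.of_injective _ SetLike.coe_injective
  have : Fintype (Submodule F X) := Fintype.ofFinite _
  set S : Submodule F X := lineX
  set Mem : Finset (Submodule F X) := Finset.univ.filter (· ∈ sMembers H)
  have hMem : ∀ W, W ∈ Mem ↔ W ∈ sMembers H := fun W => by simp [Mem]
  set P : Finset X := Finset.univ.filter fun x => x ∈ together H e0 ∧ x ∉ S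
  have hP : ∀ x, x ∈ P ↔ x ∈ together H e0 ∧ x ∉ S := fun x => by simp [P]
  set Q := Fintype.card K
  have hlong : ∀ c : K, (longF c : GX) ∈ H := fun c => hH.klin_mem (longK_isom c)
  have hlongS : ∀ c : K, S.map ((longF c : GX) : X →ₗ[F] X) = S := fun c =>
    map_lineX_klin (longK c) (mem_lineX.2 ⟨rfl, rfl⟩)
  -- members through a shared vector
  have hlam : ∀ x ∈ P, Q ∣ (Mem.filter (x ∈ ·)).card - 1 ∧ 1 ≤ (Mem.filter (x ∈ ·)).card := by
    intro x hx
    obtain ⟨W, hW, hxW⟩ := mem_together_e0.1 ((hP x).1 hx).1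
    obtain ⟨h, hh, hhv, rfl⟩ := hH.exists_fix_member hW
    obtain ⟨w, hw, hwx⟩ := Submodule.mem_map.1 hxW
    change h w = x at hwx
    have heq : (Mem.filter (x ∈ ·)).card = (Mem.filter (w ∈ ·)).card := by
      refine Finset.card_bij' (fun W _ => W.map ((h⁻¹ : GX) : X →ₗ[F] X)) (fun W _ => W.map (h : X →ₗ[F] X))
        ?_ ?_ ?_ ?_
      · intro W hW
        rw [Finset.mem_filter, hMem] at hW ⊢
        refine ⟨map_sMember hW.1 (inv_mem hh) ?_, ⟨x, hW.2, ?_⟩⟩
        · show h.symm e0 = e0; rw [LinearEquiv.symm_apply_eq, hhv]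
        · show h.symm x = w; rw [LinearEquiv.symm_apply_eq, hwx]
      · intro W hW
        rw [Finset.mem_filter, hMem] at hW ⊢
        exact ⟨map_sMember hW.1 hh hhv, ⟨w, hW.2, hwx⟩⟩
      · intro W _
        rw [← Submodule.map_comp]
        convert Submodule.map_id W
        exact LinearMap.ext fun y => h.apply_symm_apply y
      · intro W _
        rw [← Submodule.map_comp]
        convert Submodule.map_id W
        exact LinearMap.ext fun y => h.symm_apply_apply y
    rw [heq]
    have hSw : S ∈ Mem.filter (w ∈ ·) := Finset.mem_filter.2 ⟨(hMem _).2 lineX_member, hw⟩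
    refine ⟨?_, Finset.card_pos.2 ⟨_, hSw⟩⟩
    rw [← Finset.card_erase_of_mem hSw]
    set T := (Mem.filter (w ∈ ·)).erase S
    have hT : ∀ W, W ∈ T ↔ W ≠ S ∧ W ∈ sMembers H ∧ w ∈ W := fun W => by simp [T, hMem]
    letI : MulAction (Multiplicative K) T :=
      { smul := fun c W => ⟨(W : Submodule F X).map ((longF (Multiplicative.toAdd c) : GX) : X →ₗ[F] X),
          (hT _).2 ⟨fun e => ((hT _).1 W.2).1 (Submodule.map_injective_of_injective (LinearEquiv.injective _)
              (e.trans (hlongS _).symm)),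
            map_sMember ((hT _).1 W.2).2.1 (hlong _) (longF_fix _ e0_mem),
            ⟨w, ((hT _).1 W.2).2.2, longF_fix _ hw⟩⟩⟩
        one_smul := fun W => Subtype.ext (by
          show (W : Submodule F X).map _ = (W : Submodule F X)
          convert Submodule.map_id (W : Submodule F X)
          exact LinearMap.ext fun y => by simp [longF_apply])
        mul_smul := fun c c' W => Subtype.ext (by
          show (W : Submodule F X).map _ = ((W : Submodule F X).map _).map _
          rw [← Submodule.map_comp]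
          congr 1
          exact LinearMap.ext fun y => by simp [longF_apply, add_mul]; abel) }
    have h1 := dvd_mul_card_of_stab (G := Multiplicative K) (d := 1) fun W : T => by
      refine dvd_of_eq (Subgroup.card_eq_one.2 ((Subgroup.eq_bot_iff_forall _).2 fun c hc => ?_))
      exact hfree W ((hT _).1 W.2).2.1 ((hT _).1 W.2).1 (Multiplicative.toAdd c)
        (congrArg Subtype.val (MulAction.mem_stabilizer_iff.1 hc))
    rwa [one_mul, Nat.card_congr Multiplicative.toAdd, Nat.card_eq_fintype_card, Nat.card_eq_fintype_card,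
      Fintype.card_coe] at h1
  -- the incidences outside the line
  set Y : Finset (X × Submodule F X) := Finset.univ.filter fun p => p.2 ∈ sMembers H ∧ p.1 ∈ p.2 ∧ p.1 ∉ S
  have hY : ∀ p, p ∈ Y ↔ p.2 ∈ sMembers H ∧ p.1 ∈ p.2 ∧ p.1 ∉ S := fun p => by simp [Y]
  have hYdvd : Q * Fintype.card F ∣ Y.card := by
    letI : MulAction (Multiplicative (K × F)) Y :=
      { smul := fun c p => ⟨((longF (Multiplicative.toAdd c).1 : GX) p.1.1 + (Multiplicative.toAdd c).2 • e0,
          p.1.2.map ((longF (Multiplicative.toAdd c).1 : GX) : X →ₗ[F] X)), by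
            obtain ⟨hm, hin, hout⟩ := (hY _).1 p.2
            refine (hY _).2 ⟨map_sMember hm (hlong _) (longF_fix _ e0_mem),
              Submodule.add_mem _ ⟨_, hin, rfl⟩ (Submodule.smul_mem _ _ ⟨e0, ?_, longF_fix _ e0_mem⟩), fun hS => hout ?_⟩
            · obtain ⟨_, -, -, he⟩ := hm; exact he
            · have h1 : (longF (Multiplicative.toAdd c).1 : GX) p.1.1 ∈ S := by
                simpa using Submodule.sub_mem _ hS (Submodule.smul_mem _ (Multiplicative.toAdd c).2 e0_mem)
              rw [← hlongS (Multiplicative.toAdd c).1] at h1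
              obtain ⟨y, hy, hye⟩ := h1
              rwa [← (longF (Multiplicative.toAdd c).1 : GX).injective hye]⟩
        one_smul := fun p => Subtype.ext (Prod.ext (by
          show (longF (0 : K) : GX) p.1.1 + (0 : F) • (e0 : X) = p.1.1
          simp [longF_apply]) (by
          show p.1.2.map ((longF (0 : K) : GX) : X →ₗ[F] X) = p.1.2
          convert Submodule.map_id p.1.2
          exact LinearMap.ext fun y => by simp [longF_apply]))
        mul_smul := fun c c' p => Subtype.ext (Prod.ext (by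
          show (longF ((Multiplicative.toAdd c).1 + (Multiplicative.toAdd c').1) : GX) p.1.1 +
            ((Multiplicative.toAdd c).2 + (Multiplicative.toAdd c').2) • (e0 : X) =
            (longF (Multiplicative.toAdd c).1 : GX) ((longF (Multiplicative.toAdd c').1 : GX) p.1.1 +
              (Multiplicative.toAdd c').2 • (e0 : X)) + (Multiplicative.toAdd c).2 • (e0 : X)
          rw [map_add, map_smul, longF_fix _ e0_mem]
          simp [longF_apply, add_mul, e0, add_smul]
          abel) (by
          show p.1.2.map _ = (p.1.2.map _).map _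
          rw [← Submodule.map_comp]
          congr 1
          exact LinearMap.ext fun y => by simp [longF_apply, add_mul]; abel)) }
    have h1 := dvd_mul_card_of_stab (G := Multiplicative (K × F)) (d := 1) fun p : Y => by
      refine dvd_of_eq (Subgroup.card_eq_one.2 ((Subgroup.eq_bot_iff_forall _).2 fun c hc => ?_))
      obtain ⟨hm, hin, hout⟩ := (hY _).1 p.2
      have h2 := congrArg Subtype.val (MulAction.mem_stabilizer_iff.1 hc)
      have hW : p.1.2 ≠ S := fun e => hout (e ▸ hin)
      have hc1 := hfree _ hm hW (Multiplicative.toAdd c).1 (congrArg Prod.snd h2)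
      have h3 : (longF (Multiplicative.toAdd c).1 : GX) p.1.1 + (Multiplicative.toAdd c).2 • (e0 : X) = p.1.1 :=
        congrArg Prod.fst h2
      rw [hc1, show (longF (0 : K) : GX) p.1.1 = p.1.1 by simp [longF_apply], add_eq_left, smul_eq_zero] at h3
      exact Multiplicative.toAdd.injective (Prod.ext hc1 (h3.resolve_right e0_ne_zero))
    rwa [one_mul, Nat.card_congr Multiplicative.toAdd, Nat.card_prod, Nat.card_eq_fintype_card,
      Nat.card_eq_fintype_card, Nat.card_eq_fintype_card, Fintype.card_coe] at h1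
  have hYsum : Y.card = ∑ x ∈ P, (Mem.filter (x ∈ ·)).card := by
    rw [Finset.card_eq_sum_card_fiberwise (f := Prod.fst) (t := P) fun p hp =>
      (hP _).2 ⟨mem_together_e0.2 ⟨p.2, ((hY p).1 hp).1, ((hY p).1 hp).2.1⟩, ((hY p).1 hp).2.2⟩]
    refine Finset.sum_congr rfl fun x hx => ?_
    refine Finset.card_bij' (fun p _ => p.2) (fun W _ => (x, W)) ?_ ?_ ?_ ?_
    · intro p hp
      rw [Finset.mem_filter, hY] at hp
      rw [Finset.mem_filter, hMem]
      exact ⟨hp.1.1, hp.2 ▸ hp.1.2.1⟩
    · intro W hW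
      rw [Finset.mem_filter, hMem] at hW
      rw [Finset.mem_filter, hY]
      exact ⟨⟨hW.1, hW.2, ((hP x).1 hx).2⟩, rfl⟩
    · intro p hp
      rw [Finset.mem_filter] at hp
      exact Prod.ext hp.2.symm rfl
    · intro W _; rfl
  have hPcard : Q * Fintype.card F ∣ P.card := by
    have hqP : Fintype.card F ∣ ∑ x ∈ P, ((Mem.filter (x ∈ ·)).card - 1) / Q := by
      refine card_dvd_sum_of_invariant e0_ne_zero P (fun x hx a => ?_) _ fun x hx a => ?_
      · obtain ⟨hT, hS⟩ := (hP x).1 hx
        obtain ⟨W, hW, hxW⟩ := mem_together_e0.1 hT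
        refine (hP _).2 ⟨mem_together_e0.2 ⟨W, hW, Submodule.add_mem _ hxW (Submodule.smul_mem _ _ ?_)⟩,
          fun h => hS ?_⟩
        · obtain ⟨_, -, -, he⟩ := hW; exact he
        · simpa using Submodule.sub_mem _ h (Submodule.smul_mem _ a e0_mem)
      · congr 3
        refine Finset.filter_congr fun W hW => ?_
        obtain ⟨_, -, -, he⟩ := (hMem W).1 hW
        exact Submodule.add_mem_iff_left _ (Submodule.smul_mem _ _ he)
    obtain ⟨j, hj⟩ := hqP
    have h1 : Y.card = Q * (Fintype.card F * j) + P.card := by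
      rw [hYsum, ← hj, Finset.mul_sum, ← Finset.sum_const_nat (s := P) (m := 1) (f := fun _ => 1) (fun _ _ => rfl)
        |>.trans (mul_one _), ← Finset.sum_add_distrib]
      refine Finset.sum_congr rfl fun x hx => ?_
      obtain ⟨hd, h1⟩ := hlam x hx
      rw [Nat.mul_div_cancel' hd]
      omega
    rw [h1] at hYdvd
    exact (Nat.dvd_add_right ⟨j, by ring⟩).1 hYdvd
  -- the classes outside the line
  have hfix : ∀ {x : X} (e : X ≃ₗ[K] X), (∀ a b, bform β (e a) (e b) = bform β a b) → e e0 = e0 →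
      (e x ∈ together H e0 ↔ x ∈ together H e0) := by
    intro x e he hee
    have h := together_map_iff (g := (e.restrictScalars F : GX)) (u := e0) (x := x) (hH.klin_mem he)
    rwa [restrict_apply, restrict_apply, hee] at h
  have hbclass : ∀ a y b, b ≠ 0 → ((a, y, b) ∈ together H e0 ↔ ((0, 0, b) : X) ∈ together H e0) := by
    intro a y b hb
    rw [← hfix (x := (a, y, b)) (shortK β hβ.alt (-(b⁻¹) • y)) (shortK_isom hβ _) (by simp [shortK_apply, e0])]
    rw [← hfix (longK (-a / b)) (longK_isom _) (by simp [longK_apply, e0])]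
    simp [shortK_apply, longK_apply, hβ.alt, hb, smul_smul, div_mul_cancel₀]
  set J : Finset K := Finset.univ.filter fun b => b ≠ 0 ∧ ((0, 0, b) : X) ∈ together H e0
  have hJ : ∀ b, b ∈ J ↔ b ≠ 0 ∧ ((0, 0, b) : X) ∈ together H e0 := fun b => by simp [J]
  have htrace : ∀ x ∈ together H e0, Algebra.trace F K x.2.2 = 0 := by
    intro x hx
    obtain ⟨W, hW, hxW⟩ := mem_together_e0.1 hx
    obtain ⟨h, hh, hhv, rfl⟩ := hH.exists_fix_member hW
    obtain ⟨w, hw, rfl⟩ := Submodule.mem_map.1 hxW
    have h1 := hH.isom h hh e0 w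
    rw [hhv, fform_e0, fform_e0, (mem_lineX.1 hw).2, map_zero] at h1
    exact h1
  have hJtr : J.card + 1 ≤ Fintype.card K / Fintype.card F := by
    set Z : Finset K := Finset.univ.filter fun b => Algebra.trace F K b = 0
    have hsub : insert (0 : K) J ⊆ Z := by
      intro b hb
      rcases Finset.mem_insert.1 hb with rfl | hb
      · simp [Z]
      · exact Finset.mem_filter.2 ⟨Finset.mem_univ _, htrace _ ((hJ b).1 hb).2⟩
    have hcard := Finset.card_le_card hsub
    rw [Finset.card_insert_of_notMem fun h => ((hJ 0).1 h).1 rfl] at hcard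
    refine hcard.trans (le_of_eq ?_)
    have h1 : Z.card * Fintype.card F = Fintype.card K := by
      obtain ⟨t, ht⟩ := Algebra.trace_surjective F K 1
      rw [← Fintype.card_coe Z, ← Fintype.card_prod]
      exact Fintype.card_congr
        { toFun := fun p => (p.1 : K) + p.2 • t
          invFun := fun b => (⟨b - Algebra.trace F K b • t, by simp [Z, ht]⟩, Algebra.trace F K b)
          left_inv := fun p => by
            obtain ⟨⟨z, hz⟩, a⟩ := p
            simp only [Z, Finset.mem_filter, Finset.mem_univ, true_and] at hz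
            simp [hz, ht]
          right_inv := fun b => by simp }
    rw [← h1, Nat.mul_div_cancel _ Fintype.card_pos]
  have hJneg : ∀ b, -b ∈ J ↔ b ∈ J := by
    have key : ∀ b, b ∈ J → -b ∈ J := fun b hb => by
      obtain ⟨hb0, h, hh, he, hx⟩ := (hJ b).1 hb
      exact (hJ _).2 ⟨neg_ne_zero.2 hb0, h, hh, he, by simpa using Submodule.neg_mem _ hx⟩
    exact fun b => ⟨fun h => by simpa using key _ h, key b⟩
  set D := Fintype.card M
  have hQ2 : 2 ≤ Fintype.card F := Fintype.one_lt_card
  have hQpos : 0 < Q := Fintype.card_pos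
  have hqQ : Fintype.card F ∣ Q := by
    rw [show Q = Fintype.card F ^ finrank F K from Module.card_eq_pow_finrank]
    exact dvd_pow_self _ hr.ne_zero
  by_cases hperp : ∃ a y, y ≠ 0 ∧ ((a, y, 0) : X) ∈ together H e0
  · -- the orthogonal class lies in the union
    obtain ⟨a₀, y₀, hy₀, hin⟩ := hperp
    have hall : ∀ a y, y ≠ 0 → ((a, y, 0) : X) ∈ together H e0 := by
      intro a y hy
      obtain ⟨e, he, hey⟩ := exists_isom_map β hβ.alt hβ.nd hy₀ hy
      obtain ⟨z, hz⟩ : ∃ z, β z y = a - a₀ := by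
        obtain ⟨z₀, hz₀⟩ := hβ.nd y hy
        exact pairing_surjective (by rwa [hβ.skew, neg_ne_zero]) _
      have h1 := (hfix (midK e) (midK_isom e he) (by simp [midK_apply, e0])).2 hin
      have h2 := (hfix (shortK β hβ.alt z) (shortK_isom hβ z) (by simp [shortK_apply, e0])).2 h1
      simpa [midK_apply, shortK_apply, hey, hz] using h2
    have hcard : P.card = Q * (D - 1) + Q * D * J.card := by
      have e : P = ((Finset.univ : Finset K) ×ˢ ((Finset.univ.erase (0 : M)) ×ˢ ({0} : Finset K))) ∪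
          ((Finset.univ : Finset K) ×ˢ ((Finset.univ : Finset M) ×ˢ J)) := by
        ext ⟨a, y, b⟩
        simp only [hP, S, mem_lineX, Finset.mem_union, Finset.mem_product, Finset.mem_univ, true_and, Finset.mem_erase,
          Finset.mem_singleton, and_true, not_and]
        constructor
        · rintro ⟨hT, hS⟩
          by_cases hb : b = 0
          · exact Or.inl ⟨fun hy => hS hy hb, hb⟩
          · exact Or.inr ((hJ b).2 ⟨hb, (hbclass a y b hb).1 hT⟩)
        · rintro (⟨hy, rfl⟩ | hb)
          · exact ⟨hall a y hy, fun h => absurd h hy⟩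
          · exact ⟨(hbclass a y b ((hJ b).1 hb).1).2 ((hJ b).1 hb).2, fun _ => ((hJ b).1 hb).1⟩
      rw [e, Finset.card_union_of_disjoint, Finset.card_product, Finset.card_product, Finset.card_product,
        Finset.card_product, Finset.card_erase_of_mem (Finset.mem_univ _), Finset.card_univ, Finset.card_univ,
        Finset.card_singleton, mul_one, ← mul_assoc]
      rw [Finset.disjoint_left]
      rintro ⟨a, y, b⟩ h1 h2
      simp only [Finset.mem_product, Finset.mem_singleton, Finset.mem_univ, true_and] at h1 h2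
      exact ((hJ b).1 h2).1 h1.2
    rw [hcard, mul_assoc, ← mul_add] at hPcard
    have h1 := (Nat.mul_dvd_mul_iff_left hQpos).1 hPcard
    have hqD : Fintype.card F ∣ D := by
      have : Module.Finite F M := Module.Finite.of_finite
      rw [show D = Fintype.card F ^ finrank F M from Module.card_eq_pow_finrank]
      refine dvd_pow_self _ fun e => hy₀ ?_
      have : Subsingleton M := Module.finrank_zero_iff.1 e
      exact Subsingleton.elim _ _
    have h2 : Fintype.card F ∣ D - 1 := (Nat.dvd_add_left (hqD.mul_right _)).1 h1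
    have h3 : 1 ≤ D := Fintype.card_pos
    have h4 : Fintype.card F ∣ D - (D - 1) := Nat.dvd_sub hqD h2
    rw [show D - (D - 1) = 1 by omega] at h4
    have := Nat.le_of_dvd one_pos h4
    omega
  push Not at hperp
  have hPeq : P = (Finset.univ : Finset K) ×ˢ ((Finset.univ : Finset M) ×ˢ J) := by
    ext ⟨a, y, b⟩
    simp only [hP, S, mem_lineX, Finset.mem_product, Finset.mem_univ, true_and, not_and]
    constructor
    · rintro ⟨hT, hS⟩
      by_cases hb : b = 0
      · subst hb
        by_cases hy : y = 0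
        · exact absurd rfl (hS hy)
        · exact absurd hT (hperp a y hy)
      · exact (hJ b).2 ⟨hb, (hbclass a y b hb).1 hT⟩
    · exact fun hb => ⟨(hbclass a y b ((hJ b).1 hb).1).2 ((hJ b).1 hb).2, fun _ => ((hJ b).1 hb).1⟩
  -- a moved vector
  obtain ⟨k, c₀, hc₀, hk⟩ : ∃ (k : Kˣ) (c₀ : K), c₀ ∈ J ∧ ∃ g ∈ H, g e0 = e0 ∧
      g ((k : K) • e0) = ((0, 0, c₀) : X) := by
    obtain ⟨g, hg, hgn⟩ := hH.ne
    obtain ⟨x, k, hxk⟩ : ∃ (x : X) (k : K), ∀ k' : K, g (k • x) ≠ k' • g x := by
      by_contra hno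
      push Not at hno
      exact hgn (semiS_of_lines hno)
    have hx : x ≠ 0 := fun e => hxk 0 (by subst e; simp)
    have hk0 : k ≠ 0 := fun e => hxk 0 (by subst e; simp)
    obtain ⟨n₁, hn₁, e₁⟩ := hH.exists_trans hβ (e0_ne_zero (K := K) (M := M)) hx
    obtain ⟨n₂, hn₂, e₂⟩ := hH.exists_trans hβ (fun e => hx (g.injective (e.trans (map_zero g).symm)))
      (e0_ne_zero (K := K) (M := M))
    set h := (n₂.restrictScalars F : GX) * g * (n₁.restrictScalars F : GX)
    have hh : h ∈ H := mul_mem (mul_mem hn₂ hg) hn₁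
    have hhv : h e0 = e0 := by show n₂ (g (n₁ e0)) = e0; rw [e₁, e₂]
    have hmem : h (k • e0) ∈ together H e0 := by
      have h1 := together_map hh (u := (e0 : X)) (x := k • (e0 : X))
        ⟨1, one_mem H, ⟨e0, e0_mem, rfl⟩, ⟨k • e0, mem_lineX.2 ⟨by simp [e0], by simp [e0]⟩, rfl⟩⟩
      rwa [hhv] at h1
    have hout : h (k • e0) ∉ S := by
      intro hS
      obtain ⟨h1, h2⟩ := mem_lineX.1 hS
      apply hxk (h (k • e0)).1
      have h3 : n₂ (g (k • x)) = h (k • e0) := by
        show n₂ (g (k • x)) = n₂ (g (n₁ (k • e0)))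
        rw [n₁.map_smul, e₁]
      have h4 : h (k • e0) = (h (k • e0)).1 • (e0 : X) :=
        (Prod.ext rfl (Prod.ext h1 h2) : h (k • e0) = ((h (k • e0)).1, (0 : M), (0 : K))).trans (smul_e0 _).symm
      apply n₂.injective
      rw [h3, n₂.map_smul, e₂]
      exact h4
    rcases hxy : h (k • e0) with ⟨a, y, b⟩
    have hb : b ≠ 0 := by
      intro hb
      subst hb
      by_cases hy : y = 0
      · exact hout (hxy ▸ mem_lineX.2 ⟨hy, rfl⟩)
      · exact hperp a y hy (hxy ▸ hmem)
    refine ⟨Units.mk0 k hk0, b, (hJ b).2 ⟨hb, (hbclass a y b hb).1 (hxy ▸ hmem)⟩, ?_⟩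
    set s : GX := ((longK (-a / b) : X ≃ₗ[K] X).restrictScalars F : GX) *
      ((shortK β hβ.alt (-(b⁻¹) • y) : X ≃ₗ[K] X).restrictScalars F : GX)
    have hsv : s e0 = e0 := by simp [s, longK_apply, shortK_apply, e0]
    refine ⟨s * h, mul_mem (mul_mem (hH.klin_mem (longK_isom _)) (hH.klin_mem (shortK_isom hβ _))) hh, ?_, ?_⟩
    · rw [LinearEquiv.mul_apply, hhv, hsv]
    · rw [LinearEquiv.mul_apply, Units.val_mk0, hxy]
      simp [s, longK_apply, shortK_apply, hβ.alt, hb, smul_smul, div_mul_cancel₀]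
  obtain ⟨g, hg, hgv, hgk⟩ := hk
  have hc00 : c₀ ≠ 0 := ((hJ c₀).1 hc₀).1
  -- both sides of the triangle
  set TS : Finset X := Finset.univ.filter fun z => z ∈ together H e0 ∧ z ∈ together H ((k : K) • e0)
  set TX : Finset X := Finset.univ.filter fun z => z ∈ together H e0 ∧ z ∈ together H ((0, 0, c₀) : X)
  have hTT : TS.card = TX.card := by
    refine Finset.card_bij' (fun z _ => g z) (fun z _ => g.symm z) ?_ ?_ ?_ ?_
    · intro z hz
      simp only [TS, TX, Finset.mem_filter, Finset.mem_univ, true_and] at hz ⊢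
      exact ⟨hgv ▸ together_map hg hz.1, hgk ▸ together_map hg hz.2⟩
    · intro z hz
      simp only [TS, TX, Finset.mem_filter, Finset.mem_univ, true_and] at hz ⊢
      rw [← together_map_iff (u := e0) hg, ← together_map_iff (u := (k : K) • e0) hg, hgv, hgk,
        LinearEquiv.apply_symm_apply]
      exact hz
    · intro z _; exact g.symm_apply_apply z
    · intro z _; exact g.apply_symm_apply z
  have hmem : ∀ z : X, z ∈ together H e0 ↔ (z.2.1 = 0 ∧ z.2.2 = 0) ∨ z.2.2 ∈ J := by
    rintro ⟨a, y, b⟩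
    constructor
    · intro h
      by_cases hS : ((a, y, b) : X) ∈ S
      · exact Or.inl (mem_lineX.1 hS)
      · have := (hP _).2 ⟨h, hS⟩
        rw [hPeq] at this
        simp only [Finset.mem_product, Finset.mem_univ, true_and] at this
        exact Or.inr this
    · rintro (h | h)
      · exact ⟨1, one_mem H, ⟨e0, e0_mem, rfl⟩, ⟨_, mem_lineX.2 h, rfl⟩⟩
      · exact (hbclass a y b ((hJ b).1 h).1).2 ((hJ b).1 h).2
  have hTS : Q ∣ TS.card := by
    set t : X ≃ₗ[K] X := torK k
    have ht : ∀ z, z ∈ together H ((k : K) • e0) ↔ t.symm z ∈ together H e0 := fun z => by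
      have h := together_map_iff (g := (t.restrictScalars F : GX)) (u := e0) (x := t.symm z) (hH.klin_mem (torK_isom k))
      rw [restrict_apply, restrict_apply, LinearEquiv.apply_symm_apply,
        show t e0 = (k : K) • (e0 : X) by simp [t, torK_apply, e0]] at h
      exact h
    set J' := J.filter fun b => (k : K) * b ∈ J
    have e : TS = ((Finset.univ : Finset K) ×ˢ (({0} : Finset M) ×ˢ ({0} : Finset K))) ∪
        ((Finset.univ : Finset K) ×ˢ ((Finset.univ : Finset M) ×ˢ J')) := by
      ext ⟨a, y, b⟩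
      simp only [TS, Finset.mem_filter, Finset.mem_univ, true_and, ht, hmem, t, torK, Finset.mem_union,
        Finset.mem_product, Finset.mem_singleton, J']
      constructor
      · rintro ⟨(⟨hy, hb⟩ | hb), h2⟩
        · exact Or.inl ⟨hy, hb⟩
        · rcases h2 with ⟨-, h2⟩ | h2
          · exact absurd (by simpa [k.ne_zero] using h2) ((hJ b).1 hb).1
          · exact Or.inr ⟨hb, h2⟩
      · rintro (⟨rfl, rfl⟩ | ⟨h1, h2⟩)
        · exact ⟨Or.inl ⟨rfl, rfl⟩, Or.inl ⟨rfl, by simp⟩⟩
        · exact ⟨Or.inr h1, Or.inr h2⟩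
    rw [e, Finset.card_union_of_disjoint]
    · refine Nat.dvd_add ?_ ?_ <;> rw [Finset.card_product, Finset.card_univ] <;> exact dvd_mul_right _ _
    · rw [Finset.disjoint_left]
      rintro ⟨a, y, b⟩ h1 h2
      simp only [Finset.mem_product, Finset.mem_singleton, Finset.mem_univ, true_and] at h1 h2
      exact ((hJ b).1 (Finset.mem_filter.1 h2).1).1 h1.2
  have hTX : TX.card = J.card * J.card * D + J.card + J.card + 1 := by
    set u : X ≃ₗ[K] X := (turnK : X ≃ₗ[K] X).trans (torK (Units.mk0 (-c₀)⁻¹ (inv_ne_zero (neg_ne_zero.2 hc00))))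
    have hue : u e0 = ((0, 0, c₀) : X) := by simp [u, turnK_apply, torK_apply, e0]
    have hu : ∀ z, z ∈ together H ((0, 0, c₀) : X) ↔ u.symm z ∈ together H e0 := fun z => by
      have h := together_map_iff (g := (u.restrictScalars F : GX)) (u := e0) (x := u.symm z)
        (hH.klin_mem fun a b => by simp only [u, LinearEquiv.trans_apply, torK_isom, turnK_isom])
      rw [restrict_apply, restrict_apply, LinearEquiv.apply_symm_apply, hue] at h
      exact h
    set Ja := J.image fun b => b / c₀
    have hJa : ∀ a, a ∈ Ja ↔ c₀ * a ∈ J := fun a => by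
      simp only [Ja, Finset.mem_image]
      exact ⟨fun ⟨b, hb, e⟩ => by rw [← e]; rwa [mul_div_cancel₀ _ hc00],
        fun h => ⟨_, h, by rw [mul_div_cancel_left₀ _ hc00]⟩⟩
    have hJac : Ja.card = J.card := Finset.card_image_of_injective _ fun a b h => by
      simpa [hc00] using h
    have e : TX = (Ja ×ˢ ((Finset.univ : Finset M) ×ˢ J)) ∪ (Ja ×ˢ (({0} : Finset M) ×ˢ ({0} : Finset K))) ∪
        (({0} : Finset K) ×ˢ (({0} : Finset M) ×ˢ J)) ∪ {(0 : X)} := by
      ext ⟨a, y, b⟩
      simp only [TX, Finset.mem_filter, Finset.mem_univ, true_and, hu, hmem, Finset.mem_union, Finset.mem_product,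
        Finset.mem_singleton, hJa, Prod.mk_eq_zero]
      have e1 : (u.symm (a, y, b)).2.1 = y := by simp [u, turnK, torK]
      have e2 : (u.symm (a, y, b)).2.2 = -c₀ * a ∨ (u.symm (a, y, b)).2.2 = c₀ * a := by
        first
          | (left; simp [u, turnK, torK]; done)
          | (right; simp [u, turnK, torK]; done)
      have e2' : ((u.symm (a, y, b)).2.2 ∈ J ↔ c₀ * a ∈ J) ∧ ((u.symm (a, y, b)).2.2 = 0 ↔ a = 0) := by
        rcases e2 with h | h <;> rw [h]
        · exact ⟨by rw [neg_mul, hJneg], by simp [hc00]⟩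
        · exact ⟨Iff.rfl, by simp [hc00]⟩
      rw [e1, e2'.1, e2'.2]
      constructor
      · rintro ⟨(⟨hy, hb⟩ | hb), (⟨hy', ha⟩ | ha)⟩
        · exact Or.inr ⟨ha, hy, hb⟩
        · exact Or.inl (Or.inl (Or.inr ⟨ha, hy, hb⟩))
        · exact Or.inl (Or.inr ⟨ha, hy', hb⟩)
        · exact Or.inl (Or.inl (Or.inl ⟨ha, hb⟩))
      · rintro (((⟨ha, hb⟩ | ⟨ha, hy, hb⟩) | ⟨ha, hy, hb⟩) | ⟨ha, hy, hb⟩)
        · exact ⟨Or.inr hb, Or.inr ha⟩
        · exact ⟨Or.inl ⟨hy, hb⟩, Or.inr ha⟩
        · exact ⟨Or.inr hb, Or.inl ⟨hy, ha⟩⟩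
        · exact ⟨Or.inl ⟨hy, hb⟩, Or.inl ⟨hy, ha⟩⟩
    have hJ0 : (0 : K) ∉ J := fun h => ((hJ 0).1 h).1 rfl
    have hJa0 : (0 : K) ∉ Ja := fun h => hJ0 (by simpa using (hJa 0).1 h)
    rw [e, Finset.card_union_of_disjoint, Finset.card_union_of_disjoint, Finset.card_union_of_disjoint]
    · simp only [Finset.card_product, Finset.card_univ, Finset.card_singleton, hJac]
      ring
    all_goals
      rw [Finset.disjoint_left]
      rintro ⟨a, y, b⟩ h1 h2
      simp only [Finset.mem_union, Finset.mem_product, Finset.mem_singleton, Finset.mem_univ, true_and,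
        Prod.mk_eq_zero] at h1 h2
      grind
  rw [hTT, hTX] at hTS
  have hjbound : 2 * J.card + 1 < Q := by
    have h1 := Nat.div_mul_le_self (Fintype.card K) (Fintype.card F)
    have h2 : (J.card + 1) * Fintype.card F ≤ Q := le_trans (Nat.mul_le_mul_right _ hJtr) h1
    nlinarith
  rcases subsingleton_or_nontrivial M with hM | hM
  · have hD : D = 1 := Fintype.card_eq_one_iff.2 ⟨0, fun y => Subsingleton.elim _ _⟩
    have hPc : P.card = Q * J.card := by
      rw [hPeq, Finset.card_product, Finset.card_product, Finset.card_univ, Finset.card_univ,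
        show Fintype.card M = 1 from hD, one_mul]
    rw [hPc] at hPcard
    have hqj : Fintype.card F ∣ J.card := (Nat.mul_dvd_mul_iff_left hQpos).1 hPcard
    rw [hD, mul_one] at hTS
    have h1 := hqQ.trans hTS
    rw [add_assoc, add_assoc] at h1
    have h2 := (Nat.dvd_add_right (hqj.mul_left _)).1 h1
    rw [← add_assoc] at h2
    have h3 := (Nat.dvd_add_right (hqj.add hqj)).1 h2
    have := Nat.le_of_dvd one_pos h3
    omega
  · have hQD : Q ∣ D := by
      rw [show D = Q ^ finrank K M from Module.card_eq_pow_finrank]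
      exact dvd_pow_self _ fun e => by
        have : Subsingleton M := Module.finrank_zero_iff.1 e
        exact not_subsingleton M this
    rw [add_assoc, add_assoc] at hTS
    have h1 := (Nat.dvd_add_right (hQD.mul_left _)).1 hTS
    have h2 := Nat.le_of_dvd (by omega) h1
    omega

end CfsgLib.FieldMax.Symp
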