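import Cfsg.Agent.Aschbacher.FieldMax.SympCount
import Cfsg.Agent.Aschbacher.FieldMax.Main

/-!
A translation fixing another image of the line forces a map that is not linear over the larger field.
-/

set_option autoImplicit false
set_option linter.unusedSectionVars false

namespace CfsgLib.FieldMax.Symp

open Module

variable {F : Type*} [Field F] [Finite F] {K : Type*} [Field K] [Algebra F K] [Finite K]
  {M : Type*} [AddCommGroup M] [Module K M] [Module F M] [IsScalarTower F K M] [Finite M]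
  {β : M →ₗ[K] M →ₗ[K] K}

local notation "X" => (K × M × K)
local notation "GX" => ((K × M × K) ≃ₗ[F] (K × M × K))

variable {H : Subgroup ((K × M × K) ≃ₗ[F] (K × M × K))}

/-- The only long root maps and middle maps are linear over the larger field. -/
def AllLinS (H : Subgroup GX) : Prop :=
  (∀ g ∈ zSet H, ∃ c : K, g = LinearMap.mulLeft F c) ∧
    ∀ Φ ∈ mSet H, ∀ k t : K, Φ (k * t) = k • Φ t

/-- The coordinates of an element fixing the line. -/
def alphaOf (b : GX) : K →ₗ[F] K :=
  ((LinearMap.fst F K (M × K)).comp (b : X →ₗ[F] X)).comp (LinearMap.inl F K (M × K))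

/-- The middle block of an element fixing the line. -/
def middleOf (b : GX) : M →ₗ[F] M :=
  (((LinearMap.fst F M K).comp (LinearMap.snd F K (M × K))).comp (b : X →ₗ[F] X)).comp
    ((LinearMap.inr F K (M × K)).comp (LinearMap.inl F M K))

/-- The last block of an element fixing the line. -/
def gammaOf (b : GX) : K →ₗ[F] K :=
  (((LinearMap.snd F M K).comp (LinearMap.snd F K (M × K))).comp (b : X →ₗ[F] X)).comp
    ((LinearMap.inr F K (M × K)).comp (LinearMap.inr F M K))

theorem fix_apply_line {b : GX} (hb : (lineX : Submodule F X).map (b : X →ₗ[F] X) = lineX) (a : K) :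
    b (a, 0, 0) = ((alphaOf b a, 0, 0) : X) := by
  have h : b (a, 0, 0) ∈ (lineX : Submodule F X) := by
    rw [← hb]; exact ⟨((a, 0, 0) : X), mem_lineX.2 ⟨rfl, rfl⟩, rfl⟩
  obtain ⟨h1, h2⟩ := mem_lineX.1 h
  exact Prod.ext rfl (Prod.ext h1 h2)

theorem SOver.fix_perp (hH : SOver β H) {b : GX} (hbH : b ∈ H)
    (hb : (lineX : Submodule F X).map (b : X →ₗ[F] X) = lineX) {x : X} (hx : x.2.2 = 0) : (b x).2.2 = 0 := by
  refine eq_zero_of_trace (F := F) fun y => ?_
  obtain ⟨s, hs, hse⟩ : ((y, 0, 0) : X) ∈ (lineX : Submodule F X).map (b : X →ₗ[F] X) := by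
    rw [hb]; exact mem_lineX.2 ⟨rfl, rfl⟩
  change b s = _ at hse
  have h1 := hH.isom b hbH s x
  rw [hse] at h1
  obtain ⟨h2, h3⟩ := mem_lineX.1 hs
  simp [fform, bform_apply, h2, h3, hx] at h1
  rw [mul_comm]; exact h1

theorem SOver.fix_decomp (hH : SOver β H) {b : GX} (hbH : b ∈ H)
    (hb : (lineX : Submodule F X).map (b : X →ₗ[F] X) = lineX) (x : X) :
    (b x).2.2 = gammaOf b x.2.2 ∧ (x.2.2 = 0 → (b x).2.1 = middleOf b x.2.1) := by
  have hsplit : b x = ((alphaOf b x.1, 0, 0) : X) + b (0, x.2.1, 0) + b (0, 0, x.2.2) := by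
    rw [← fix_apply_line hb, ← map_add, ← map_add]
    congr 1
    simp
  constructor
  · rw [hsplit]
    simp only [Prod.snd_add]
    rw [hH.fix_perp hbH hb (x := (0, x.2.1, 0)) rfl]
    simp [gammaOf]
  · intro h0
    rw [hsplit, h0, show ((0, 0, 0) : X) = 0 from rfl, map_zero, add_zero]
    simp [middleOf]

theorem SOver.isAdj_alpha (hH : SOver β H) {b : GX} (hbH : b ∈ H)
    (hb : (lineX : Submodule F X).map (b : X →ₗ[F] X) = lineX) : IsAdj (alphaOf b) (gammaOf b⁻¹) := by
  intro a y
  have h1 := hH.isom b hbH ((a, 0, 0) : X) (b⁻¹ ((0, 0, y) : X))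
  rw [fix_apply_line hb, show b (b⁻¹ ((0, 0, y) : X)) = ((0, 0, y) : X) from b.apply_symm_apply _] at h1
  have hbi : (lineX : Submodule F X).map ((b⁻¹ : GX) : X →ₗ[F] X) = lineX := by
    conv_lhs => rw [← hb, ← Submodule.map_comp]
    convert Submodule.map_id (lineX : Submodule F X)
    exact LinearMap.ext fun z => b.symm_apply_apply z
  have h2 := (hH.fix_decomp (inv_mem hbH) hbi ((0, 0, y) : X)).1
  simp only [fform, bform_apply, h2] at h1
  simpa using h1

theorem map_lineX_inv {b : GX} (hb : (lineX : Submodule F X).map (b : X →ₗ[F] X) = lineX) :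
    (lineX : Submodule F X).map ((b⁻¹ : GX) : X →ₗ[F] X) = lineX := by
  conv_lhs => rw [← hb, ← Submodule.map_comp]
  convert Submodule.map_id (lineX : Submodule F X)
  exact LinearMap.ext fun z => b.symm_apply_apply z

theorem SOver.conj_long (hH : SOver β H) {b : GX} (hbH : b ∈ H)
    (hb : (lineX : Submodule F X).map (b : X →ₗ[F] X) = lineX) {g : K →ₗ[F] K} (hg : g ∈ zSet H) :
    ((alphaOf b).comp g).comp (gammaOf b⁻¹) ∈ zSet H := by
  obtain ⟨n, hn, hne⟩ := hg
  refine ⟨b * n * b⁻¹, mul_mem (mul_mem hbH hn) (inv_mem hbH), fun x => ?_⟩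
  show b (n (b.symm x)) = _
  have h1 : n (b.symm x) = b.symm x + ((g (gammaOf b⁻¹ x.2.2), 0, 0) : X) := by
    rw [hne, ← (hH.fix_decomp (inv_mem hbH) (map_lineX_inv hb) x).1]
    show _ = b.symm x + _
    exact Prod.ext rfl (Prod.ext (add_zero _).symm (add_zero _).symm)
  rw [h1, map_add, b.apply_symm_apply, fix_apply_line hb]
  exact Prod.ext rfl (Prod.ext (add_zero _) (add_zero _))

theorem SOver.conj_short (hH : SOver β H) (hβ : MidForm β) {b : GX} (hbH : b ∈ H)
    (hb : (lineX : Submodule F X).map (b : X →ₗ[F] X) = lineX) (z : M) :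
    (middleOf b).comp (((LinearMap.id : K →ₗ[K] K).smulRight z).restrictScalars F ∘ₗ gammaOf b⁻¹) ∈ mSet H := by
  set u : GX := (shortK β hβ.alt z : X ≃ₗ[K] X).restrictScalars F
  have hbi := map_lineX_inv hb
  let Ψ : M × K →ₗ[F] K :=
    ((LinearMap.fst F K (M × K)).comp (b : X →ₗ[F] X)).comp
      ((((β z).restrictScalars F).comp
          (((LinearMap.fst F M K).comp (LinearMap.snd F K (M × K))).comp
            (((b⁻¹ : GX) : X →ₗ[F] X).comp (LinearMap.inr F K (M × K))))).prod
        (((((LinearMap.id : K →ₗ[K] K).smulRight z).restrictScalars F).comp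
          ((gammaOf b⁻¹).comp (LinearMap.snd F M K))).prod 0))
  refine ⟨b * u * b⁻¹, mul_mem (mul_mem hbH (hH.klin_mem (shortK_isom hβ z))) (inv_mem hbH), Ψ, fun x => ?_⟩
  show b (u (b.symm x)) = _
  have hmid : (b.symm x).2.1 = (b.symm ((0, x.2.1, x.2.2) : X)).2.1 := by
    have hsplit : x = ((x.1, 0, 0) : X) + ((0, x.2.1, x.2.2) : X) := by simp [Prod.ext_iff]
    conv_lhs => rw [hsplit, map_add]
    rw [show b.symm ((x.1, 0, 0) : X) = b⁻¹ ((x.1, 0, 0) : X) from rfl, fix_apply_line hbi]
    simp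
  have hlast : (b.symm x).2.2 = gammaOf b⁻¹ x.2.2 := (hH.fix_decomp (inv_mem hbH) hbi x).1
  set d : X := ((β z (b.symm x).2.1, (b.symm x).2.2 • z, 0) : X) with hd
  have h1 : u (b.symm x) = b.symm x + d := by
    rw [restrict_apply, shortK_apply, hd]
    exact Prod.ext rfl (Prod.ext rfl (add_zero _).symm)
  rw [h1, map_add, b.apply_symm_apply]
  refine Prod.ext ?_ (Prod.ext ?_ ?_)
  · show x.1 + (b d).1 = x.1 + _
    congr 1
    simp [Ψ, d, hmid, hlast]
  · show x.2.1 + (b d).2.1 = x.2.1 + _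
    congr 1
    rw [(hH.fix_decomp hbH hb d).2 rfl]
    simp [d, hlast]
  · show x.2.2 + (b d).2.2 = x.2.2
    rw [hH.fix_perp hbH hb (x := d) rfl, add_zero]

/-- The element coming from a translation fixing another image of the line. -/
theorem SOver.fix_element (hH : SOver β H) {W : Submodule F X} (hW : W ∈ sMembers H) (hne : W ≠ lineX) {c : K}
    (hc : c ≠ 0) (hfix : W.map ((longF c : GX) : X →ₗ[F] X) = W) :
    ∃ b ∈ H, (lineX : Submodule F X).map (b : X →ₗ[F] X) = lineX ∧ (∀ x, b (b x) + x = b x + b x) ∧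
      finrank F (LinearMap.range ((b : X →ₗ[F] X) - 1)) = finrank F K ∧
      (∃ x, b x - x = e0) ∧ ¬ ∀ x, b x - x ∈ (lineX : Submodule F X) := by
  obtain ⟨h, hh, hhv, hWe⟩ := hH.exists_fix_member hW
  set u : GX := longF c
  set b : GX := h⁻¹ * u * h
  have hu : ∀ x, u x = x + ((c * x.2.2, 0, 0) : X) := fun x => by
    rw [longF_apply]; exact Prod.ext rfl (Prod.ext (add_zero _).symm (add_zero _).symm)
  have hb : ∀ x, b x = x + h.symm ((c * (h x).2.2, 0, 0) : X) := fun x => by
    show h.symm (u (h x)) = _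
    rw [hu, map_add, h.symm_apply_apply]
  have hrange : LinearMap.range ((b : X →ₗ[F] X) - 1) =
      (lineX : Submodule F X).map ((h⁻¹ : GX) : X →ₗ[F] X) := by
    apply le_antisymm
    · rintro _ ⟨x, rfl⟩
      exact ⟨((c * (h x).2.2, 0, 0) : X), mem_lineX.2 ⟨rfl, rfl⟩, by
        show h.symm _ = b x - x; rw [hb, add_sub_cancel_left]⟩
    · rintro _ ⟨s, hs, rfl⟩
      refine ⟨h.symm ((0, 0, s.1 / c) : X), ?_⟩
      show b _ - _ = h.symm s
      rw [Module.End.one_apply, hb, add_sub_cancel_left, h.apply_symm_apply]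
      congr 1
      obtain ⟨h1, h2⟩ := mem_lineX.1 hs
      exact Prod.ext (mul_div_cancel₀ _ hc) (Prod.ext h1.symm h2.symm)
  refine ⟨b, mul_mem (mul_mem (inv_mem hh) (hH.klin_mem (longK_isom c))) hh, ?_, fun x => ?_, ?_, ?_, fun hall => ?_⟩
  · refine Submodule.eq_of_le_of_finrank_le ?_ (by rw [LinearEquiv.finrank_map_eq])
    rintro _ ⟨x, hx, rfl⟩
    show h.symm (u (h x)) ∈ _
    have h1 : u (h x) ∈ W := by rw [← hfix]; exact ⟨h x, hWe ▸ ⟨x, hx, rfl⟩, rfl⟩
    rw [← hWe] at h1
    obtain ⟨s, hs, hse⟩ := h1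
    rw [← hse]
    simpa using hs
  · rw [hb (b x), hb x, map_add h, h.apply_symm_apply]
    simp
    abel
  · rw [hrange, LinearEquiv.finrank_map_eq, finrank_lineX]
  · have h1 : (e0 : X) ∈ LinearMap.range ((b : X →ₗ[F] X) - 1) := by
      rw [hrange]
      exact ⟨e0, e0_mem, by show h.symm e0 = e0; rw [LinearEquiv.symm_apply_eq, hhv]⟩
    obtain ⟨x, hx⟩ := h1
    exact ⟨x, hx⟩
  · apply hne
    have h1 : (lineX : Submodule F X).map ((h⁻¹ : GX) : X →ₗ[F] X) = lineX := by
      refine Submodule.eq_of_le_of_finrank_le ?_ (by rw [LinearEquiv.finrank_map_eq])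
      rw [← hrange]
      rintro _ ⟨x, rfl⟩
      exact hall x
    rw [← hWe]
    simpa using map_lineX_inv h1

theorem finrank_middle_lt {b : GX}
    (hr : finrank F (LinearMap.range ((b : X →ₗ[F] X) - 1)) = finrank F K) (hx : ∃ x, b x - x = e0) :
    finrank F (LinearMap.range (((LinearMap.fst F M K).comp (LinearMap.snd F K (M × K))).comp
      ((b : X →ₗ[F] X) - 1))) < finrank F K := by
  have : Module.Finite F X := Module.Finite.of_finite
  obtain ⟨x, hx⟩ := hx
  set π := ((LinearMap.fst F M K).comp (LinearMap.snd F K (M × K)))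
  set L := LinearMap.range ((b : X →ₗ[F] X) - 1)
  rw [LinearMap.range_comp]
  have h1 := LinearMap.finrank_range_add_finrank_ker (π.comp L.subtype)
  have h2 : 0 < finrank F (LinearMap.ker (π.comp L.subtype)) := by
    have : (⟨e0, x, hx⟩ : L) ∈ LinearMap.ker (π.comp L.subtype) := by simp [π, e0]
    refine Submodule.one_le_finrank_iff.2 fun e => ?_
    rw [e, Submodule.mem_bot] at this
    exact e0_ne_zero (congrArg Subtype.val this)
  rw [LinearMap.range_comp, Submodule.range_subtype] at h1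
  show finrank F (L.map π) < _
  omega

theorem eq_zero_of_klinear_range {N : Type*} [AddCommGroup N] [Module F N] [Module K N] [IsScalarTower F K N]
    {P : Submodule F M} (hP : finrank F P < finrank F K) (f : N →ₗ[F] M) (hf : ∀ (k : K) y, f (k • y) = k • f y)
    (hle : ∀ y, f y ∈ P) (y : N) : f y = 0 := by
  by_contra hy
  have hinj : Function.Injective ((LinearMap.toSpanSingleton K M (f y)).restrictScalars F) := fun a b h =>
    smul_left_injective K hy h
  have h1 := LinearMap.finrank_range_of_inj hinj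
  have : Module.Finite F M := Module.Finite.of_finite
  have h2 : LinearMap.range ((LinearMap.toSpanSingleton K M (f y)).restrictScalars F) ≤ P := by
    rintro _ ⟨k, rfl⟩
    show k • f y ∈ P
    rw [← hf]
    exact hle _
  have := Submodule.finrank_mono h2
  omega

/-- With only linear maps the translations act freely. -/
theorem SOver.free_of_allLin (hH : SOver β H) (hβ : MidForm β) (hr : (finrank F K).Prime)
    (hbig : Nontrivial M ∨ finrank F K ≠ 2) (hlin : AllLinS H) : SFree H := by
  intro W hW hne c hfix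
  by_contra hc
  obtain ⟨b, hbH, hbS, hbq, hrk, hx0, hout⟩ := hH.fix_element hW hne hc hfix
  have : Module.Finite F M := Module.Finite.of_finite
  set α := alphaOf b
  set γ := gammaOf b
  set γ' := gammaOf b⁻¹
  have hbi := map_lineX_inv hbS
  have hγγ : ∀ d, γ' (γ d) = d := fun d => by
    have h1 := (hH.fix_decomp hbH hbS ((0, 0, d) : X)).1
    have h2 := (hH.fix_decomp (inv_mem hbH) hbi (b ((0, 0, d) : X))).1
    rw [show b⁻¹ (b ((0, 0, d) : X)) = ((0, 0, d) : X) from b.symm_apply_apply _, h1] at h2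
    exact h2.symm
  have hαi : Function.Injective α := fun a a' h => by
    have h1 : b ((a, 0, 0) : X) = b ((a', 0, 0) : X) := by rw [fix_apply_line hbS, fix_apply_line hbS, h]
    exact congrArg Prod.fst (b.injective h1)
  have hd : ∀ k, ∃ d : K, ∀ z, α (k * z) = d * γ z := fun k => by
    obtain ⟨d, hd⟩ := hlin.1 _ (hH.conj_long (g := LinearMap.mulLeft F k) hbH hbS ⟨_, hH.klin_mem (longK_isom k), fun x => rfl⟩)
    refine ⟨d, fun z => ?_⟩
    have h1 := LinearMap.congr_fun hd (γ z)
    simp only [LinearMap.comp_apply, LinearMap.mulLeft_apply] at h1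
    rwa [hγγ] at h1
  obtain ⟨d1, hd1⟩ := hd 1
  simp only [one_mul] at hd1
  have hd10 : d1 ≠ 0 := fun e => one_ne_zero (hαi (by rw [hd1, e, zero_mul, map_zero]))
  obtain ⟨σ, hσ⟩ := exists_semi_scalar α hαi fun k => by
    obtain ⟨d, hd⟩ := hd k
    exact ⟨d / d1, fun z => by rw [hd, hd1, ← mul_assoc, div_mul_cancel₀ d hd10]⟩
  have hγσ : ∀ k z, γ (k * z) = σ k * γ z := fun k z => mul_left_cancel₀ hd10 (by
    rw [← hd1, hσ, hd1, mul_left_comm])
  have hαq : ∀ a, α (α a) + a = α a + α a := fun a => by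
    have h1 := congrArg Prod.fst (hbq ((a, 0, 0) : X))
    rw [fix_apply_line hbS, fix_apply_line hbS] at h1
    exact h1
  set m := middleOf b
  have hm : ∀ (k : K) (y : M), m (k • y) = σ k • m y := by
    have hγ'1 : γ' 1 ≠ 0 := by
      intro e
      obtain ⟨z, hz⟩ := (Finite.injective_iff_surjective.1 (Function.LeftInverse.injective hγγ)) 1
      rw [← hz, hγγ] at e
      rw [e, map_zero] at hz
      exact zero_ne_one hz
    intro k y
    have h1 := hlin.2 _ (hH.conj_short hβ hbH hbS ((γ' 1)⁻¹ • y)) (σ k) 1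
    have h2 : γ' (σ k) = k * γ' 1 := by
      have h3 : γ (k * γ' 1) = σ k * γ (γ' 1) := hγσ k _
      have h4 : γ (γ' 1) = 1 := by
        obtain ⟨z, hz⟩ := (Finite.injective_iff_surjective.1 (Function.LeftInverse.injective hγγ)) 1
        rw [← hz, hγγ]
      rw [h4, mul_one] at h3
      rw [← h3, hγγ]
    simp only [mul_one, LinearMap.comp_apply, LinearMap.restrictScalars_apply, LinearMap.smulRight_apply,
      LinearMap.id_apply, γ'] at h1
    change m (γ' (σ k) • (γ' 1)⁻¹ • y) = σ k • m (γ' 1 • (γ' 1)⁻¹ • y) at h1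
    rwa [h2, smul_smul, smul_inv_smul₀ hγ'1, mul_assoc, mul_inv_cancel₀ hγ'1, mul_one] at h1
  have hmq : ∀ y, m (m y) + y = m y + m y := fun y => by
    have h1 := congrArg (fun p : X => p.2.1) (hbq ((0, y, 0) : X))
    simp only [Prod.snd_add, Prod.fst_add] at h1
    rw [(hH.fix_decomp hbH hbS (b ((0, y, 0) : X))).2 (hH.fix_perp hbH hbS rfl),
      (hH.fix_decomp hbH hbS ((0, y, 0) : X)).2 rfl] at h1
    exact h1
  set π := ((LinearMap.fst F M K).comp (LinearMap.snd F K (M × K))).comp ((b : X →ₗ[F] X) - 1)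
  have hπ : finrank F (LinearMap.range π) < finrank F K := finrank_middle_lt hrk hx0
  have hπm : ∀ y, m y - y ∈ LinearMap.range π := fun y => ⟨((0, y, 0) : X), by
    show (b ((0, y, 0) : X) - ((0, y, 0) : X)).2.1 = _
    rw [Prod.snd_sub, Prod.fst_sub, (hH.fix_decomp hbH hbS ((0, y, 0) : X)).2 rfl]⟩
  by_cases hσ1 : σ = AlgHom.id F K
  swap
  · obtain ⟨h2, hr2, hss⟩ := quad_semilinear hr (W := K) α.toAddMonoidHom hαi hσ hαq one_ne_zero hσ1
    have hM : Nontrivial M := hbig.resolve_right (fun h => h hr2)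
    obtain ⟨y0, hy0⟩ := exists_ne (0 : M)
    obtain ⟨z0, hz0⟩ := hβ.nd y0 hy0
    have hdim : 2 ≤ finrank K M := by
      have hli : LinearIndependent K ![y0, z0] := by
        refine (LinearIndependent.pair_iff' hy0).2 fun a ha => hz0 ?_
        rw [← ha, map_smul, hβ.alt, smul_zero]
      have : Module.Finite K M := Module.Finite.of_finite
      simpa using hli.fintype_card_le_finrank
    have hdimF : 4 ≤ finrank F M := by
      rw [← Module.finrank_mul_finrank F K M, hr2]
      omega
    have hmm : ∀ y, m (m y) = y := fun y => by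
      have h3 := hmq y
      rw [← two_smul K (m y), h2, zero_smul] at h3
      rw [eq_neg_of_add_eq_zero_left h3, neg_eq_iff_add_eq_zero, ← two_smul K y, h2, zero_smul]
    have hk := involution_rank h2 m hm hmm hσ1 hss
    have hle : LinearMap.range (m - 1) ≤ LinearMap.range π := by
      rintro _ ⟨y, rfl⟩
      exact hπm y
    have := Submodule.finrank_mono hle
    omega
  have hα1 : ∀ a, α a = a := by
    intro a
    have h1 : ∀ y, α y = y * α 1 := fun y => by
      conv_lhs => rw [← mul_one y]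
      rw [hσ, hσ1]; rfl
    have h2 := hαq 1
    rw [h1 (α 1)] at h2
    have h3 : (α 1 - 1) * (α 1 - 1) = 0 := by linear_combination h2
    rw [h1, sub_eq_zero.1 (mul_self_eq_zero.1 h3), mul_one]
  have hγ'id : γ' = LinearMap.id := by
    have h1 : IsAdj (α) (γ') := hH.isAdj_alpha hbH hbS
    refine h1.unique fun x y => ?_
    rw [hα1]; rfl
  have hγ1 : ∀ d, γ d = d := fun d => by
    have := hγγ d
    rwa [hγ'id] at this
  have hm1 : ∀ y, m y = y := fun y => by
    have h1 := eq_zero_of_klinear_range hπ (m - 1) (fun k z => by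
      show m (k • z) - k • z = k • (m z - z)
      rw [hm, hσ1, smul_sub]; rfl) hπm y
    exact sub_eq_zero.1 h1
  set Φ : K →ₗ[F] M := ((LinearMap.fst F M K).comp (LinearMap.snd F K (M × K))).comp
    ((b : X →ₗ[F] X).comp ((LinearMap.inr F K (M × K)).comp (LinearMap.inr F M K)))
  let Ψ : M × K →ₗ[F] K :=
    (LinearMap.fst F K (M × K)).comp ((b : X →ₗ[F] X).comp (LinearMap.inr F K (M × K)))
  have hform : ∀ x : X, b x = (x.1 + Ψ x.2, x.2.1 + Φ x.2.2, x.2.2) := fun x => by
    have hsplit : b x = ((x.1, 0, 0) : X) + b ((0, x.2.1, x.2.2) : X) := by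
      conv_rhs => rw [← hα1 x.1]
      rw [← fix_apply_line hbS, ← map_add]
      simp [Prod.ext_iff]
    have hsplit2 : b ((0, x.2.1, x.2.2) : X) = b ((0, x.2.1, 0) : X) + b ((0, 0, x.2.2) : X) := by
      rw [← map_add]; simp
    refine Prod.ext ?_ (Prod.ext ?_ ?_)
    · rw [hsplit]; simp [Ψ]
    · rw [hsplit, hsplit2]
      simp only [Prod.snd_add, Prod.fst_add, zero_add]
      rw [(hH.fix_decomp hbH hbS ((0, x.2.1, 0) : X)).2 rfl]
      change m x.2.1 + _ = _
      rw [hm1]
      rfl
    · rw [(hH.fix_decomp hbH hbS x).1]; exact hγ1 _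
  have hΦ : ∀ t, Φ t = 0 := eq_zero_of_klinear_range hπ Φ
    (fun k z => hlin.2 Φ ⟨b, hbH, Ψ, hform⟩ k z) fun t => ⟨((0, 0, t) : X), by
      show (b ((0, 0, t) : X) - ((0, 0, t) : X)).2.1 = _
      rw [Prod.snd_sub, Prod.fst_sub, hform]
      simp⟩
  refine hout fun x => mem_lineX.2 ⟨?_, ?_⟩
  · rw [Prod.snd_sub, Prod.fst_sub, hform]
    show x.2.1 + Φ x.2.2 - x.2.1 = 0
    rw [hΦ, add_zero, sub_self]
  · rw [Prod.snd_sub, Prod.snd_sub, hform]
    show x.2.2 - x.2.2 = 0
    rw [sub_self]

/-- Without a middle part, in odd characteristic, a proper group of long root maps makes the translations free. -/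
theorem SOver.free_of_proper (hH : SOver β H) (hr : (finrank F K).Prime) (hr2 : finrank F K ≠ 2)
    (h2 : (2 : K) ≠ 0) [Subsingleton M]
    (hne : ∃ σ : K →ₐ[F] K, σ ≠ AlgHom.id F K ∧ ∃ t, pairMap σ t ∉ zGroup H) : SFree H := by
  intro W hW hne' c hfix
  by_contra hc
  obtain ⟨b, hbH, hbS, hbq, -, -, hout⟩ := hH.fix_element hW hne' hc hfix
  have hbi := map_lineX_inv hbS
  set α := alphaOf b
  set α' := gammaOf b⁻¹
  have hadj : IsAdj α α' := hH.isAdj_alpha hbH hbS
  have hinv : ∀ x, b⁻¹ x = x + x - b x := fun x => by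
    show b.symm x = _
    rw [LinearEquiv.symm_apply_eq, map_sub, map_add, ← hbq]
    abel
  set A := α - LinearMap.id
  set A' := α' - LinearMap.id
  have hA : IsAdj A A' := fun x y => by
    simp only [A, A', LinearMap.sub_apply, LinearMap.id_apply, sub_mul, mul_sub, map_sub]
    rw [hadj x y]
  have hαinv : alphaOf b⁻¹ = LinearMap.id - A := by
    refine LinearMap.ext fun a => ?_
    show (b⁻¹ ((a, 0, 0) : X)).1 = a - (α a - a)
    rw [hinv, fix_apply_line hbS]
    show a + a - α a = _
    ring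
  have hγinv : gammaOf b = LinearMap.id - A' := by
    have h1 := hH.isAdj_alpha (inv_mem hbH) hbi
    rw [inv_inv, hαinv] at h1
    exact h1.unique fun x y => by
      simp only [LinearMap.sub_apply, LinearMap.id_apply, sub_mul, mul_sub, map_sub]
      rw [hA x y]
  have hhalf : (2 : F) ≠ 0 := fun e => h2 (by rw [← map_ofNat (algebraMap F K), e, map_zero])
  obtain ⟨d, hd⟩ := hH.zGroup_selfAdj.tangent hr hr2 h2 hne hA fun g hg => by
    have hp := hH.conj_long hbH hbS hg
    have hm := hH.conj_long (inv_mem hbH) hbi hg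
    rw [inv_inv, hαinv, hγinv] at hm
    have h3 := hH.zGroup_selfAdj.smul_mem (2 : F)⁻¹ ((zGroup H).sub_mem hp hm)
    convert h3 using 1
    refine LinearMap.ext fun x => ?_
    have hα : ∀ y, α y = y + A y := fun y => by simp [A]
    have hα' : ∀ y, α' y = y + A' y := fun y => by simp [A']
    show A (g x) + g (A' x) = (2 : F)⁻¹ • (α (g (α' x)) - (g (x - A' x) - A (g (x - A' x))))
    rw [hα, hα', map_add g, map_sub g, map_add A, map_sub A]
    rw [eq_inv_smul_iff₀ hhalf, two_smul]
    abel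
  have hd0 : d = 0 := by
    have h1 : A (A 1) = 0 := by
      show α (α 1 - 1) - (α 1 - 1) = 0
      have h3 := congrArg Prod.fst (hbq ((1, 0, 0) : X))
      rw [fix_apply_line hbS, fix_apply_line hbS] at h3
      change α (α 1) + 1 = α 1 + α 1 at h3
      rw [map_sub]
      linear_combination h3
    rw [hd] at h1
    simpa using h1
  have hα1 : ∀ a, α a = a := fun a => by
    have h1 := LinearMap.congr_fun hd a
    rw [hd0] at h1
    simp [A, sub_eq_zero] at h1
    exact h1
  have hγ : ∀ t, gammaOf b t = t := fun t => by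
    rw [hγinv]
    have h1 : A' = 0 := hA.unique fun x y => by
      simp only [A, LinearMap.sub_apply, LinearMap.id_apply, hα1, sub_self, zero_mul, map_zero]
      simp
    rw [h1]; simp
  exact hout fun x => mem_lineX.2 ⟨Subsingleton.elim _ _, by
    rw [Prod.snd_sub, Prod.snd_sub, (hH.fix_decomp hbH hbS x).1, hγ, sub_self]⟩

end CfsgLib.FieldMax.Symp
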