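import Cfsg.Agent.Aschbacher.FieldMax.SympDeduce

/-!
An overgroup of the semilinear isometries contains every transvection over the smaller field.
-/

set_option autoImplicit false
set_option linter.unusedSectionVars false

namespace CfsgLib.FieldMax.Symp

open Module

section Char2

/-- The power identity for a root of a quadratic with a periodic middle coefficient, in characteristic two. -/
theorem pow_sq_comm {A : Type*} [CommRing A] (h2 : (2 : A) = 0) {m g : A} (hm : m ^ 2 = g * m + 1) {s : ℕ}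
    (hs : 1 ≤ s) (hg : g ^ 2 ^ s = g) :
    m ^ (2 ^ s * 2 ^ s) = g ^ (2 ^ s - 1) * m + (1 + g ^ (2 ^ s - 1)) := by
  have hfro : ∀ (j : ℕ) (a b : A), (a + b) ^ 2 ^ j = a ^ 2 ^ j + b ^ 2 ^ j := by
    intro j a b
    induction j with
    | zero => simp
    | succ j ih => rw [pow_succ, pow_mul, ih, pow_mul, pow_mul]; linear_combination a ^ 2 ^ j * b ^ 2 ^ j * h2
  set N := 2 ^ s
  set P := g ^ (N - 1)
  have hN : 2 ≤ N := Nat.le_self_pow (by omega) 2
  have key : ∀ j : ℕ, 1 ≤ j → ∃ u, u ^ N = u ∧ m ^ 2 ^ j = g ^ (2 ^ j - 1) * m + (1 + g * u) := by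
    intro j hj
    induction j, hj using Nat.le_induction with
    | base => exact ⟨0, zero_pow (by omega), by simpa using hm⟩
    | succ j hj ih =>
      obtain ⟨u, hu, he⟩ := ih
      obtain ⟨t, ht⟩ : ∃ t, 2 ^ j = t + 2 := ⟨2 ^ j - 2, by
        have := Nat.le_self_pow (show j ≠ 0 by omega) 2; omega⟩
      refine ⟨g ^ (2 * t + 1) + g * u * u, ?_, ?_⟩
      · rw [hfro s, mul_pow, mul_pow, hu, ← pow_mul, mul_comm (2 * t + 1), pow_mul, hg]
      · rw [pow_succ, pow_mul, he, ht, show (t + 2) * 2 - 1 = 2 * t + 3 by omega,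
          show t + 2 - 1 = t + 1 by omega]
        linear_combination (g ^ (t + 1)) ^ 2 * hm + (g ^ (t + 1) * m * (1 + g * u) + g * u) * h2
  obtain ⟨u, hu, he⟩ := key s hs
  have hgP : g * P = g := by
    show g * g ^ (N - 1) = g
    rw [← pow_succ', show N - 1 + 1 = N by omega, hg]
  have hPN : P ^ N = P := by
    show (g ^ (N - 1)) ^ N = _
    rw [← pow_mul, mul_comm, pow_mul, hg]
  have hPP : P * P = P := by
    show P * g ^ (N - 1) = P
    rw [show N - 1 = N - 2 + 1 by omega, pow_succ', ← mul_assoc, mul_comm P g, hgP, ← pow_succ',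
      show N - 2 + 1 = N - 1 by omega]
  rw [pow_mul, he, hfro s, mul_pow, hPN, he, hfro s, one_pow, mul_pow, hg, hu]
  linear_combination m * hPP + u * hgP + g * u * h2

/-- The same identity for two commuting elements of a ring. -/
theorem pow_sq_of_commute {A : Type*} [Ring A] (h2 : (2 : A) = 0) {m g : A} (hc : Commute g m)
    (hm : m ^ 2 = g * m + 1) {s : ℕ} (hs : 1 ≤ s) (hg : g ^ 2 ^ s = g) :
    m ^ (2 ^ s * 2 ^ s) = g ^ (2 ^ s - 1) * m + (1 + g ^ (2 ^ s - 1)) := by
  letI : CommRing (Subring.closure ({m, g} : Set A)) := Subring.closureCommRingOfComm (by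
    rintro a (rfl | rfl) b (rfl | rfl)
    exacts [rfl, hc.eq.symm, hc.eq, rfl])
  let m' : Subring.closure ({m, g} : Set A) := ⟨m, Subring.subset_closure (Or.inl rfl)⟩
  let g' : Subring.closure ({m, g} : Set A) := ⟨g, Subring.subset_closure (Or.inr rfl)⟩
  have h := congrArg Subtype.val (pow_sq_comm (m := m') (g := g') (Subtype.ext (by exact h2))
    (Subtype.ext (by exact hm)) hs (Subtype.ext (by exact hg)))
  exact h

end Char2

variable {F : Type*} [Field F] [Finite F] {K : Type*} [Field K] [Algebra F K] [Finite K]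
  {M : Type*} [AddCommGroup M] [Module K M] [Module F M] [IsScalarTower F K M] [Finite M]
  {β : M →ₗ[K] M →ₗ[K] K}

local notation "X" => (K × M × K)
local notation "GX" => ((K × M × K) ≃ₗ[F] (K × M × K))

variable {H : Subgroup ((K × M × K) ≃ₗ[F] (K × M × K))}

theorem equiv_smul_of_tower (e : X ≃ₗ[K] X) (c : F) (x : X) : e (c • x) = c • e x :=
  (e.restrictScalars F).map_smul c x

/-- The map to a line of the middle part. -/
def lineMap (u : M) (a : K →ₗ[F] K) : K →ₗ[F] M := ((LinearMap.toSpanSingleton K M u).restrictScalars F).comp a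

theorem lineMap_apply (u : M) (a : K →ₗ[F] K) (k : K) : lineMap u a k = a k • u := rfl

theorem SOver.mSet_tor (hH : SOver β H) {Φ : K →ₗ[F] M} (hΦ : Φ ∈ mSet H) (c : K) :
    Φ.comp (LinearMap.mulLeft F c) ∈ mSet H := by
  by_cases hc : c = 0
  · subst hc
    convert mSet_zero (H := H)
    exact LinearMap.ext fun x => by simp
  obtain ⟨h, hh, Ψ, he⟩ := hΦ
  set t : X ≃ₗ[K] X := torK (Units.mk0 c hc)
  refine ⟨t.restrictScalars F * h * (t.restrictScalars F : GX)⁻¹,
    mul_mem (mul_mem (hH.klin_mem (torK_isom _)) hh) (inv_mem (hH.klin_mem (torK_isom _))),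
    (LinearMap.mulLeft F c).comp (Ψ.comp ((LinearMap.fst F M K).prod
      ((LinearMap.mulLeft F c).comp (LinearMap.snd F M K)))), fun x => ?_⟩
  show t (h (t.symm x)) = _
  rw [he]
  simp [t, torK, mul_add, hc]

theorem SOver.mSet_mid (hH : SOver β H) {Φ : K →ₗ[F] M} (hΦ : Φ ∈ mSet H) {e : M ≃ₗ[K] M}
    (he : ∀ a b, β (e a) (e b) = β a b) : (e.toLinearMap.restrictScalars F).comp Φ ∈ mSet H := by
  obtain ⟨h, hh, Ψ, hΨ⟩ := hΦ
  refine ⟨(midK e).restrictScalars F * h * ((midK e).restrictScalars F : GX)⁻¹,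
    mul_mem (mul_mem (hH.klin_mem (midK_isom e he)) hh) (inv_mem (hH.klin_mem (midK_isom e he))),
    Ψ.comp (((e.symm.toLinearMap.restrictScalars F).comp (LinearMap.fst F M K)).prod (LinearMap.snd F M K)),
    fun x => ?_⟩
  show midK e (h ((midK e).symm x)) = _
  rw [hΨ]
  simp [midK]

/-- The coordinate maps of the middle translations. -/
def rMod (hH : SOver β H) : Submodule K (K →ₗ[F] K) where
  carrier := {a | ∀ u : M, lineMap u a ∈ mSet H}
  zero_mem' u := by
    convert mSet_zero (H := H)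
    exact LinearMap.ext fun x => by simp [lineMap_apply]
  add_mem' {a b} ha hb u := by
    convert mSet_add (ha u) (hb u) using 1
    exact LinearMap.ext fun x => by simp [lineMap_apply, add_smul]
  smul_mem' c a ha u := by
    convert ha (c • u) using 1
    exact LinearMap.ext fun x => by simp [lineMap_apply, smul_smul, mul_comm]

theorem SOver.mem_rMod (hH : SOver β H) {a : K →ₗ[F] K} : a ∈ rMod hH ↔ ∀ u : M, lineMap u a ∈ mSet H := Iff.rfl

theorem SOver.rMod_right (hH : SOver β H) {a : K →ₗ[F] K} (ha : a ∈ rMod hH) (c : K) :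
    a.comp (LinearMap.mulLeft F c) ∈ rMod hH := fun u => hH.mSet_tor (ha u) c

theorem SOver.rMod_id (hH : SOver β H) (hβ : MidForm β) : LinearMap.id ∈ rMod hH := fun u =>
  ⟨_, hH.klin_mem (shortK_isom hβ u), ((β u).restrictScalars F).comp (LinearMap.fst F M K), fun x => rfl⟩

theorem SOver.coord_mem (hH : SOver β H) (hβ : MidForm β) {Φ : K →ₗ[F] M} (hΦ : Φ ∈ mSet H) (u : M) :
    ((β.flip u).restrictScalars F).comp Φ ∈ rMod hH := by
  by_cases hu : u = 0
  · subst hu
    convert (rMod hH).zero_mem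
    exact LinearMap.ext fun x => by simp
  intro u'
  by_cases hu' : u' = 0
  · subst hu'
    convert mSet_zero (H := H)
    exact LinearMap.ext fun x => by simp [lineMap_apply]
  obtain ⟨e, he, heu⟩ := exists_isom_map β hβ.alt hβ.nd hu hu'
  have h1 := mSet_add (hH.mSet_mid hΦ (tvec_isom β hβ.alt u 1)) (mSet_neg hΦ)
  convert hH.mSet_mid h1 he using 1
  refine LinearMap.ext fun x => ?_
  simp [lineMap_apply, tvec_apply, heu]

theorem SOver.long_mem_rMod (hH : SOver β H) (hβ : MidForm β) [Nontrivial M] {g : K →ₗ[F] K}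
    (hg : g ∈ zSet H) : g ∈ rMod hH := by
  obtain ⟨z, hz⟩ := exists_ne (0 : M)
  obtain ⟨z₀, hz₀⟩ := hβ.nd z hz
  set z' := (β z z₀)⁻¹ • z₀
  have hzz : β z z' = 1 := by simp [z', hz₀]
  have hzz' : β z' z = -1 := by rw [hβ.skew, hzz]
  obtain ⟨l, hl, hle⟩ := hg
  set s : X ≃ₗ[K] X := shortK' β hβ.alt z
  set u : X ≃ₗ[K] X := shortK β hβ.alt z'
  set E : GX := l * s.restrictScalars F * l⁻¹ * (s.restrictScalars F : GX)⁻¹
  have hEH : E ∈ H :=
    mul_mem (mul_mem (mul_mem hl (hH.klin_mem (shortK'_isom hβ z))) (inv_mem hl))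
      (inv_mem (hH.klin_mem (shortK'_isom hβ z)))
  have hlinv : ∀ x : X, l.symm x = (x.1 - g x.2.2, x.2.1, x.2.2) := fun x => by
    rw [LinearEquiv.symm_apply_eq, hle]; simp
  have hE : ∀ x : X, E x = (x.1 - g (β z x.2.1), x.2.1 - g (x.2.2 + β z x.2.1) • z, x.2.2) := fun x => by
    show l (s (l.symm (s.symm x))) = _
    rw [hlinv, hle]
    simp [s, shortK', hβ.alt, map_add]
    refine ⟨by abel, ?_⟩
    module
  have hEinv : ∀ x : X, E.symm x = (x.1 + g (β z x.2.1), x.2.1 + g (x.2.2 + β z x.2.1) • z, x.2.2) := fun x => by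
    rw [LinearEquiv.symm_apply_eq, hE]
    simp [hβ.alt]
  have hmem : (-(lineMap z g) : K →ₗ[F] M) ∈ mSet H := by
    refine ⟨E * u.restrictScalars F * E⁻¹ * (u.restrictScalars F : GX)⁻¹,
      mul_mem (mul_mem (mul_mem hEH (hH.klin_mem (shortK_isom hβ z'))) (inv_mem hEH))
        (inv_mem (hH.klin_mem (shortK_isom hβ z'))),
      -g.comp (LinearMap.snd F M K) - (g.comp ((β z).restrictScalars F)).comp (LinearMap.fst F M K), fun x => ?_⟩
    show E (u (E.symm (u.symm x))) = _
    rw [hEinv, hE]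
    simp [u, shortK, hβ.alt, hzz, hzz', lineMap_apply, map_add, map_sub, sub_eq_add_neg]
    refine ⟨by abel, ?_⟩
    module
  have h2 := (rMod hH).neg_mem (hH.coord_mem hβ hmem z')
  convert h2 using 1
  exact LinearMap.ext fun x => by simp [lineMap_apply, hzz]

theorem SOver.short_form (hH : SOver β H) {h : GX} (hh : h ∈ H) {Φ : K →ₗ[F] M} {Ψ : M × K →ₗ[F] K}
    (he : ∀ x : X, h x = (x.1 + Ψ x.2, x.2.1 + Φ x.2.2, x.2.2)) {z : M} {a a' : K →ₗ[F] K} (ha : IsAdj a a')
    (hΦ : Φ = lineMap z a) (Y : M) : Ψ (Y, 0) = -a' (β Y z) := by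
  refine eq_neg_of_add_eq_zero_left (eq_zero_of_trace (F := F) fun b => ?_)
  have h1 := hH.isom h hh ((0, Y, 0) : X) ((0, 0, b) : X)
  simp [fform, bform_apply, he, hΦ, lineMap_apply] at h1
  rw [add_mul, map_add, mul_comm (a' _), ← ha]
  exact h1

theorem SOver.comm_mem_zSet (hH : SOver β H) {z z' : M} (hzz : β z z' = 1) (hzz' : β z' z = -1)
    {a₁ a₁' a₂ a₂' : K →ₗ[F] K} (ha₁ : a₁ ∈ rMod hH) (ha₂ : a₂ ∈ rMod hH) (h₁ : IsAdj a₁ a₁')
    (h₂ : IsAdj a₂ a₂') : a₁'.comp a₂ + a₂'.comp a₁ ∈ zSet H := by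
  obtain ⟨p, hp, Ψ₁, hp'⟩ := ha₁ z
  obtain ⟨q, hq, Ψ₂, hq'⟩ := ha₂ z'
  have key : ∀ x : X, (p * q * p⁻¹ * q⁻¹) x =
      (x.1 + (Ψ₁ (lineMap z' a₂ x.2.2, 0) - Ψ₂ (lineMap z a₁ x.2.2, 0)), x.2.1, x.2.2) := fun x => by
    have e1 : Ψ₁ (lineMap z' a₂ x.2.2, 0) = Ψ₁ (x.2.1 - lineMap z a₁ x.2.2, x.2.2) -
        Ψ₁ (x.2.1 - lineMap z' a₂ x.2.2 - lineMap z a₁ x.2.2, x.2.2) := by
      rw [← map_sub]; congr 1; simp
    have e2 : Ψ₂ (lineMap z a₁ x.2.2, 0) = Ψ₂ (x.2.1 - lineMap z' a₂ x.2.2, x.2.2) -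
        Ψ₂ (x.2.1 - lineMap z' a₂ x.2.2 - lineMap z a₁ x.2.2, x.2.2) := by
      rw [← map_sub]; congr 1; simp
    rw [LinearEquiv.mul_apply, LinearEquiv.mul_apply, LinearEquiv.mul_apply, mSet_inv hq', mSet_inv hp', hq', hp',
      e1, e2]
    refine Prod.ext ?_ (Prod.ext ?_ rfl)
    · simp only
      rw [show x.2.1 - lineMap z' a₂ x.2.2 - lineMap z a₁ x.2.2 + lineMap z' a₂ x.2.2 =
        x.2.1 - lineMap z a₁ x.2.2 by abel]
      abel
    · simp only
      abel
  refine ⟨p * q * p⁻¹ * q⁻¹, mul_mem (mul_mem (mul_mem hp hq) (inv_mem hp)) (inv_mem hq), fun x => ?_⟩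
  rw [key, hH.short_form hp hp' h₁ rfl, hH.short_form hq hq' h₂ rfl]
  simp [lineMap_apply, hzz, hzz']

theorem SOver.rMod_eq_top (hH : SOver β H) (hβ : MidForm β) (hr : (finrank F K).Prime) [Nontrivial M]
    (hnl : ¬ AllLinS H) : rMod hH = ⊤ := by
  classical
  obtain ⟨z, hz⟩ := exists_ne (0 : M)
  obtain ⟨z₀, hz₀⟩ := hβ.nd z hz
  have hzz : β z ((β z z₀)⁻¹ • z₀) = 1 := by simp [hz₀]
  have hzz' : β ((β z z₀)⁻¹ • z₀) z = -1 := by rw [hβ.skew, hzz]
  obtain ⟨f, hf, hfns⟩ : ∃ f ∈ rMod hH, ∀ c : K, f ≠ LinearMap.mulLeft F c := by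
    unfold AllLinS at hnl
    by_cases h1 : ∀ g ∈ zSet H, ∃ c : K, g = LinearMap.mulLeft F c
    · have h2 : ¬ ∀ Φ ∈ mSet H, ∀ k t : K, Φ (k * t) = k • Φ t := fun h => hnl ⟨h1, h⟩
      push Not at h2
      obtain ⟨Φ, hΦ, k, t, hkt⟩ := h2
      obtain ⟨u, hu⟩ := hβ.nd _ (sub_ne_zero.2 hkt)
      refine ⟨_, hH.coord_mem hβ hΦ u, fun c hc => hu ?_⟩
      have e1 := LinearMap.congr_fun hc (k * t)
      have e2 := LinearMap.congr_fun hc t
      simp at e1 e2
      rw [map_sub, LinearMap.sub_apply, map_smul, LinearMap.smul_apply, e1, e2, smul_eq_mul]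
      ring
    · push Not at h1
      obtain ⟨g, hg, hgc⟩ := h1
      exact ⟨g, hH.long_mem_rMod hβ hg, hgc⟩
  have hR : ∀ f ∈ rMod hH, ∀ k : K, f.comp (LinearMap.mulLeft F k) ∈ rMod hH := fun f hf k => hH.rMod_right hf k
  have hcomp : ∀ σ τ : K →ₐ[F] K, σ.toLinearMap ∈ rMod hH → τ.toLinearMap ∈ rMod hH →
      ((ainv σ).comp τ).toLinearMap ∈ rMod hH := by
    intro σ τ hσ hτ
    by_cases hst : σ = τ
    · subst hst
      rw [ainv_comp]
      exact hH.rMod_id hβ
    obtain ⟨t, ht⟩ : ∃ t, ainv σ t + (if (ainv τ).comp σ = (ainv σ).comp τ then ainv τ t else 0) ≠ 0 := by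
      by_cases he : (ainv τ).comp σ = (ainv σ).comp τ
      · simp only [if_pos he]
        by_contra hno
        push Not at hno
        have hii : ∀ ρ : K →ₐ[F] K, ainv (ainv ρ) = ρ := fun ρ => AlgHom.ext fun x => by
          have h1 := ainv_apply (ainv ρ) (ρ x)
          rwa [ainv_apply ρ] at h1
        have hne : ainv σ ≠ ainv τ := fun e => hst (by rw [← hii σ, e, hii τ])
        have h1 : ((1 : K) • (ainv σ).toLinearMap + (1 : K) • (ainv τ).toLinearMap) = (0 : K →ₗ[F] K) :=
          LinearMap.ext fun x => by simpa using hno x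
        have h2 := congrArg (fun e => (autBasis F K).repr e (ainv σ)) h1
        simp only [map_add, map_zero, Finsupp.add_apply, Finsupp.zero_apply, autBasis_repr_smul, if_pos,
          if_neg (Ne.symm hne), add_zero] at h2
        exact one_ne_zero h2
      · exact ⟨1, by simp [if_neg he]⟩
    have h1 := hH.long_mem_rMod hβ (hH.comm_mem_zSet hzz hzz' hσ ((rMod hH).smul_mem t hτ) (isAdj_aut σ)
      (isAdj_smul t τ))
    refine component_mem _ hR h1 ?_
    have e : (ainv σ).toLinearMap.comp (t • τ.toLinearMap) + (ainv τ t • (ainv τ).toLinearMap).comp σ.toLinearMap =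
        ainv σ t • ((ainv σ).comp τ).toLinearMap + ainv τ t • ((ainv τ).comp σ).toLinearMap :=
      LinearMap.ext fun x => by simp
    rw [e, map_add, Finsupp.add_apply, autBasis_repr_smul, autBasis_repr_smul, if_pos rfl]
    exact ht
  obtain ⟨τ, hτ, hτc⟩ := exists_component hfns
  have hτR := component_mem _ hR hf hτc
  have hid : (AlgHom.id F K).toLinearMap ∈ rMod hH := hH.rMod_id hβ
  have hinv : ∀ σ : K →ₐ[F] K, σ.toLinearMap ∈ rMod hH → (ainv σ).toLinearMap ∈ rMod hH := fun σ hσ => by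
    simpa using hcomp σ (AlgHom.id F K) hσ hid
  refine eq_top_of_all_mem _ fun σ => ?_
  obtain ⟨j, rfl⟩ := exists_pow_eq hr hτ σ
  induction j with
  | zero => exact hid
  | succ j ih =>
    have h1 := hcomp _ τ (hinv _ ih) hτR
    rw [pow_succ]
    convert h1 using 2
    exact AlgHom.ext fun x => by
      have h2 := ainv_apply (ainv (τ ^ j)) ((τ ^ j) (τ x))
      rw [ainv_apply (τ ^ j)] at h2
      exact h2.symm

/-- In characteristic two a pair of automorphisms among the long root maps gives a transvection. -/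
theorem SOver.trace_of_pair (hH : SOver β H) (hβ : MidForm β) [Subsingleton M] (hr : (finrank F K).Prime)
    (hr2 : finrank F K ≠ 2) (h2 : (2 : K) = 0) {σ : K →ₐ[F] K} (hσ : σ ≠ AlgHom.id F K)
    (hg : σ.toLinearMap + (ainv σ).toLinearMap ∈ zSet H) : traceMap F K ∈ zSet H := by
  classical
  set g : K →ₗ[F] K := σ.toLinearMap + (ainv σ).toLinearMap with hgdef
  have hF2 : (2 : F) = 0 := (algebraMap F K).injective (by rw [map_ofNat, map_zero, h2])
  have hn : ∀ x : K, x + x = 0 := fun x => by rw [← two_mul, h2, zero_mul]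
  have hnX : ∀ x : X, x + x = 0 := fun x =>
    Prod.ext (hn _) (Prod.ext (Subsingleton.elim _ _) (hn _))
  set r := finrank F K with hrdef
  have hrodd : r % 2 = 1 := hr.eq_two_or_odd.resolve_left hr2
  -- the automorphisms have order dividing the degree
  let E := (Algebra.IsAlgebraic.algEquivEquivAlgHom F K)
  have hσr : σ ^ r = 1 := by
    have h := pow_card_eq_one' (x := E.symm σ)
    rw [IsGalois.card_aut_eq_finrank F K] at h
    rw [← E.apply_symm_apply σ, ← map_pow, h, map_one]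
  have hσσ : σ * ainv σ = 1 := comp_ainv σ
  have hσσ' : ainv σ * σ = 1 := ainv_comp σ
  have hσ'r : ainv σ ^ r = 1 := by
    have h := (show Commute σ (ainv σ) from hσσ.trans hσσ'.symm).mul_pow r
    rw [hσσ, one_pow, hσr, one_mul] at h
    exact h.symm
  obtain ⟨e, he⟩ : ∃ e, Nat.card F = 2 ^ e := by
    have : CharP F 2 := ringChar.of_eq ((CharP.ringChar_of_prime_eq_zero Nat.prime_two (by exact_mod_cast hF2)))
    have : Fintype F := Fintype.ofFinite F
    obtain ⟨n, -, hn⟩ := FiniteField.card F 2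
    exact ⟨n, by rw [Nat.card_eq_fintype_card, hn]⟩
  set s := e * (r - 1)
  have hs1 : 1 ≤ s := by
    refine Nat.mul_pos (Nat.pos_of_ne_zero fun h0 => ?_) (by have := hr.two_le; omega)
    rw [h0, pow_zero] at he
    have := Finite.one_lt_card (α := F)
    omega
  have hsmod : 2 ^ s % r = 1 := by
    have hco : (2 ^ e).Coprime r :=
      Nat.Coprime.pow_left _ ((Nat.coprime_primes Nat.prime_two hr).2 (Ne.symm hr2))
    have h := Nat.ModEq.pow_totient hco
    rw [Nat.totient_prime hr, ← pow_mul] at h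
    rw [show 2 ^ s % r = 1 % r from h, Nat.one_mod_eq_one.2 (by have := hr.two_le; omega)]
  have hperiod : ∀ ρ : K →ₐ[F] K, ρ ^ r = 1 → ρ ^ 2 ^ s = ρ := fun ρ hρ => by
    rw [← Nat.div_add_mod (2 ^ s) r, hsmod, pow_succ, pow_mul, hρ, one_pow, one_mul]
  have hpow : ∀ (ρ : K →ₐ[F] K) (n : ℕ), (ρ.toLinearMap : Module.End F K) ^ n = (ρ ^ n).toLinearMap := by
    intro ρ n
    induction n with
    | zero => rfl
    | succ n ih => rw [pow_succ, pow_succ, ih]; rfl
  have hgper : (g : Module.End F K) ^ 2 ^ s = g := by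
    have hfro : ∀ (j : ℕ) (a b : Module.End F K), Commute a b → (a + b) ^ 2 ^ j = a ^ 2 ^ j + b ^ 2 ^ j := by
      intro j a b hab
      induction j with
      | zero => simp
      | succ j ih =>
        rw [pow_succ, pow_mul, ih, pow_mul, pow_mul, pow_two, pow_two, pow_two, add_mul, mul_add, mul_add,
          (hab.pow_pow (2 ^ j) (2 ^ j)).eq]
        refine LinearMap.ext fun x => ?_
        simp only [LinearMap.add_apply]
        rw [add_assoc, ← add_assoc _ _ ((b ^ 2 ^ j * b ^ 2 ^ j) x), hn, zero_add]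
    have hcomm : Commute (σ.toLinearMap : Module.End F K) (ainv σ).toLinearMap := by
      show σ.toLinearMap * (ainv σ).toLinearMap = (ainv σ).toLinearMap * σ.toLinearMap
      exact LinearMap.ext fun x => (apply_ainv σ x).trans (ainv_apply σ x).symm
    rw [hgdef, hfro s _ _ hcomm, hpow, hpow, hperiod σ hσr, hperiod _ hσ'r]
  have hker : ∀ x, g x = 0 → ∃ c : F, algebraMap F K c = x := by
    intro x hx
    change σ x + ainv σ x = 0 at hx
    have h1 : σ x = ainv σ x := by rw [eq_neg_of_add_eq_zero_left hx, neg_eq_iff_add_eq_zero, hn]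
    have h3 : ∀ n, (σ ^ (2 * n)) x = x := by
      intro n
      induction n with
      | zero => rfl
      | succ n ih =>
        rw [show 2 * (n + 1) = 2 * n + 2 by ring, pow_add, pow_two]
        show (σ ^ (2 * n)) (σ (σ x)) = x
        rw [h1, apply_ainv, ih]
    have h4 : σ x = x := by
      have h := h3 ((r + 1) / 2)
      rw [show 2 * ((r + 1) / 2) = r + 1 by omega, pow_succ, hσr, one_mul] at h
      exact h
    refine (IsGalois.mem_range_algebraMap_iff_fixed x).2 fun f => ?_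
    obtain ⟨j, hj⟩ := exists_pow_eq hr hσ (E f)
    show (E f) x = x
    rw [hj]
    clear hj
    induction j with
    | zero => rfl
    | succ j ih => rw [pow_succ]; show (σ ^ j) (σ x) = x; rw [h4, ih]
  set P : Module.End F K := (g : Module.End F K) ^ (2 ^ s - 1) with hPdef
  have hN : 2 ≤ 2 ^ s := Nat.le_self_pow (by omega) 2
  have hgP : ∀ x, g (P x) = g x := fun x => by
    show ((g : Module.End F K) * P) x = g x
    rw [hPdef, ← pow_succ', show 2 ^ s - 1 + 1 = 2 ^ s by omega, hgper]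
  have hPg : ∀ x, P (g x) = g x := fun x => by
    show (P * (g : Module.End F K)) x = g x
    rw [hPdef, ← pow_succ, show 2 ^ s - 1 + 1 = 2 ^ s by omega, hgper]
  have hPtr : ∀ x, P x = x + algebraMap F K (Algebra.trace F K x) := by
    intro x
    obtain ⟨c, hc⟩ := hker (P x - x) (by rw [map_sub, hgP, sub_self])
    have h1 : Algebra.trace F K (P x) = 0 := by
      rw [hPdef, show 2 ^ s - 1 = 2 ^ s - 2 + 1 by omega, pow_succ']
      show Algebra.trace F K (g _) = 0
      rw [hgdef, LinearMap.add_apply, map_add]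
      show Algebra.trace F K (σ _) + Algebra.trace F K (ainv σ _) = 0
      rw [trace_aut, trace_aut, ← two_mul, hF2, zero_mul]
    have h3 := congrArg (Algebra.trace F K) hc
    rw [Algebra.trace_algebraMap, map_sub, h1, zero_sub, ← hrdef, nsmul_eq_mul,
      show ((r : ℕ) : F) = 1 by rw [← Nat.div_add_mod r 2, hrodd]; push_cast; rw [hF2, zero_mul, zero_add],
      one_mul] at h3
    rw [sub_eq_iff_eq_add'.1 hc.symm]
    congr 2
    rw [h3]
    linear_combination (-(Algebra.trace F K x)) * hF2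
  -- the element
  obtain ⟨l, hl, hle⟩ := hg
  set h : GX := (turnK : X ≃ₗ[K] X).restrictScalars F * l
  have hhH : h ∈ H := mul_mem (hH.klin_mem turnK_isom) hl
  have hha : ∀ x : X, h x = (x.2.2, x.2.1, x.1 + g x.2.2) := fun x => by
    show turnK (l x) = _
    rw [hle, turnK_apply]
    refine Prod.ext rfl (Prod.ext rfl ?_)
    show -(x.1 + g x.2.2) = x.1 + g x.2.2
    rw [neg_eq_iff_add_eq_zero, hn]
  let G : Module.End F X :=
    (g.comp (LinearMap.fst F K (M × K))).prod
      ((0 : X →ₗ[F] M).prod (g.comp ((LinearMap.snd F M K).comp (LinearMap.snd F K (M × K)))))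
  have hGa : ∀ x : X, G x = (g x.1, 0, g x.2.2) := fun x => rfl
  have hGpow : ∀ (n : ℕ) (x : X),
      (G ^ n) x = (((g : Module.End F K) ^ n) x.1, (0 : M), ((g : Module.End F K) ^ n) x.2.2) := by
    intro n x
    induction n generalizing x with
    | zero => exact Prod.ext rfl (Prod.ext (Subsingleton.elim _ _) rfl)
    | succ n ih => rw [pow_succ, pow_succ, Module.End.mul_apply, ih, hGa]; rfl
  set Mm : Module.End F X := (h : X →ₗ[F] X)
  have hcomm : Commute G Mm := LinearMap.ext fun x => by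
    show G (h x) = h (G x)
    rw [hha, hha, hGa, hGa]
    exact Prod.ext rfl (Prod.ext (Subsingleton.elim _ _) (map_add g _ _))
  have hquad : Mm ^ 2 = G * Mm + 1 := LinearMap.ext fun x => by
    rw [pow_two]
    show h (h x) = G (h x) + x
    rw [hha (h x), hha x, hGa]
    refine Prod.ext ?_ (Prod.ext (Subsingleton.elim _ _) ?_)
    · simp only [Prod.fst_add]; exact add_comm _ _
    · simp only [Prod.snd_add]; exact add_comm _ _
  have hGper : G ^ 2 ^ s = G := LinearMap.ext fun x => by rw [hGpow, hgper, hGa]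
  have h2E : (2 : Module.End F X) = 0 := LinearMap.ext fun x => by
    rw [← one_add_one_eq_two]
    show x + x = 0
    exact hnX x
  have hmain := pow_sq_of_commute h2E hcomm hquad hs1 hGper
  have hcoe : ∀ n : ℕ, Mm ^ n = ((h ^ n : GX) : X →ₗ[F] X) := by
    intro n
    induction n with
    | zero => rfl
    | succ n ih => rw [pow_succ, pow_succ, ih]; rfl
  set t : GX := h ^ (2 ^ s * 2 ^ s) * h⁻¹
  have ht : ∀ x : X, t x = x + (Algebra.trace F K (x.1 + x.2.2)) • ((1, 0, 1) : X) := by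
    intro y
    obtain ⟨x, rfl⟩ := h.surjective y
    show (h ^ (2 ^ s * 2 ^ s) : GX) (h.symm (h x)) = _
    rw [h.symm_apply_apply,
      show (h ^ (2 ^ s * 2 ^ s) : GX) x = (Mm ^ (2 ^ s * 2 ^ s)) x by rw [hcoe]; rfl, hmain]
    show (G ^ (2 ^ s - 1)) (h x) + (x + (G ^ (2 ^ s - 1)) x) = _
    rw [hGpow, hGpow, hha, ← hPdef]
    simp only [map_add, hPg, hPtr]
    refine Prod.ext ?_ (Prod.ext (Subsingleton.elim _ _) ?_)
    · simp [Algebra.smul_def, trace_aut, hgdef, ← two_mul, hF2, h2]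
      linear_combination x.1 * h2
    · simp [Algebra.smul_def, trace_aut, hgdef, ← two_mul, hF2, h2]
      linear_combination x.2.2 * h2
  set v : X := (1, 0, 1)
  have hv : v ≠ 0 := fun e => one_ne_zero (congrArg Prod.fst e : (1 : K) = 0)
  obtain ⟨f, hf, hfv⟩ := hH.exists_trans hβ hv (e0_ne_zero (K := K) (M := M))
  refine ⟨f.restrictScalars F * t * (f.restrictScalars F : GX)⁻¹,
    mul_mem (mul_mem hf (mul_mem (H.pow_mem hhH _) (inv_mem hhH))) (inv_mem hf), fun x => ?_⟩
  show f (t (f.symm x)) = _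
  rw [ht, map_add, f.apply_symm_apply, equiv_smul_of_tower, hfv]
  have h1 := hH.isom _ hf (f.symm x) v
  rw [restrict_apply, restrict_apply, f.apply_symm_apply, hfv] at h1
  simp [fform, bform_apply, v, e0, map_sub, (Subsingleton.elim (f.symm x).2.1 0), (Subsingleton.elim x.2.1 0)] at h1
  have h3 : Algebra.trace F K ((f.symm x).1 + (f.symm x).2.2) = Algebra.trace F K x.2.2 := by
    rw [map_add]
    linear_combination -h1 + (Algebra.trace F K (f.symm x).2.2 - Algebra.trace F K x.2.2) * hF2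
  rw [h3]
  simp [e0, traceMap, Algebra.smul_def, Prod.ext_iff]

/-- The rank one map lies among the long root maps. -/
theorem SOver.trace_mem (hH : SOver β H) (hβ : MidForm β) (hr : (finrank F K).Prime)
    (hbig : Nontrivial M ∨ finrank F K ≠ 2) : traceMap F K ∈ zSet H := by
  classical
  have : Fintype (K →ₐ[F] K) := Fintype.ofFinite _
  have hnl : ¬ AllLinS H := fun h => hH.count_false hβ hr (hH.free_of_allLin hβ hr hbig h)
  obtain ⟨a, a', ha, hsum⟩ := exists_half (F := F) (K := K) hr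
  have hid : (LinearMap.id : K →ₗ[F] K) ∈ zGroup H := by
    have h := hH.zGroup_selfAdj.scalar 1
    rwa [show LinearMap.mulLeft F (1 : K) = LinearMap.id from LinearMap.ext fun x => one_mul x] at h
  suffices a + a' ∈ zGroup H by rw [← mem_zGroup, ← hsum]; exact add_mem this hid
  rcases subsingleton_or_nontrivial M with hM | hM
  swap
  · have hR := hH.rMod_eq_top hβ hr hnl
    obtain ⟨z, hz⟩ := exists_ne (0 : M)
    obtain ⟨z₀, hz₀⟩ := hβ.nd z hz
    have hzz : β z ((β z z₀)⁻¹ • z₀) = 1 := by simp [hz₀]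
    have hzz' : β ((β z z₀)⁻¹ • z₀) z = -1 := by rw [hβ.skew, hzz]
    have h := hH.comm_mem_zSet hzz hzz' (a₁ := LinearMap.id) (a₁' := LinearMap.id) (a₂ := a) (a₂' := a')
      (hH.rMod_id hβ) (by rw [hR]; trivial) (fun x y => rfl) ha
    rw [mem_zGroup]
    simpa using h
  have hr2 : finrank F K ≠ 2 := hbig.resolve_left fun h => not_nontrivial M h
  obtain ⟨g, hg, hgns⟩ : ∃ g ∈ zGroup H, ∀ c : K, g ≠ LinearMap.mulLeft F c := by
    by_contra hno
    push Not at hno
    exact hnl ⟨fun g hg => hno g hg, fun Φ _ k t => Subsingleton.elim _ _⟩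
  by_cases h2 : (2 : K) = 0
  · obtain ⟨σ, hσ, hc⟩ := exists_component hgns
    have h := hH.zGroup_selfAdj.pair_mem hr hr2 hg hσ hc 1
    have ht := hH.trace_of_pair hβ hr hr2 h2 hσ (by rw [mem_zGroup] at h; simpa [pairMap] using h)
    have : a + a' = traceMap F K - LinearMap.id := by rw [← hsum, add_sub_cancel_right]
    rw [this]
    exact sub_mem ht hid
  have hall : ∀ σ : K →ₐ[F] K, ∀ t, pairMap σ t ∈ zGroup H := by
    intro σ t
    by_cases hσ : σ = AlgHom.id F K
    · subst hσ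
      have hid' : ainv (AlgHom.id F K) = AlgHom.id F K := AlgHom.ext fun x => ainv_apply (AlgHom.id F K) x
      have h := hH.zGroup_selfAdj.scalar (t + t)
      rw [show pairMap (AlgHom.id F K) t = LinearMap.mulLeft F (t + t) from LinearMap.ext fun x => by
        simp [pairMap, hid', add_mul]]
      exact h
    · by_contra hne
      exact hH.count_false hβ hr (hH.free_of_proper hr hr2 h2 ⟨σ, hσ, t, hne⟩)
  have hadj : IsAdj a (∑ σ, ainv σ ((autBasis F K).repr a σ) • (ainv σ).toLinearMap) := fun x y => by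
    conv_lhs => rw [← (autBasis F K).sum_repr a]
    simp only [LinearMap.coe_sum, Finset.sum_apply, Finset.sum_mul, Finset.mul_sum, map_sum, autBasis_apply]
    exact Finset.sum_congr rfl fun τ _ => isAdj_smul _ τ x y
  rw [ha.unique hadj]
  conv in (a + _) => arg 1; rw [← (autBasis F K).sum_repr a]
  rw [← Finset.sum_add_distrib]
  refine AddSubgroup.sum_mem _ fun σ _ => ?_
  rw [autBasis_apply]
  exact hall σ _

/-- Every transvection over the smaller field lies in the overgroup. -/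
theorem SOver.transvection_mem (hH : SOver β H) (hβ : MidForm β) (hr : (finrank F K).Prime)
    (hbig : Nontrivial M ∨ finrank F K ≠ 2) {v : X} (hv : v ≠ 0) (c : F) :
    ∃ h ∈ H, ∀ x, h x = x + (c * fform F β x v) • v := by
  obtain ⟨e, he, hev⟩ := hH.exists_trans hβ (e0_ne_zero (K := K) (M := M)) hv
  obtain ⟨l, hl, hle⟩ := hH.zGroup_selfAdj.smul_mem (-c) (hH.trace_mem hβ hr hbig)
  refine ⟨e.restrictScalars F * l * (e.restrictScalars F : GX)⁻¹, mul_mem (mul_mem he hl) (inv_mem he), fun x => ?_⟩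
  show e (l (e.symm x)) = _
  have h1 : l (e.symm x) = e.symm x + (-c * Algebra.trace F K (e.symm x).2.2) • (e0 : X) := by
    rw [hle]
    simp [e0, traceMap, Algebra.smul_def, Prod.ext_iff]
  have h3 := hH.isom _ he (e.symm x) e0
  rw [restrict_apply, restrict_apply, e.apply_symm_apply, hev] at h3
  have h4 : fform F β (e.symm x) e0 = -Algebra.trace F K (e.symm x).2.2 := by
    rw [← fform_e0 (β := β), fform, fform, skew_of_alt (bform_alt hβ), map_neg]
  rw [h1, map_add, e.apply_symm_apply, equiv_smul_of_tower, hev, h3, h4, mul_neg, neg_mul]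

end CfsgLib.FieldMax.Symp
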