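import Cfsg.Agent.Aschbacher.FieldMax.Galois
import Mathlib.RingTheory.Trace.Basic
import Mathlib.FieldTheory.Minpoly.ConjRootClass

/-!
Maps of a field adjoint for the trace form, the decomposition of a self-adjoint additive group stable under the
twisted scalings into pairs of automorphisms, and the tangent stabiliser of such a group.
-/

set_option autoImplicit false
set_option linter.unusedSectionVars false

namespace CfsgLib.FieldMax

open Module

variable {F : Type*} [Field F] [Finite F] {K : Type*} [Field K] [Algebra F K] [Finite K]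

/-- Adjointness for the trace form. -/
def IsAdj (a a' : K →ₗ[F] K) : Prop :=
  ∀ x y : K, Algebra.trace F K (a x * y) = Algebra.trace F K (x * a' y)

theorem eq_zero_of_trace {x : K} (h : ∀ y : K, Algebra.trace F K (x * y) = 0) : x = 0 :=
  (traceForm_nondegenerate F K).1 x h

theorem IsAdj.unique {a a' a'' : K →ₗ[F] K} (h : IsAdj a a') (h' : IsAdj a a'') : a' = a'' := by
  refine LinearMap.ext fun y => sub_eq_zero.1 (eq_zero_of_trace (F := F) fun x => ?_)
  rw [sub_mul, map_sub, mul_comm (a' y), mul_comm (a'' y), ← h, ← h', sub_self]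

theorem IsAdj.symm {a a' : K →ₗ[F] K} (h : IsAdj a a') : IsAdj a' a := fun x y => by
  rw [mul_comm, ← h, mul_comm]

theorem IsAdj.add {a a' b b' : K →ₗ[F] K} (h : IsAdj a a') (h' : IsAdj b b') : IsAdj (a + b) (a' + b') :=
  fun x y => by simp [add_mul, mul_add, h x y, h' x y]

theorem IsAdj.zero : IsAdj (0 : K →ₗ[F] K) 0 := fun x y => by simp

theorem IsAdj.neg {a a' : K →ₗ[F] K} (h : IsAdj a a') : IsAdj (-a) (-a') := fun x y => by simp [h x y]

theorem IsAdj.comp {a a' b b' : K →ₗ[F] K} (h : IsAdj a a') (h' : IsAdj b b') : IsAdj (a.comp b) (b'.comp a') :=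
  fun x y => by rw [LinearMap.comp_apply, h, h']; rfl

theorem isAdj_mulLeft (c : K) : IsAdj (LinearMap.mulLeft F c) (LinearMap.mulLeft F c) := fun x y => by
  simp [mul_comm c x, mul_assoc]

/-- The inverse of an automorphism. -/
noncomputable def ainv (σ : K →ₐ[F] K) : K →ₐ[F] K :=
  ((AlgEquiv.ofBijective σ ⟨σ.toRingHom.injective,
    Finite.injective_iff_surjective.1 σ.toRingHom.injective⟩).symm : K ≃ₐ[F] K).toAlgHom

@[simp] theorem apply_ainv (σ : K →ₐ[F] K) (x : K) : σ (ainv σ x) = x :=
  (AlgEquiv.ofBijective σ _).apply_symm_apply x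

@[simp] theorem ainv_apply (σ : K →ₐ[F] K) (x : K) : ainv σ (σ x) = x :=
  (AlgEquiv.ofBijective σ _).symm_apply_apply x

theorem comp_ainv (σ : K →ₐ[F] K) : σ.comp (ainv σ) = AlgHom.id F K := AlgHom.ext (apply_ainv σ)

theorem ainv_comp (σ : K →ₐ[F] K) : (ainv σ).comp σ = AlgHom.id F K := AlgHom.ext (ainv_apply σ)

theorem ainv_eq_id {σ : K →ₐ[F] K} (h : ainv σ = AlgHom.id F K) : σ = AlgHom.id F K :=
  AlgHom.ext fun x => by simpa [h] using (ainv_apply σ x)

theorem ainv_eq_self {σ : K →ₐ[F] K} (hr : (finrank F K).Prime) (hσ : σ ≠ AlgHom.id F K)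
    (h : ainv σ = σ) : finrank F K = 2 :=
  finrank_eq_two_of_sq hr hσ fun k => by
    have := apply_ainv σ k
    rwa [h] at this

theorem trace_aut (σ : K →ₐ[F] K) (x : K) : Algebra.trace F K (σ x) = Algebra.trace F K x :=
  Algebra.trace_eq_of_algEquiv (AlgEquiv.ofBijective σ ⟨σ.toRingHom.injective,
    Finite.injective_iff_surjective.1 σ.toRingHom.injective⟩) x

theorem isAdj_aut (σ : K →ₐ[F] K) : IsAdj σ.toLinearMap (ainv σ).toLinearMap := fun x y => by
  show Algebra.trace F K (σ x * y) = Algebra.trace F K (x * ainv σ y)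
  rw [← trace_aut σ (x * ainv σ y), map_mul σ, apply_ainv]

theorem isAdj_smul (c : K) (σ : K →ₐ[F] K) :
    IsAdj (c • σ.toLinearMap) ((ainv σ) c • (ainv σ).toLinearMap) := by
  have h := (isAdj_mulLeft c).comp (isAdj_aut σ)
  convert h using 1
  · exact LinearMap.ext fun x => by simp
  · exact LinearMap.ext fun x => by simp

/-- The component of an automorphism and its inverse. -/
noncomputable def pairMap (σ : K →ₐ[F] K) (t : K) : K →ₗ[F] K :=
  t • σ.toLinearMap + (ainv σ) t • (ainv σ).toLinearMap

theorem autBasis_repr_smul (c : K) (σ ρ : K →ₐ[F] K) [Decidable (σ = ρ)] :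
    (autBasis F K).repr (c • σ.toLinearMap) ρ = if σ = ρ then c else 0 := by
  rw [← autBasis_apply, map_smul, Finsupp.smul_apply, Basis.repr_self, Finsupp.single_apply]
  split_ifs <;> simp_all

theorem pairMap_repr (σ : K →ₐ[F] K) (t : K) (ρ : K →ₐ[F] K) [Decidable (σ = ρ)] [Decidable (ainv σ = ρ)] :
    (autBasis F K).repr (pairMap σ t) ρ =
      (if σ = ρ then t else 0) + if ainv σ = ρ then ainv σ t else 0 := by
  rw [pairMap, map_add, Finsupp.add_apply, autBasis_repr_smul, autBasis_repr_smul]

theorem exists_adj (a : K →ₗ[F] K) : ∃ a', IsAdj a a' := by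
  classical
  have : Fintype (K →ₐ[F] K) := Fintype.ofFinite _
  rw [← (autBasis F K).sum_repr a]
  refine Finset.sum_induction _ (fun b => ∃ b', IsAdj b b') ?_ ⟨0, IsAdj.zero⟩ fun σ _ => ?_
  · rintro b c ⟨b', hb⟩ ⟨c', hc⟩; exact ⟨_, hb.add hc⟩
  · rw [autBasis_apply]; exact ⟨_, isAdj_smul _ σ⟩

theorem adj_repr {a a' : K →ₗ[F] K} (h : IsAdj a a') (σ : K →ₐ[F] K) :
    (autBasis F K).repr a' (ainv σ) = ainv σ ((autBasis F K).repr a σ) := by
  classical
  have : Fintype (K →ₐ[F] K) := Fintype.ofFinite _
  have hsum : IsAdj a (∑ τ, (ainv τ) ((autBasis F K).repr a τ) • (ainv τ).toLinearMap) := by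
    intro x y
    conv_lhs => rw [← (autBasis F K).sum_repr a]
    simp only [LinearMap.coe_sum, Finset.sum_apply, Finset.sum_mul, Finset.mul_sum, map_sum, autBasis_apply]
    exact Finset.sum_congr rfl fun τ _ => isAdj_smul _ τ x y
  rw [h.unique hsum, map_sum, Finsupp.finsetSum_apply, Finset.sum_eq_single σ]
  · rw [autBasis_repr_smul, if_pos rfl]
  · intro τ _ hτ
    rw [autBasis_repr_smul, if_neg]
    intro e
    apply hτ
    refine AlgHom.ext fun k => ?_
    have h2 := AlgHom.congr_fun e (τ k)
    rw [ainv_apply] at h2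
    rw [← apply_ainv σ (τ k), ← h2]
  · simp

variable (F K) in
/-- The rank one map given by the trace. -/
noncomputable def traceMap : K →ₗ[F] K := (Algebra.linearMap F K).comp (Algebra.trace F K)

theorem traceMap_eq [Fintype (K →ₐ[F] K)] : traceMap F K = ∑ σ : K →ₐ[F] K, σ.toLinearMap := by
  refine LinearMap.ext fun x => ?_
  rw [LinearMap.coe_sum, Finset.sum_apply]
  show algebraMap F K (Algebra.trace F K x) = _
  rw [trace_eq_sum_automorphisms]
  exact Fintype.sum_equiv (Algebra.IsAlgebraic.algEquivEquivAlgHom F K).toEquiv _ _ fun σ => rfl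

/-- The rank one map is a scalar plus a map and its adjoint. -/
theorem exists_half (hr : (finrank F K).Prime) :
    ∃ a a' : K →ₗ[F] K, IsAdj a a' ∧ a + a' + LinearMap.id = traceMap F K := by
  classical
  have : Fintype (K →ₐ[F] K) := Fintype.ofFinite _
  obtain ⟨τ, hτ⟩ : ∃ τ : K →ₐ[F] K, τ ≠ AlgHom.id F K := by
    by_contra hno
    push Not at hno
    have h1 : Nat.card (K →ₐ[F] K) ≤ 1 := by
      rw [Finite.card_le_one_iff_subsingleton]
      exact ⟨fun a b => (hno a).trans (hno b).symm⟩
    rw [card_algHom] at h1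
    have := hr.two_le
    omega
  by_cases h2 : finrank F K = 2
  · have hinv : ainv τ = τ := by
      by_contra hne
      have h3 : ({AlgHom.id F K, τ, ainv τ} : Set (K →ₐ[F] K)).ncard = 3 := by
        rw [Set.ncard_eq_three]
        exact ⟨_, _, _, Ne.symm hτ, fun e => hτ (ainv_eq_id e.symm), Ne.symm hne, rfl⟩
      have h4 := Set.ncard_le_card ({AlgHom.id F K, τ, ainv τ} : Set (K →ₐ[F] K))
      rw [card_algHom, h2] at h4
      omega
    obtain ⟨θ, hθ⟩ := Algebra.trace_surjective F K 1
    refine ⟨_, _, isAdj_smul θ τ, ?_⟩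
    have huniv : (Finset.univ : Finset (K →ₐ[F] K)) = {AlgHom.id F K, τ} := by
      refine (Finset.eq_of_subset_of_card_le (Finset.subset_univ _) ?_).symm
      rw [Finset.card_univ, ← Nat.card_eq_fintype_card, card_algHom, h2,
        Finset.card_insert_of_notMem (by simpa using Ne.symm hτ), Finset.card_singleton]
    rw [traceMap_eq, huniv, Finset.sum_pair (Ne.symm hτ), hinv, ← add_smul]
    have hsum : θ + τ θ = 1 := by
      have h5 := congrArg (algebraMap F K) hθ
      rw [trace_eq_sum_automorphisms, map_one] at h5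
      rw [← h5, Fintype.sum_equiv (Algebra.IsAlgebraic.algEquivEquivAlgHom F K).toEquiv (fun σ : K ≃ₐ[F] K => σ θ) (fun σ => σ θ) fun σ => rfl,
        huniv, Finset.sum_pair (Ne.symm hτ)]
      rfl
    rw [hsum, one_smul, add_comm]
    rfl
  · let N := Fintype.equivFin (K →ₐ[F] K)
    let P : Finset (K →ₐ[F] K) := Finset.univ.filter fun σ => N σ < N (ainv σ)
    have hadj : IsAdj (∑ σ ∈ P, σ.toLinearMap) (∑ σ ∈ P, (ainv σ).toLinearMap) := fun x y => by
      simp only [LinearMap.coe_sum, Finset.sum_apply, Finset.sum_mul, Finset.mul_sum, map_sum]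
      exact Finset.sum_congr rfl fun σ _ => isAdj_aut σ x y
    refine ⟨_, _, hadj, ?_⟩
    have hii : ∀ σ : K →ₐ[F] K, ainv (ainv σ) = σ := fun σ => AlgHom.ext fun x => by
      have h1 := ainv_apply (ainv σ) (σ x)
      rwa [ainv_apply σ] at h1
    have hne : ∀ σ, σ ≠ AlgHom.id F K → N σ ≠ N (ainv σ) := fun σ hσ e =>
      h2 (ainv_eq_self hr hσ (N.injective e).symm)
    have hid : ainv (AlgHom.id F K) = AlgHom.id F K := AlgHom.ext fun x => ainv_apply (AlgHom.id F K) x
    have himg : P.image ainv = (Finset.univ.erase (AlgHom.id F K)).filter (fun σ => ¬ N σ < N (ainv σ)) := by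
      ext σ
      simp only [Finset.mem_image, Finset.mem_filter, Finset.mem_erase, Finset.mem_univ, true_and, P, and_true]
      constructor
      · rintro ⟨ρ, hρ, rfl⟩
        refine ⟨fun e => ?_, by rw [hii]; exact not_lt.2 hρ.le⟩
        rw [e, ainv_eq_id e] at hρ
        exact lt_irrefl _ hρ
      · rintro ⟨h1, h3⟩
        exact ⟨ainv σ, by rw [hii]; exact lt_of_le_of_ne (not_lt.1 h3) (Ne.symm (hne σ h1)), hii σ⟩
    rw [← Finset.sum_image (f := fun σ : K →ₐ[F] K => σ.toLinearMap) (g := ainv) fun a _ b _ e => by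
      rw [← hii a, e, hii], himg, traceMap_eq, ← Finset.add_sum_erase _ _ (Finset.mem_univ (AlgHom.id F K)),
      ← Finset.sum_filter_add_sum_filter_not (Finset.univ.erase (AlgHom.id F K)) (fun σ => N σ < N (ainv σ))]
    have hP : P = (Finset.univ.erase (AlgHom.id F K)).filter (fun σ => N σ < N (ainv σ)) := by
      ext σ
      simp only [Finset.mem_filter, Finset.mem_erase, Finset.mem_univ, true_and, P, and_true]
      exact ⟨fun h => ⟨fun e => by rw [e, hid] at h; exact lt_irrefl _ h, h⟩, fun h => h.2⟩
    rw [hP, add_comm]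
    rfl

/-- An additive group of self-adjoint maps containing the scalars and stable under twisted scalings. -/
structure SelfAdjGroup (Z : AddSubgroup (K →ₗ[F] K)) : Prop where
  adj : ∀ g ∈ Z, IsAdj g g
  mul : ∀ g ∈ Z, ∀ a : K, a ≠ 0 → ((LinearMap.mulLeft F a).comp g).comp (LinearMap.mulLeft F a) ∈ Z
  scalar : ∀ c : K, LinearMap.mulLeft F c ∈ Z

variable {Z : AddSubgroup (K →ₗ[F] K)}

theorem SelfAdjGroup.smul_mem (hZ : SelfAdjGroup Z) (s : F) {g : K →ₗ[F] K} (hg : g ∈ Z) : s • g ∈ Z := by
  have hsq : ∀ u : F, (u * u) • g ∈ Z := fun u => by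
    by_cases hu : u = 0
    · subst hu; simp
    · have h := hZ.mul g hg (algebraMap F K u) (by simpa using hu)
      convert h using 1
      refine LinearMap.ext fun x => ?_
      show (u * u) • g x = algebraMap F K u * g (algebraMap F K u * x)
      rw [← Algebra.smul_def, ← Algebra.smul_def, map_smul, smul_smul]
  by_cases h2 : (2 : F) = 0
  · have : CharP F 2 := ringChar.of_eq ((CharP.ringChar_of_prime_eq_zero Nat.prime_two (by exact_mod_cast h2)))
    obtain ⟨u, hu⟩ := (Finite.injective_iff_surjective.1 (frobenius_inj F 2)) s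
    rw [← hu, frobenius_def, pow_two]
    exact hsq u
  · have h4 : (2 : F) * 2 ≠ 0 := mul_ne_zero h2 h2
    have e : s • g = (((s + 1) / 2) * ((s + 1) / 2)) • g - (((s - 1) / 2) * ((s - 1) / 2)) • g := by
      refine Eq.trans ?_ (sub_smul _ _ g)
      congr 1
      field_simp
      ring
    rw [e]
    exact Z.sub_mem (hsq _) (hsq _)

/-- A non-scalar member brings in the whole pair of one of its automorphisms. -/
theorem SelfAdjGroup.pair_mem (hZ : SelfAdjGroup Z) (hr : (finrank F K).Prime) (hr2 : finrank F K ≠ 2)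
    {g : K →ₗ[F] K} (hg : g ∈ Z) {σ : K →ₐ[F] K} (hσ : σ ≠ AlgHom.id F K)
    (hc : (autBasis F K).repr g σ ≠ 0) (t : K) : pairMap σ t ∈ Z := by
  classical
  have : Fintype (K →ₐ[F] K) := Fintype.ofFinite _
  obtain ⟨u, hu⟩ := IsCyclic.exists_generator (α := Kˣ)
  let χ : (K →ₐ[F] K) → K := fun τ => (u : K) * τ (u : K)
  let Zs : Submodule F (K →ₗ[F] K) := { Z with smul_mem' := fun s _ h => hZ.smul_mem s h }
  let Ta : (K →ₗ[F] K) →ₗ[F] (K →ₗ[F] K) :=
    { toFun := fun h => ((LinearMap.mulLeft F (u : K)).comp h).comp (LinearMap.mulLeft F (u : K))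
      map_add' := fun a b => LinearMap.ext fun x => by simp [mul_add]
      map_smul' := fun c a => LinearMap.ext fun x => by simp [Algebra.smul_def, mul_left_comm] }
  have hTa : ∀ (h : K →ₗ[F] K) τ, (autBasis F K).repr (Ta h) τ = χ τ * (autBasis F K).repr h τ := fun h τ => by
    show (autBasis F K).repr (((LinearMap.mulLeft F (u : K)).comp h).comp (LinearMap.mulLeft F (u : K))) τ = _
    rw [autBasis_repr_compMul, show (LinearMap.mulLeft F (u : K)).comp h = (u : K) • h from
      LinearMap.ext fun x => by simp, map_smul, Finsupp.smul_apply, smul_eq_mul]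
    ring
  have hsmulrepr : ∀ (s : F) (h : K →ₗ[F] K) τ, (autBasis F K).repr (s • h) τ =
      algebraMap F K s * (autBasis F K).repr h τ := fun s h τ => by
    rw [show s • h = algebraMap F K s • h from LinearMap.ext fun x => by simp [Algebra.smul_def], map_smul,
      Finsupp.smul_apply, smul_eq_mul]
  have hpoly : ∀ (f : Polynomial F) (h : K →ₗ[F] K), (h ∈ Z → Polynomial.aeval Ta f h ∈ Z) ∧
      ∀ τ, (autBasis F K).repr (Polynomial.aeval Ta f h) τ = Polynomial.aeval (χ τ) f * (autBasis F K).repr h τ := by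
    intro f
    induction f using Polynomial.induction_on' with
    | add a b ha hb =>
      intro h
      refine ⟨fun hh => by rw [map_add]; exact Z.add_mem ((ha h).1 hh) ((hb h).1 hh), fun τ => ?_⟩
      rw [map_add, map_add, LinearMap.add_apply, map_add, Finsupp.add_apply, (ha h).2, (hb h).2, add_mul]
    | monomial n s =>
      induction n with
      | zero =>
        intro h
        simp only [Polynomial.monomial_zero_left, Polynomial.aeval_C, Module.algebraMap_end_apply]
        exact ⟨fun hh => hZ.smul_mem s hh, fun τ => hsmulrepr s h τ⟩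
      | succ n ih =>
        intro h
        have e : Polynomial.aeval Ta (Polynomial.monomial (n + 1) s) h =
            Polynomial.aeval Ta (Polynomial.monomial n s) (Ta h) := by
          simp [Polynomial.aeval_monomial, pow_succ]
        refine ⟨fun hh => ?_, fun τ => ?_⟩
        · rw [e]
          exact (ih (Ta h)).1 (hZ.mul h hh _ u.ne_zero)
        · rw [e, (ih (Ta h)).2 τ, hTa, Polynomial.aeval_monomial, Polynomial.aeval_monomial, pow_succ]
          ring
  -- a generator separates the pairs
  have key : ∀ τ, Polynomial.aeval (χ σ) (minpoly F (χ τ)) = 0 → τ = σ ∨ τ = ainv σ := by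
    intro τ hτ
    have hconj : IsConjRoot F (χ τ) (χ σ) := isConjRoot_of_aeval_eq_zero (Algebra.IsIntegral.isIntegral _) hτ
    obtain ⟨e, he⟩ := isConjRoot_iff_exists_algEquiv.1 hconj
    set φ : K →ₐ[F] K := (e.symm : K ≃ₐ[F] K).toAlgHom
    have hφ : φ (χ τ) = χ σ := by
      show e.symm (χ τ) = χ σ
      rw [AlgEquiv.symm_apply_eq, he]
    have hall : ∀ k : K, k * σ k = φ k * φ (τ k) := by
      intro k
      by_cases hk : k = 0
      · subst hk; simp
      · obtain ⟨i, hi⟩ := mem_powers_iff_mem_zpowers.2 (hu (Units.mk0 k hk))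
        have hk' : k = (u : K) ^ i := by
          rw [← Units.val_pow_eq_pow_val, show u ^ i = Units.mk0 k hk from hi, Units.val_mk0]
        rw [hk', map_pow, map_pow, map_pow, map_pow, ← mul_pow, ← mul_pow, ← map_mul]
        exact congrArg (· ^ i) hφ.symm
    have hlin : (AlgHom.id F K).toLinearMap + σ.toLinearMap = φ.toLinearMap + (φ.comp τ).toLinearMap := by
      refine LinearMap.ext fun k => ?_
      have h1 := hall (k + 1)
      rw [map_add σ, map_add τ, map_add φ, map_add φ, map_one σ, map_one τ, map_one φ] at h1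
      simp only [LinearMap.add_apply, AlgHom.toLinearMap_apply, AlgHom.id_apply, AlgHom.comp_apply]
      linear_combination h1 - hall k
    rw [← autBasis_apply, ← autBasis_apply, ← autBasis_apply, ← autBasis_apply] at hlin
    have hrep := congrArg (autBasis F K).repr hlin
    rw [map_add, map_add, Basis.repr_self, Basis.repr_self, Basis.repr_self, Basis.repr_self] at hrep
    have h0 := DFunLike.congr_fun hrep (AlgHom.id F K)
    rw [Finsupp.add_apply, Finsupp.add_apply, Finsupp.single_eq_same, Finsupp.single_eq_of_ne (Ne.symm hσ),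
      add_zero] at h0
    by_cases h1 : φ = AlgHom.id F K
    · left
      rw [h1] at hrep
      have h3 := Finsupp.single_left_injective (one_ne_zero (α := K)) (add_left_cancel hrep)
      rw [AlgHom.id_comp] at h3
      exact h3.symm
    · by_cases h3 : φ.comp τ = AlgHom.id F K
      · right
        rw [h3, add_comm (Finsupp.single φ _)] at hrep
        have h4 := Finsupp.single_left_injective (one_ne_zero (α := K)) (add_left_cancel hrep)
        refine AlgHom.ext fun k => ?_
        have h5 := AlgHom.congr_fun h3 k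
        rw [AlgHom.comp_apply, ← h4, AlgHom.id_apply] at h5
        nth_rw 2 [← h5]
        rw [ainv_apply]
      · rw [Finsupp.single_eq_of_ne (Ne.symm h1), Finsupp.single_eq_of_ne (Ne.symm h3), add_zero] at h0
        exact absurd h0 one_ne_zero
  set f : Polynomial F := ∏ τ ∈ Finset.univ.filter (fun τ : K →ₐ[F] K => τ ≠ σ ∧ τ ≠ ainv σ), minpoly F (χ τ)
  have hne : σ ≠ ainv σ := fun e => hr2 (ainv_eq_self hr hσ e.symm)
  set g' := Polynomial.aeval Ta f g
  set c := (autBasis F K).repr g' σ with hc'
  have hc0 : c ≠ 0 := by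
    rw [hc', (hpoly f g).2, map_prod]
    refine mul_ne_zero (Finset.prod_ne_zero_iff.2 fun τ hτ h => ?_) hc
    rcases key τ h with e | e
    · exact (Finset.mem_filter.1 hτ).2.1 e
    · exact (Finset.mem_filter.1 hτ).2.2 e
  have hg' : g' = pairMap σ c := by
    refine (autBasis F K).repr.injective (Finsupp.ext fun ρ => ?_)
    rw [pairMap_repr]
    by_cases h1 : σ = ρ
    · subst h1; simp [hne.symm, c]
    · by_cases h2 : ainv σ = ρ
      · subst h2
        rw [if_neg h1, if_pos rfl, zero_add]
        exact adj_repr (hZ.adj _ ((hpoly f g).1 hg)) σ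
      · rw [if_neg h1, if_neg h2, add_zero, (hpoly f g).2, map_prod, Finset.prod_eq_zero
          (Finset.mem_filter.2 ⟨Finset.mem_univ ρ, Ne.symm h1, Ne.symm h2⟩) (minpoly.aeval F _), zero_mul]
  -- the scalings span the field
  let C : Submodule F K :=
    { carrier := {t | pairMap σ t ∈ Z}
      zero_mem' := by simp [pairMap]
      add_mem' := fun {a b} ha hb => by
        have e : pairMap σ (a + b) = pairMap σ a + pairMap σ b := by simp [pairMap, add_smul]; abel
        show pairMap σ (a + b) ∈ Z
        rw [e]; exact Z.add_mem ha hb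
      smul_mem' := fun s a ha => by
        have e : pairMap σ (s • a) = s • pairMap σ a := by simp [pairMap, smul_assoc]
        show pairMap σ (s • a) ∈ Z
        rw [e]; exact hZ.smul_mem s ha }
  let A : Subalgebra F K :=
    { carrier := {x | ∀ a ∈ C, x * a ∈ C}
      mul_mem' := fun {x y} hx hy a ha => by rw [mul_assoc]; exact hx _ (hy a ha)
      add_mem' := fun {x y} hx hy a ha => by rw [add_mul]; exact C.add_mem (hx a ha) (hy a ha)
      algebraMap_mem' := fun s a ha => by rw [← Algebra.smul_def]; exact C.smul_mem s ha }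
  have hχA : χ σ ∈ A := fun a ha => by
    show pairMap σ (χ σ * a) ∈ Z
    have h := hZ.mul _ ha (u : K) u.ne_zero
    convert h using 1
    refine LinearMap.ext fun x => ?_
    simp only [pairMap, χ, LinearMap.add_apply, LinearMap.comp_apply, LinearMap.mulLeft_apply, LinearMap.smul_apply,
      AlgHom.toLinearMap_apply, smul_eq_mul, map_mul, ainv_apply]
    ring
  have hχF : χ σ ∉ (⊥ : Subalgebra F K) := by
    rw [Algebra.mem_bot]
    rintro ⟨s, hs⟩
    apply hr2
    refine finrank_eq_two_of_sq hr hσ fun k => ?_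
    by_cases hk : k = 0
    · subst hk; simp
    · obtain ⟨i, hi⟩ := mem_powers_iff_mem_zpowers.2 (hu (Units.mk0 k hk))
      have hk' : k = (u : K) ^ i := by
        rw [← Units.val_pow_eq_pow_val, show u ^ i = Units.mk0 k hk from hi, Units.val_mk0]
      have h1 : σ (χ σ) = χ σ := by rw [← hs]; exact σ.commutes s
      have h2 : σ (σ (u : K)) = (u : K) := by
        simp only [χ, map_mul] at h1
        rw [mul_comm] at h1
        exact mul_right_cancel₀ (fun e => u.ne_zero (σ.toRingHom.injective (e.trans (map_zero σ).symm))) h1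
      rw [hk', map_pow, map_pow, h2]
  have hA : A = ⊤ := by
    have := Subalgebra.isSimpleOrder_of_finrank_prime F K hr
    rcases this.eq_bot_or_eq_top A with h | h
    · exact absurd (h ▸ hχA) hχF
    · exact h
  have h3 : t / c * c ∈ C := (hA ▸ Algebra.mem_top : t / c ∈ A) c (by
    show pairMap σ c ∈ Z
    rw [← hg']; exact (hpoly f g).1 hg)
  rwa [div_mul_cancel₀ t hc0] at h3

/-- In odd characteristic the tangent stabiliser of a proper group consists of scalars. -/
theorem SelfAdjGroup.tangent (hZ : SelfAdjGroup Z) (hr : (finrank F K).Prime) (hr2 : finrank F K ≠ 2)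
    (h2 : (2 : K) ≠ 0) (hne : ∃ σ : K →ₐ[F] K, σ ≠ AlgHom.id F K ∧ ∃ t, pairMap σ t ∉ Z)
    {A A' : K →ₗ[F] K} (hA : IsAdj A A') (hst : ∀ g ∈ Z, A.comp g + g.comp A' ∈ Z) :
    ∃ c : K, A = LinearMap.mulLeft F c := by
  classical
  by_contra hno
  push Not at hno
  obtain ⟨τ, hτ, hτc⟩ := exists_component hno
  have hinI : ∀ σ : K →ₐ[F] K, (σ = AlgHom.id F K ∨ ∀ t, pairMap σ t ∈ Z) →
      (τ.comp σ = AlgHom.id F K ∨ ∀ t, pairMap (τ.comp σ) t ∈ Z) := by
    intro σ hσ
    by_cases hρ : τ.comp σ = AlgHom.id F K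
    · exact Or.inl hρ
    right
    by_contra hnot
    set ρ := τ.comp σ with hρdef
    have hzero : ∀ h ∈ Z, (autBasis F K).repr h ρ = 0 := fun h hh => by
      by_contra hne'
      exact hnot fun t => hZ.pair_mem hr hr2 hh hρ hne' t
    by_cases hσ1 : σ = AlgHom.id F K
    · subst hσ1
      have hρτ : ρ = τ := AlgHom.comp_id τ
      rw [hρτ] at hzero
      -- compare the coefficients against scalar members
      have h1 : ∀ c : K, τ c * (autBasis F K).repr A τ + c * τ ((autBasis F K).repr A (ainv τ)) = 0 := by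
        intro c
        have h := hzero _ (hst _ (hZ.scalar c))
        rw [map_add, Finsupp.add_apply, autBasis_repr_compMul,
          show (LinearMap.mulLeft F c).comp A' = c • A' from LinearMap.ext fun x => by simp, map_smul,
          Finsupp.smul_apply, smul_eq_mul] at h
        have h' := adj_repr hA (ainv τ)
        have hii : ainv (ainv τ) = τ := AlgHom.ext fun x => by
          have h1 := ainv_apply (ainv τ) (τ x)
          rwa [ainv_apply τ] at h1
        rw [hii] at h'
        rwa [h'] at h
      have e1 := h1 1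
      rw [map_one, one_mul, one_mul] at e1
      obtain ⟨k, hk⟩ : ∃ k, τ k ≠ k := by
        by_contra hno
        push Not at hno
        exact hτ (AlgHom.ext hno)
      have e2 := h1 k
      have : (τ k - k) * (autBasis F K).repr A τ = 0 := by linear_combination e2 - k * e1
      exact hτc ((mul_eq_zero.1 this).resolve_left (sub_ne_zero.2 hk))
    · have hσI := hσ.resolve_left hσ1
      set X := (autBasis F K).repr (A.comp (ainv σ).toLinearMap) ρ
      set Y := (autBasis F K).repr (σ.toLinearMap.comp A') ρ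
      set W := (autBasis F K).repr ((ainv σ).toLinearMap.comp A') ρ
      have h1 : ∀ t : K, τ t * (autBasis F K).repr A τ + ρ t * X + (t * Y + ainv σ t * W) = 0 := by
        intro t
        have h := hzero _ (hst _ (hσI t))
        have eA : A.comp (pairMap σ t) = (A.comp (LinearMap.mulLeft F t)).comp σ.toLinearMap +
            (A.comp (ainv σ).toLinearMap).comp (LinearMap.mulLeft F t) := LinearMap.ext fun x => by
          simp [pairMap]
        have eB : (pairMap σ t).comp A' = t • σ.toLinearMap.comp A' +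
            ainv σ t • (ainv σ).toLinearMap.comp A' := LinearMap.ext fun x => by
          simp [pairMap]
        rw [eA, eB, map_add, Finsupp.add_apply, map_add, Finsupp.add_apply, map_add, Finsupp.add_apply,
          autBasis_repr_compMul (A.comp (ainv σ).toLinearMap), map_smul, map_smul, Finsupp.smul_apply,
          Finsupp.smul_apply] at h
        rw [show (autBasis F K).repr ((A.comp (LinearMap.mulLeft F t)).comp σ.toLinearMap) ρ =
          τ t * (autBasis F K).repr A τ by rw [hρdef, comp_autBasis_left, autBasis_repr_compMul]] at h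
        exact h
      have h2' : (autBasis F K).repr A τ • τ.toLinearMap + X • ρ.toLinearMap + Y • (AlgHom.id F K).toLinearMap +
          W • (ainv σ).toLinearMap = 0 := LinearMap.ext fun t => by
        simp only [LinearMap.add_apply, LinearMap.smul_apply, smul_eq_mul, LinearMap.zero_apply,
          AlgHom.toLinearMap_apply, AlgHom.id_apply]
        linear_combination h1 t
      have h3 := congrArg (fun e => (autBasis F K).repr e τ) h2'
      simp only [map_add, map_zero, Finsupp.add_apply, Finsupp.zero_apply, autBasis_repr_smul, if_pos] at h3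
      have hn1 : ρ ≠ τ := fun e => hσ1 (AlgHom.ext fun x => τ.toRingHom.injective (AlgHom.congr_fun e x))
      have hn2 : ainv σ ≠ τ := fun e => hρ (by rw [hρdef, ← e, ainv_comp])
      rw [if_neg hn1, if_neg (Ne.symm hτ), if_neg hn2, add_zero, add_zero, add_zero] at h3
      exact hτc h3
  obtain ⟨σ, hσ, t, ht⟩ := hne
  obtain ⟨j, hj⟩ := exists_pow_eq hr hτ σ
  have : ∀ i : ℕ, τ ^ i = AlgHom.id F K ∨ ∀ t, pairMap (τ ^ i) t ∈ Z := by
    intro i
    induction i with
    | zero => exact Or.inl rfl
    | succ i ih =>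
      rw [pow_succ']
      exact hinI _ ih
  exact ht (hj ▸ (this j).resolve_left (hj ▸ hσ) t)

end CfsgLib.FieldMax
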